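import Groth.Agent.Lib.Kummer24.MuConst
import Groth.Agent.Lib.Dix24.Kummer
import Groth.Agent.Lib.EtAcyc24.LqfCriterion
import Groth.Agent.Lib.EtStalk.HofPush
import Groth.Prelude.Def_EtLim
import Groth.Agent.S0108

/-!
# The Kummer chase for the comparison in degree two
-/

set_option autoImplicit false
set_option linter.style.haveILetI false
set_option backward.isDefEq.respectTransparency.types false
universe u

open CategoryTheory CategoryTheory.Limits AlgebraicGeometry Opposite CategoryTheory.Abelian Polynomial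

noncomputable section

namespace Groth.Agent.PBC24

open Groth.Agent Groth.Agent.Kummer24

variable {S : Scheme.{u}} {n : ℕ} (hn : 1 ≤ n) (hunit : IsUnit (n : Γ(S, ⊤))) (ζ : Γ(S, ⊤))
  (hζ : Polynomial.aeval ζ (Polynomial.cyclotomic n ℤ) = 0)

/-- The map `ℤ/n → G_m` given by a root of unity. -/
def zetaMap : EtCoh.const S (ZMod n) ⟶ EtCoh.Gm S :=
  ⟨sheafifyLift S.smallEtaleTopology (preHom hn ζ hζ) (EtCoh.Gm S).property⟩

theorem toSheafify_zetaMap :
    toSheafify S.smallEtaleTopology ((Functor.const S.Etaleᵒᵖ).obj (AddCommGrpCat.of (ULift.{u + 1} (ZMod n)))) ≫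
      (zetaMap hn ζ hζ).hom = preHom hn ζ hζ :=
  toSheafify_sheafifyLift S.smallEtaleTopology _ (EtCoh.Gm S).property

theorem zetaMap_powMap : zetaMap hn ζ hζ ≫ EtCoh.powMap S n = 0 := by
  refine ObjectProperty.hom_ext _ (sheafify_hom_ext _ _ _ (EtCoh.Gm S).property ?_)
  show toSheafify S.smallEtaleTopology _ ≫ (zetaMap hn ζ hζ).hom ≫ (EtCoh.powMap S n).hom =
    toSheafify S.smallEtaleTopology _ ≫ 0
  rw [reassoc_of% toSheafify_zetaMap hn ζ hζ, CategoryTheory.Limits.comp_zero]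
  refine NatTrans.ext (funext fun V => AddCommGrpCat.ext fun m => ?_)
  obtain ⟨i, rfl⟩ := exists_natCast hn m
  show (EtCoh.powMap S n).hom.app (op V.unop) (mapV hn ζ hζ V.unop _) = 0
  rw [mapV_natCast, powMap_sec, ← pow_mul, mul_comm, pow_mul, zetaU_pow, one_pow, sec_one]

/-- The Kummer sequence with constant kernel. -/
def kummerSeq : ShortComplex (EtCoh.Ab S) :=
  ShortComplex.mk (zetaMap hn ζ hζ) (EtCoh.powMap S n) (zetaMap_powMap hn ζ hζ)

include hunit in
theorem kummerSeq_shortExact : (kummerSeq hn ζ hζ).ShortExact := by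
  let J := S.smallEtaleTopology
  let P := (Functor.const S.Etaleᵒᵖ).obj (AddCommGrpCat.of (ULift.{u + 1} (ZMod n)))
  let k : EtCoh.const S (ZMod n) ⟶ EtCoh.mu S n := kernel.lift _ (zetaMap hn ζ hζ) (zetaMap_powMap hn ζ hζ)
  have hΦ := toSheafify_zetaMap hn ζ hζ
  have hk : k.hom ≫ (EtCoh.muι S n).hom = (zetaMap hn ζ hζ).hom :=
    congrArg (·.hom) (kernel.lift_ι _ (zetaMap hn ζ hζ) (zetaMap_powMap hn ζ hζ))
  haveI : Presheaf.IsLocallyInjective J (toSheafify J P ≫ (zetaMap hn ζ hζ).hom) := by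
    rw [hΦ]; exact isLocallyInjective_preHom hn hunit ζ hζ
  haveI : Presheaf.IsLocallyInjective J (zetaMap hn ζ hζ).hom :=
    (Presheaf.comp_isLocallyInjective_iff J (toSheafify J P) (zetaMap hn ζ hζ).hom).mp inferInstance
  haveI : Presheaf.IsLocallyInjective J (k.hom ≫ (EtCoh.muι S n).hom) := by
    rw [hk]; infer_instance
  haveI : Sheaf.IsLocallyInjective k :=
    Presheaf.isLocallyInjective_of_isLocallyInjective J k.hom (EtCoh.muι S n).hom
  haveI : Sheaf.IsLocallySurjective k := by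
    refine ⟨fun {V} s => ?_⟩
    rw [EtSite.mem_et_iff]
    intro x
    obtain ⟨a, ha⟩ := exists_sec V ((EtCoh.muι S n).hom.app (op V) s)
    have han : a ^ n = 1 := by
      refine sec_injective V ?_
      rw [← powMap_sec, ha, sec_one]
      exact ConcreteCategory.congr_hom (congrArg (fun φ => φ.hom.app (op V))
        (kernel.condition (EtCoh.powMap S n))) s
    obtain ⟨Y, f, y, m, hy, hm⟩ := exists_local hn hunit ζ hζ V a han x
    refine ⟨Y, f, y, ⟨(toSheafify J P).app (op Y) m, ?_⟩, hy⟩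
    haveI : Mono (EtCoh.muι S n) := inferInstanceAs (Mono (kernel.ι _))
    haveI : Mono (EtCoh.muι S n).hom :=
      inferInstanceAs (Mono ((sheafToPresheaf S.smallEtaleTopology AddCommGrpCat.{u + 1}).map (EtCoh.muι S n)))
    refine (AddCommGrpCat.mono_iff_injective ((EtCoh.muι S n).hom.app (op Y))).mp inferInstance ?_
    have e1 := ConcreteCategory.congr_hom (NatTrans.congr_app hk (op Y)) ((toSheafify J P).app (op Y) m)
    have e2 := ConcreteCategory.congr_hom (NatTrans.congr_app hΦ (op Y)) m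
    refine (e1.trans e2).trans ?_
    refine (hm.trans ?_).trans (NatTrans.naturality_apply (EtCoh.muι S n).hom f.op s).symm
    rw [← res_sec, ha]
  have hkiso : IsIso k := (Sheaf.isLocallyBijective_iff_isIso k).mp ⟨inferInstance, inferInstance⟩
  haveI : Epi (kummerSeq hn ζ hζ).g := S0108.result S n hunit
  haveI hm : Mono (kummerSeq hn ζ hζ).f := by
    show Mono (zetaMap hn ζ hζ)
    rw [← kernel.lift_ι (EtCoh.powMap S n) (zetaMap hn ζ hζ) (zetaMap_powMap hn ζ hζ)]
    exact @mono_comp _ _ _ _ _ k (@IsIso.mono_of_iso _ _ _ _ k hkiso) (kernel.ι (EtCoh.powMap S n)) equalizer.ι_mono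
  refine { exact := ShortComplex.exact_of_f_is_kernel _ (IsLimit.ofIsoLimit (kernelIsKernel (EtCoh.powMap S n)) ?_)
           mono_f := hm
           epi_g := inferInstance }
  exact (Fork.ext (@asIso _ _ _ _ k hkiso) (kernel.lift_ι _ _ _)).symm

theorem homEquiv_zetaMap (m : ULift.{u + 1} (ZMod n)) :
    (EtCore.constAdj S).homEquiv _ _ (zetaMap hn ζ hζ) m = mapV hn ζ hζ (EtCoh.top S) m := by
  have h := ConcreteCategory.congr_hom (NatTrans.congr_app (toSheafify_zetaMap hn ζ hζ) (op (EtCoh.top S))) m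
  exact h

variable {W Z : Scheme.{u}} (i : Z ⟶ W) [PreservesFiniteLimits (EtCoh.pull i)]

/-- The comparison `i⁻¹ G_m → G_m`. -/
def gmComp : (EtCoh.pull i).obj (EtCoh.Gm W) ⟶ EtCoh.Gm Z :=
  (EtCoh.pull i).map (EtLim.GmPush i) ≫ (EtCoh.pullPushAdj i).counit.app (EtCoh.Gm Z)

omit [PreservesFiniteLimits (EtCoh.pull i)] in
theorem zetaMap_natural (ζW : Γ(W, ⊤)) (hζW : Polynomial.aeval ζW (Polynomial.cyclotomic n ℤ) = 0)
    (hζZ : Polynomial.aeval (i.appTop ζW) (Polynomial.cyclotomic n ℤ) = 0) :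
    (EtCore.pullConst i (ZMod n)).inv ≫ (EtCoh.pull i).map (zetaMap hn ζW hζW) ≫ gmComp i =
      zetaMap hn (i.appTop ζW) hζZ := by
  let A1 := ((EtCore.constAdj W).comp (EtCoh.pullPushAdj i)).ofNatIsoRight (EtCore.pushGsecIso i)
  let M := AddCommGrpCat.of (ULift.{u + 1} (ZMod n))
  let g := (EtCoh.pull i).map (zetaMap hn ζW hζW) ≫ gmComp i
  apply ((EtCore.constAdj Z).homEquiv _ _).injective
  have h1 : (EtCore.constAdj Z).homEquiv _ _ ((EtCore.pullConst i (ZMod n)).inv ≫ g) = A1.homEquiv M _ g := by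
    have h : (EtCore.constAdj Z).homEquiv M _ (EtCore.pullConst i (ZMod n)).inv = A1.unit.app M :=
      Adjunction.homEquiv_leftAdjointUniq_hom_app (EtCore.constAdj Z) A1 M
    rw [Adjunction.homEquiv_naturality_right, h, A1.homEquiv_unit]
  have h2 : (EtCoh.pullPushAdj i).homEquiv _ _ g = zetaMap hn ζW hζW ≫ EtLim.GmPush i := by
    refine ((EtCoh.pullPushAdj i).homEquiv _ _).symm.injective ?_
    rw [Equiv.symm_apply_apply, Adjunction.homEquiv_counit, Functor.map_comp, Category.assoc]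
    rfl
  rw [h1, Adjunction.homEquiv_ofNatIsoRight_apply, Adjunction.comp_homEquiv, Equiv.trans_apply, h2,
    Adjunction.homEquiv_naturality_right]
  refine AddCommGrpCat.ext fun m => ?_
  rw [homEquiv_zetaMap hn (i.appTop ζW) hζZ]
  show (EtCoh.Gm Z).obj.map (EtCore.bcTopIso i).inv.op ((EtLim.GmPush i).hom.app (op (EtCoh.top W))
    ((EtCore.constAdj W).homEquiv _ _ (zetaMap hn ζW hζW) m)) = _
  rw [homEquiv_zetaMap]
  obtain ⟨j, rfl⟩ := exists_natCast hn m
  rw [mapV_natCast, mapV_natCast]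
  refine congrArg (fun v => sec (EtCoh.top Z) v) (Units.ext ?_)
  simp only [map_pow, Units.val_pow_eq_pow_val]
  refine (map_pow ((EtCore.bcTopIso i).inv.left.appTop.hom.comp (pullback.fst (𝟙 W) i).appTop.hom) _ j).trans ?_
  congr 1
  show (EtCore.bcTopIso i).inv.left.appTop ((pullback.fst (𝟙 W) i).appTop ((𝟙 W : W ⟶ W).appTop ζW)) =
    (𝟙 Z : Z ⟶ Z).appTop (i.appTop ζW)
  have hw : (EtCore.bcTopIso i).inv.left ≫ pullback.snd (𝟙 W) i = 𝟙 Z :=
    MorphismProperty.Over.w (EtCore.bcTopIso i).inv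
  have e : (EtCore.bcTopIso i).inv.left ≫ pullback.fst (𝟙 W) i ≫ 𝟙 W = 𝟙 Z ≫ i := by
    refine (congrArg ((EtCore.bcTopIso i).inv.left ≫ ·) (pullback.condition (f := 𝟙 W) (g := i))).trans ?_
    exact (Category.assoc _ _ _).symm.trans (congrArg (· ≫ i) hw)
  exact congr(($e).appTop ζW)

/-- The degree two comparison for `ℤ/n`. -/
theorem surjective_Hpull_two (hunitW : IsUnit (n : Γ(W, ⊤))) (ζW : Γ(W, ⊤))
    (hζW : Polynomial.aeval ζW (Polynomial.cyclotomic n ℤ) = 0)
    (hvan : ∀ x : EtCoh.H Z (EtCoh.Gm Z) 2, n • x = 0 → x = 0)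
    (hlift : Function.Surjective (EtLim.HGmPull i 1)) (hn : 1 ≤ n) :
    Function.Surjective (EtCore.Hpull i (EtCoh.const W (ZMod n)) 2) := by
  intro c
  have hunitZ : IsUnit (n : Γ(Z, ⊤)) := by
    have h := hunitW.map i.appTop.hom
    rwa [map_natCast] at h
  have hζZ : Polynomial.aeval (i.appTop ζW) (Polynomial.cyclotomic n ℤ) = 0 := by
    have h := congrArg i.appTop.hom hζW
    rw [map_zero, aeval_def, hom_eval₂] at h
    rw [aeval_def]
    convert h using 2
    exact RingHom.ext_int _ _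
  let SW := kummerSeq hn ζW hζW
  let SZ := kummerSeq hn (i.appTop ζW) hζZ
  have hSW := kummerSeq_shortExact hn hunitW ζW hζW
  have hSZ := kummerSeq_shortExact hn hunitZ (i.appTop ζW) hζZ
  let e := EtCore.pullConst i (ZMod n)
  let c' : EtCoh.H Z (EtCoh.const Z (ZMod n)) 2 := c.comp (Ext.mk₀ e.hom) (add_zero 2)
  have h0 : c'.comp (Ext.mk₀ SZ.f) (add_zero 2) = 0 := by
    refine hvan _ ?_
    refine (Dix24.comp_mk₀_nsmul_id n _).symm.trans ?_
    refine (Ext.comp_assoc_of_third_deg_zero _ _ _ _).trans ?_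
    refine (congrArg (fun z => Ext.comp c' z (add_zero 2))
      ((Ext.mk₀_comp_mk₀ SZ.f SZ.g).trans ((congrArg Ext.mk₀ SZ.zero).trans (Ext.mk₀_zero _ _)))).trans ?_
    exact Ext.comp_zero _ _ _ _ _
  obtain ⟨y, hy⟩ := Ext.covariant_sequence_exact₁ _ hSZ c' h0 (n₀ := 1) rfl
  obtain ⟨L, hL⟩ := hlift y
  haveI : (EtCoh.pull i).Additive := EtCore.pull_additive i
  let α : SW.map (EtCoh.pull i) ⟶ SZ :=
    { τ₁ := e.hom
      τ₂ := gmComp i
      τ₃ := gmComp i
      comm₁₂ := by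
        show e.hom ≫ zetaMap hn (i.appTop ζW) hζZ = (EtCoh.pull i).map (zetaMap hn ζW hζW) ≫ gmComp i
        rw [← zetaMap_natural hn i ζW hζW hζZ]
        exact e.hom_inv_id_assoc _
      comm₂₃ := by
        show gmComp i ≫ EtCoh.powMap Z n = (EtCoh.pull i).map (EtCoh.powMap W n) ≫ gmComp i
        rw [EtCoh.powMap, EtCoh.powMap, Functor.map_nsmul, CategoryTheory.Functor.map_id,
          Preadditive.comp_nsmul, Preadditive.nsmul_comp, Category.comp_id, Category.id_comp] }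
  refine ⟨L.comp hSW.extClass rfl, ?_⟩
  have hG : (EtCore.Hpull i (EtCoh.Gm W) 1 L).comp (Ext.mk₀ (gmComp i)) (add_zero 1) = y := by
    rw [← hL]
    show _ = EtLim.HofPush i (EtCoh.Gm Z) 1 (L.comp (Ext.mk₀ (EtLim.GmPush i)) (add_zero 1))
    rw [EtStalk.HofPush_apply, EtStalk.Hpull_eq, Ext.mapExactFunctor_comp, Ext.mapExactFunctor_mk₀, gmComp,
      ← Ext.mk₀_comp_mk₀]
    simp only [Ext.comp_assoc_of_third_deg_zero, Ext.comp_assoc_of_second_deg_zero]
  have key : (EtCore.Hpull i (EtCoh.const W (ZMod n)) 2 (L.comp hSW.extClass rfl)).comp (Ext.mk₀ e.hom)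
      (add_zero 2) = c' := by
    rw [← hy, ← hG]
    erw [EtAcyc24.Hpull_delta i hSW L]
    refine (Ext.comp_assoc_of_third_deg_zero _ _ _ _).trans ?_
    erw [ShortComplex.ShortExact.extClass_naturality (hSW.map_of_exact (EtCoh.pull i)) hSZ α]
    exact (Ext.comp_assoc_of_second_deg_zero _ _ _ _).symm
  have h2 := congrArg (fun z => z.comp (Ext.mk₀ e.inv) (add_zero 2)) key
  simp only [c', Ext.comp_assoc_of_third_deg_zero, Ext.mk₀_comp_mk₀, e.hom_inv_id, Ext.comp_mk₀_id] at h2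
  exact h2

end Groth.Agent.PBC24
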