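import Groth.Agent.Lib.HensQF6.Basic
import Groth.Agent.Lib.PicLift19.Main
import Groth.Agent.Lib.EtPic3.CurveGm

/-!
# Lifting units on punctured neighbourhoods of closed points of the closed fibre
-/

set_option autoImplicit false
set_option linter.style.haveILetI false
set_option backward.isDefEq.respectTransparency.types false
set_option maxHeartbeats 1000000
universe u

open CategoryTheory CategoryTheory.Limits AlgebraicGeometry TopologicalSpace Opposite IsLocalRing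

namespace Groth.Agent.PBC24

open Groth.Agent
open Groth.Agent.PicThick4 (rs rs_rs app_rs)

variable {A : Type u} [CommRing A] [HenselianLocalRing A] {W Z : Scheme.{u}}
  (f : W ⟶ Spec (CommRingCat.of A)) [IsSeparated f] [LocallyOfFiniteType f]
  (i : Z ⟶ W) [IsClosedImmersion i] (hi : Set.range i.base = f.base ⁻¹' {closedPoint A})

include hi in
/-- A locally closed set of an affine open with one point over the closed point has a clopen finite part
around it. -/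
theorem exists_finite_closed_part {U : W.Opens} (hU : IsAffineOpen U) (B : W.Opens) (p : Z) (hpU : i p ∈ U)
    (hpB : i p ∉ B) (hfib : ∀ w ∈ (U : Set W) \ B, f.base w = closedPoint A → w = i p) :
    ∃ O : W.Opens, O ≤ U ∧ i p ∈ O ∧ IsClosed ((O : Set W) \ B) := by
  haveI : IsAffine U.toScheme := hU
  let C : Set U.toScheme := U.ι.base ⁻¹' ((B : Set W)ᶜ)
  have hC : IsClosed C := B.2.isClosed_compl.preimage U.ι.continuous
  let J := Scheme.IdealSheafData.vanishingIdeal (X := U.toScheme) ⟨C, hC⟩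
  let ι := J.subschemeι
  have hr : Set.range ι.base = C := by
    rw [Scheme.IdealSheafData.range_subschemeι, Scheme.IdealSheafData.coe_support_vanishingIdeal]
    rfl
  let m : J.subscheme ⟶ W := ι ≫ U.ι
  let g : J.subscheme ⟶ Spec (CommRingCat.of A) := m ≫ f
  haveI : LocallyOfFiniteType g := inferInstance
  have hm : ∀ v, m v ∈ (U : Set W) \ B := fun v =>
    ⟨(ι v).2, hr.subset ⟨v, rfl⟩⟩
  have hminj : Function.Injective m.base := fun a b h =>
    ι.isClosedEmbedding.injective (Subtype.ext h)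
  obtain ⟨v, hv⟩ : ∃ v, m v = i p := by
    obtain ⟨v, hv⟩ : (⟨i p, hpU⟩ : U.toScheme) ∈ Set.range ι.base := hr.symm ▸ hpB
    exact ⟨v, congrArg U.ι.base hv⟩
  have hgv : g.base v = closedPoint A := by
    show f.base (m v) = _
    rw [hv]
    exact (Set.ext_iff.1 hi (i p)).1 ⟨p, rfl⟩
  have huniq : ∀ v' : J.subscheme, g.base v' = closedPoint A → v' = v := fun v' h' =>
    hminj ((hfib _ (hm v') h').trans hv.symm)
  have hqf : g.QuasiFiniteAt v := by
    rw [Scheme.Hom.quasiFiniteAt_iff_isOpen_singleton_asFiber]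
    haveI : Subsingleton (g ⁻¹' {g v}) := ⟨fun a b => by
      apply Subtype.ext
      exact (huniq a.1 ((show g.base a.1 = g.base v from a.2).trans hgv)).trans
        (huniq b.1 ((show g.base b.1 = g.base v from b.2).trans hgv)).symm⟩
    haveI : Subsingleton (g.fiber (g v)) := (g.fiberHomeo (g v)).injective.subsingleton
    exact isOpen_discrete _
  obtain ⟨_, ⟨(N : J.subscheme.Opens), hN, rfl⟩, hvN, hNq⟩ := J.subscheme.isBasis_affineOpens.exists_subset_of_mem_open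
    (show v ∈ (g.quasiFiniteLocus : Set J.subscheme) from hqf) g.quasiFiniteLocus.2
  haveI : IsAffine N.toScheme := hN
  let g' := N.ι ≫ g
  haveI : LocallyQuasiFinite g' := by
    rw [← Scheme.Hom.quasiFiniteLocus_eq_top_iff, Scheme.Hom.quasiFiniteLocus_comp]
    exact top_le_iff.1 fun z _ => hNq z.2
  haveI : QuasiCompact g' := inferInstance
  haveI : IsSeparated g' := inferInstance
  obtain ⟨P, -, hPfin, hPmem⟩ := HensQF6.exists_finitePart g'
  haveI := hPfin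
  let j : P.toScheme ⟶ W := P.ι ≫ N.ι ≫ m
  haveI : IsFinite (j ≫ f) := by
    have e : j ≫ f = P.ι ≫ g' := by simp only [j, g', g, Category.assoc]
    rw [e]; exact hPfin
  haveI : IsFinite j := IsFinite.of_comp j f
  let P' : Set J.subscheme := N.ι.base '' (P : Set N.toScheme)
  have hP' : IsOpen P' := N.ι.isOpenEmbedding.isOpenMap _ P.2
  have hbad : IsClosed (ι.base '' P'ᶜ) := ι.isClosedEmbedding.isClosedMap _ hP'.isClosed_compl
  let O : W.Opens := U.ι ''ᵁ ⟨(ι.base '' P'ᶜ)ᶜ, hbad.isOpen_compl⟩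
  have hOU : O ≤ U := by
    rintro w ⟨z, -, rfl⟩
    exact z.2
  have hvP : v ∈ P' := ⟨⟨v, hvN⟩, hPmem _ hgv, rfl⟩
  refine ⟨O, hOU, ?_, ?_⟩
  · refine ⟨⟨i p, hpU⟩, ?_, rfl⟩
    rintro ⟨v', hv', he⟩
    exact hv' ((hminj ((congrArg U.ι.base he).trans hv.symm)) ▸ hvP)
  · have : (O : Set W) \ B = Set.range j.base := by
      ext w
      constructor
      · rintro ⟨⟨z, hz, rfl⟩, hzB⟩
        obtain ⟨v', rfl⟩ : z ∈ Set.range ι.base := hr.symm ▸ hzB
        obtain ⟨z', hz', rfl⟩ : v' ∈ P' := by_contra fun h => hz ⟨v', h, rfl⟩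
        exact ⟨⟨z', hz'⟩, rfl⟩
      · rintro ⟨z, rfl⟩
        refine ⟨⟨ι (N.ι z.1), ?_, rfl⟩, (hm _).2⟩
        rintro ⟨v', hv', he⟩
        exact hv' ((ι.isClosedEmbedding.injective he) ▸ ⟨z.1, z.2, rfl⟩)
    rw [this]
    exact j.isClosedMap.isClosed_range

variable (hd : topologicalKrullDim Z ≤ 1) [IsNoetherian Z]

include hi hd in
/-- A unit on a punctured neighbourhood of a closed point of the closed fibre lifts. -/
theorem exists_unit_lift (U₀ : Z.Opens) (x : Z) (hx : IsClosed ({x} : Set Z)) (hxU : x ∈ U₀)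
    (V : Z.Opens) (hV : ∀ z, z ∈ V ↔ z ∈ U₀ ∧ z ≠ x) (r : Γ(Z, V)ˣ) :
    ∃ (O B : W.Opens) (h : Γ(W, O ⊓ B)ˣ), i x ∈ O ∧ i x ∉ B ∧ IsClosed ((O : Set W) \ B) ∧
      i ⁻¹ᵁ O ≤ U₀ ∧ (∀ z, z ∈ i ⁻¹ᵁ O → z ≠ x → z ∈ i ⁻¹ᵁ B) ∧
      ∃ hle : i ⁻¹ᵁ (O ⊓ B) ≤ V, i.app (O ⊓ B) (h : Γ(W, O ⊓ B)) = rs hle (r : Γ(Z, V)) := by
  classical
  obtain ⟨O₀, hO₀, hO₀U⟩ := i.isClosedEmbedding.isInducing.isOpen_iff.mp U₀.2
  obtain ⟨U₁, hU₁, hxU₁, hU₁O⟩ := exists_isAffineOpen_mem_and_subset (X := W) (x := i x)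
    (U := ⟨O₀, hO₀⟩) ((Set.ext_iff.mp hO₀U x).mpr hxU)
  let D := i ⁻¹ᵁ U₁
  have hDU : D ≤ U₀ := fun z hz => (Set.ext_iff.mp hO₀U z).mp (hU₁O hz)
  have hD : IsAffineOpen D := hU₁.preimage i
  haveI := EtPic3.finite_maxPts Z
  let G' : Finset {z : Z // z ∈ D} :=
    (((Set.finite_coe_iff.mp (inferInstance : Finite {η : Z // EtPic3.IsMaxPt Z η})).subset
      (Set.inter_subset_left (t := {η : Z | η ∈ D ∧ η ≠ x}))).toFinset).subtype (fun z => z ∈ D)
  obtain ⟨s, hsx, hsG⟩ := PicLift19.exists_fun hD G' ⟨x, hxU₁⟩ hx fun η hη => by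
    have h := Finset.mem_subtype.mp hη
    rw [Set.Finite.mem_toFinset] at h
    exact h.2.2
  let Ds := Z.basicOpen s
  have hDsD : Ds ≤ D := Z.basicOpen_le s
  have hDsV : Ds ≤ V := fun z hz => (hV z).2 ⟨hDU (hDsD hz), fun h => hsx (h ▸ hz)⟩
  have hzero : ∀ z ∈ D, z ∉ Ds → IsClosed ({z} : Set Z) := fun z hz hzs => by
    by_contra hcl
    have hzx : z ≠ x := fun h => hcl (h ▸ hx)
    refine hzs (hsG ⟨z, hz⟩ (Finset.mem_subtype.mpr ?_))
    rw [Set.Finite.mem_toFinset]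
    exact ⟨EtPic3.isMaxPt_of_dim_le_one hd hcl, hz, hzx⟩
  have hzfin : ((D : Set Z) \ Ds).Finite := by
    haveI : NoetherianSpace (D : Set Z) := NoetherianSpace.set _
    haveI : QuasiSober (D : Set Z) := D.2.isOpenEmbedding_subtypeVal.quasiSober
    have hcl : IsClosed (Subtype.val ⁻¹' ((Ds : Set Z)ᶜ) : Set (D : Set Z)) :=
      Ds.2.isClosed_compl.preimage continuous_subtype_val
    refine ((PicLift19.finite_of_closed_points hcl fun z hz => ?_).image Subtype.val).subset ?_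
    · have : ({z} : Set (D : Set Z)) = Subtype.val ⁻¹' {z.1} := by
        ext y; exact ⟨fun h => congrArg Subtype.val h, fun h => Subtype.ext h⟩
      rw [this]
      exact (hzero z.1 z.2 hz).preimage continuous_subtype_val
    · rintro z ⟨hz, hzs⟩
      exact ⟨⟨z, hz⟩, hzs, rfl⟩
  -- write the unit as a fraction
  let g : Γ(Z, Ds) := rs hDsV (r : Γ(Z, V))
  have hg : IsUnit g := r.isUnit.map _
  haveI := hD.isLocalization_basicOpen s
  obtain ⟨n, a, ha⟩ := IsLocalization.Away.surj s (S := Γ(Z, Ds)) g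
  obtain ⟨α, rfl⟩ := i.app_surjective U₁ hU₁ a
  obtain ⟨σ, rfl⟩ := i.app_surjective U₁ hU₁ s
  have halg : ∀ t, algebraMap Γ(Z, D) Γ(Z, Ds) t = rs hDsD t := fun t => rfl
  rw [halg, halg] at ha
  have hsu : IsUnit (rs hDsD (i.app U₁ σ)) := by
    rw [← halg]; exact IsLocalization.Away.algebraMap_isUnit _
  let B : W.Opens := W.basicOpen (α * σ)
  have hBs : i ⁻¹ᵁ B ≤ Ds := by
    rw [show i ⁻¹ᵁ B = Z.basicOpen (i.app U₁ (α * σ)) from Scheme.preimage_basicOpen i _, map_mul,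
      Scheme.basicOpen_mul]
    exact inf_le_right
  have hBs' : Ds ≤ i ⁻¹ᵁ B := by
    rw [show i ⁻¹ᵁ B = Z.basicOpen (i.app U₁ (α * σ)) from Scheme.preimage_basicOpen i _, map_mul,
      Scheme.basicOpen_mul]
    refine le_inf ?_ le_rfl
    have hu : IsUnit (rs hDsD (i.app U₁ α)) := by
      rw [← ha]; exact hg.mul (hsu.pow n)
    calc Ds = Z.basicOpen (rs hDsD (i.app U₁ α)) := (Scheme.basicOpen_of_isUnit _ hu).symm
      _ ≤ Z.basicOpen (i.app U₁ α) := by
        rw [show Z.basicOpen (rs hDsD (i.app U₁ α)) = Ds ⊓ Z.basicOpen (i.app U₁ α) from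
          Scheme.basicOpen_res _ _ _]
        exact inf_le_right
  have hxB : i x ∉ B := fun h => hsx (hBs h)
  let others : Set W := i.base '' (((D : Set Z) \ Ds) \ {x})
  have hothers : IsClosed others := by
    show IsClosed (i.base '' _)
    rw [← Set.biUnion_of_singleton (i.base '' _)]
    refine (hzfin.sdiff.image _).isClosed_biUnion ?_
    rintro _ ⟨z, hz, rfl⟩
    rw [← Set.image_singleton]
    exact i.isClosedEmbedding.isClosedMap _ (hzero z hz.1.1 hz.1.2)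
  obtain ⟨U₂, hU₂, hxU₂, hU₂U⟩ := exists_isAffineOpen_mem_and_subset (X := W) (x := i x)
    (U := ⟨(U₁ : Set W) \ others, U₁.2.sdiff hothers⟩)
    ⟨hxU₁, fun ⟨z, hz, hzx⟩ => hz.2 (i.isClosedEmbedding.injective hzx)⟩
  have hDs' : ∀ z, i z ∈ U₂ → z ≠ x → i z ∈ B := fun z hz hzx => by_contra fun hzB =>
    (hU₂U hz).2 ⟨z, ⟨⟨(hU₂U hz).1, fun h => hzB (hBs' h)⟩, hzx⟩, rfl⟩
  obtain ⟨O, hOU₂, hxO, hOcl⟩ := exists_finite_closed_part f i hi hU₂ B x hxU₂ hxB (by
    rintro w ⟨hwU, hwB⟩ hw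
    obtain ⟨z, rfl⟩ : w ∈ Set.range i.base := hi.symm ▸ hw
    by_contra hzx
    exact hwB (hDs' z hwU fun h => hzx (congrArg i.base h)))
  have hOU₁ : O ≤ U₁ := fun z hz => (hU₂U (hOU₂ hz)).1
  have hR : O ⊓ B ≤ U₁ := inf_le_left.trans hOU₁
  have hu : IsUnit (rs hR (α * σ)) := by
    have h1 := (W.toRingedSpace.isUnit_res_basicOpen (α * σ)).map (rs (inf_le_right : O ⊓ B ≤ B))
    rw [← rs_rs (W.basicOpen_le (α * σ)) (inf_le_right : O ⊓ B ≤ B) (α * σ)]
    exact h1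
  rw [map_mul] at hu
  obtain ⟨hα, hσ⟩ := IsUnit.mul_iff.mp hu
  let h : Γ(W, O ⊓ B)ˣ := hα.unit * ((hσ.pow n).unit)⁻¹
  have hle : i ⁻¹ᵁ (O ⊓ B) ≤ Ds := (i.preimage_mono inf_le_right).trans hBs
  refine ⟨O, B, h, hxO, hxB, hOcl, (i.preimage_mono hOU₁).trans hDU, fun z hz hzx => hDs' z (hOU₂ hz) hzx,
    hle.trans hDsV, ?_⟩
  have hσ' : IsUnit (i.app (O ⊓ B) (rs hR σ) ^ n) := (hσ.map _).pow n
  refine hσ'.mul_right_cancel ?_
  calc i.app (O ⊓ B) (h : Γ(W, O ⊓ B)) * i.app (O ⊓ B) (rs hR σ) ^ n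
      = i.app (O ⊓ B) ((h : Γ(W, O ⊓ B)) * rs hR σ ^ n) := by rw [map_mul, map_pow]
    _ = i.app (O ⊓ B) (rs hR α) := by
      congr 1
      simp only [h, Units.val_mul, IsUnit.unit_spec]
      rw [mul_assoc, IsUnit.val_inv_mul, mul_one]
    _ = rs (hle.trans hDsV) (r : Γ(Z, V)) * i.app (O ⊓ B) (rs hR σ) ^ n := by
      rw [app_rs, app_rs, ← rs_rs hDsD hle, ← rs_rs hDsD hle, ← map_pow (rs hle),
        ← rs_rs hDsV hle, ← map_mul]
      exact congrArg (rs hle) ha.symm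

end Groth.Agent.PBC24
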