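import Groth.Agent.Lib.PBC24.GmFun
import Groth.Agent.Lib.PBC24.UnitLift

/-!
# Lifting classes in `H¹(G_m)` from the closed fibre of dimension one
-/

set_option autoImplicit false
set_option linter.style.haveILetI false
set_option backward.isDefEq.respectTransparency.types false
universe u

open CategoryTheory CategoryTheory.Limits AlgebraicGeometry TopologicalSpace Opposite IsLocalRing

noncomputable section

namespace Groth.Agent.PBC24

open Groth.Agent Groth.Agent.EtPic3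

variable {X : Scheme.{u}}

/-- A global section of the quotient lifts over an open. -/
def Lifts (s : (seq X).X₃.obj.obj (op (EtCoh.top X))) (U : X.Opens) : Prop :=
  ∃ a : (seq X).X₂.obj.obj (op (et U)), (seq X).g.hom.app _ a = rTop (seq X).X₃ U s

theorem rU_rU {T V U : X.Opens} (h : V ≤ U) (h' : T ≤ V) (r : Γ(X, U)ˣ) :
    rU h' (rU h r) = rU (h'.trans h) r :=
  Units.ext (PicThick4.rs_rs h h' (r : Γ(X, U)))

theorem Lifts.mono {s : (seq X).X₃.obj.obj (op (EtCoh.top X))} {U V : X.Opens} (h : Lifts s U) (hVU : V ≤ U) :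
    Lifts s V := by
  obtain ⟨a, ha⟩ := h
  exact ⟨rF (seq X).X₂ hVU a, by rw [g_rF, ha, rF_rTop]⟩

/-- Compatible lifts glue. -/
theorem lifts_iSup (s : (seq X).X₃.obj.obj (op (EtCoh.top X))) {ι : Type u} (U : ι → X.Opens)
    (a : ∀ j, (seq X).X₂.obj.obj (op (et (U j))))
    (ha : ∀ j, (seq X).g.hom.app _ (a j) = rTop (seq X).X₃ (U j) s)
    (h : ∀ j k, rF (seq X).X₂ (inf_le_left : U j ⊓ U k ≤ U j) (a j) = rF (seq X).X₂ inf_le_right (a k)) :
    Lifts s (iSup U) := by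
  have hcov : ∀ z : (et (iSup U) : X.Etale).left, ∃ j y, (etHom (le_iSup U j)).left y = z := fun z => by
    obtain ⟨j, hj⟩ := Opens.mem_iSup.1 z.2
    refine ⟨j, ⟨z.1, hj⟩, Subtype.ext ?_⟩
    exact congrArg (fun t : (U j).toScheme ⟶ X => t.base ⟨z.1, hj⟩) (X.homOfLE_ι (le_iSup U j))
  obtain ⟨S, hS⟩ := exists_glue (seq X).X₂ (fun j => etHom (le_iSup U j)) hcov a fun j k T p q _ => by
    have hT : ∀ z, T.hom z ∈ U j ⊓ U k := fun z => by
      constructor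
      · rw [← MorphismProperty.Over.w p]; exact (p.left z).2
      · rw [← MorphismProperty.Over.w q]; exact (q.left z).2
    rw [hom_ext_et p (liftEt T (U j ⊓ U k) hT ≫ etHom inf_le_left),
      hom_ext_et q (liftEt T (U j ⊓ U k) hT ≫ etHom inf_le_right), ← map_map, ← map_map]
    exact congrArg _ (h j k)
  refine ⟨S, sect_ext (seq X).X₃ (fun j => etHom (le_iSup U j)) hcov fun j => ?_⟩
  rw [← app_natural, hS, ha]
  exact (rF_rTop (seq X).X₃ (le_iSup U j) s).symm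

/-- Sections on an empty open. -/
theorem sect_eq_of_isEmpty (F : EtCoh.Ab X) {U : X.Opens} (h : ∀ z, z ∉ U) (a b : F.obj.obj (op (et U))) : a = b := by
  haveI : IsEmpty (et U : X.Etale).left := ⟨fun z => h z.1 z.2⟩
  exact @Subsingleton.elim _ (AddCommGrpCat.subsingleton_of_isZero (EtStalk.isZero_of_isEmpty F _ inferInstance)) a b

/-- A lift over everything kills the class. -/
theorem Λ_eq_zero_of_lifts {s : (seq X).X₃.obj.obj (op (EtCoh.top X))} {U : X.Opens} (h : Lifts s U)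
    (hU : ∀ z, z ∈ U) : Λ s = 0 := by
  obtain ⟨a, ha⟩ := h
  refine (Λ_eq_zero_iff s).2 ⟨(seq X).X₂.obj.map (liftEt (EtCoh.top X) U fun z => hU _).op a, ?_⟩
  rw [app_natural, ha]
  refine (map_map (seq X).X₃ _ _ s).trans ((map_eq_map _ (hom_ext_top _ (𝟙 _)) s).trans ?_)
  rw [op_id, CategoryTheory.Functor.map_id]
  rfl

theorem exists_maxPt_specializes (z : X) : ∃ η : X, IsMaxPt X η ∧ η ⤳ z := by
  obtain ⟨η, hη⟩ := QuasiSober.sober isIrreducible_irreducibleComponent (isClosed_irreducibleComponent (x := z))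
  refine ⟨η, fun y hy => ?_, hη.specializes mem_irreducibleComponent⟩
  have h1 : closure ({y} : Set X) = irreducibleComponent z :=
    eq_irreducibleComponent isIrreducible_singleton.closure.isPreirreducible
      (hη.def ▸ specializes_iff_closure_subset.1 hy)
  exact IsGenericPoint.eq (show IsGenericPoint y (irreducibleComponent z) from h1) hη

/-- Every section lifts outside finitely many closed points. -/
theorem exists_dense_lift [IsNoetherian X] (hd : topologicalKrullDim X ≤ 1)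
    (s : (seq X).X₃.obj.obj (op (EtCoh.top X))) :
    ∃ U : X.Opens, Lifts s U ∧ ((U : Set X)ᶜ).Finite ∧ ∀ z, z ∉ U → IsClosed ({z} : Set X) := by
  classical
  haveI := finite_maxPts X
  let ι := {η : X // IsMaxPt X η}
  choose U hU a ha using fun η : ι => seq_lift_local s η.1
  let others : ι → Set X := fun η => ⋃ η' : {η' : ι // η' ≠ η}, closure {η'.1.1}
  have hoc : ∀ η, IsClosed (others η) := fun η => isClosed_iUnion_of_finite fun _ => isClosed_closure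
  let O : ι → X.Opens := fun η => U η ⊓ ⟨(others η)ᶜ, (hoc η).isOpen_compl⟩
  have hηO : ∀ η : ι, η.1 ∈ O η := fun η => ⟨hU η, fun h => by
    obtain ⟨⟨η', hne⟩, h'⟩ := Set.mem_iUnion.1 h
    exact hne (Subtype.ext (η.2 η'.1 (specializes_iff_mem_closure.2 h')))⟩
  have hdisj : ∀ η η' : ι, η ≠ η' → ∀ z, z ∉ O η ⊓ O η' := by
    intro η η' hne z hz
    obtain ⟨θ, hθ, hθz⟩ := exists_maxPt_specializes z
    have key : ∀ ν : ι, z ∈ O ν → θ = ν.1 := fun ν hzν => by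
      by_contra hh
      exact (hθz.mem_open (O ν).2 hzν).2
        (Set.mem_iUnion.2 ⟨⟨⟨θ, hθ⟩, fun e => hh (congrArg Subtype.val e)⟩, subset_closure rfl⟩)
    exact hne (Subtype.ext ((key η hz.1).symm.trans (key η' hz.2)))
  have hcl : ∀ z, z ∉ iSup O → IsClosed ({z} : Set X) := fun z hz => by
    by_contra h
    exact hz (Opens.mem_iSup.2 ⟨⟨z, isMaxPt_of_dim_le_one hd h⟩, hηO ⟨z, _⟩⟩)
  refine ⟨iSup O, lifts_iSup s O (fun η => rF (seq X).X₂ inf_le_left (a η)) (fun η => ?_) (fun η η' => ?_),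
    PicLift19.finite_of_closed_points (iSup O).2.isClosed_compl hcl, hcl⟩
  · rw [g_rF, ha]
    exact rF_rTop _ _ _
  · rcases eq_or_ne η η' with rfl | hne
    · rfl
    · exact sect_eq_of_isEmpty _ (hdisj η η' hne) _ _

variable {A : Type u} [CommRing A] [HenselianLocalRing A] {W Z : Scheme.{u}}
  (f : W ⟶ Spec (CommRingCat.of A)) [IsSeparated f] [LocallyOfFiniteType f]
  (i : Z ⟶ W) [IsClosedImmersion i] (hi : Set.range i.base = f.base ⁻¹' {closedPoint A})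
  (hd : topologicalKrullDim Z ≤ 1) [IsNoetherian Z] [PreservesFiniteLimits (EtCoh.pull i)]

include f hi hd in
/-- Removing one point. -/
theorem exists_step (s : (seq Z).X₃.obj.obj (op (EtCoh.top Z))) (U : Z.Opens) (hs : Lifts s U)
    (hfin : ((U : Set Z)ᶜ).Finite) (hcl : ∀ z, z ∉ U → IsClosed ({z} : Set Z)) (x : Z) (hx : x ∉ U) :
    ∃ (S : (seq W).X₃.obj.obj (op (EtCoh.top W))) (U' : Z.Opens),
      U ≤ U' ∧ x ∈ U' ∧ Lifts (s + pullQ i S) U' := by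
  classical
  obtain ⟨a, ha⟩ := hs
  obtain ⟨U₁, hxU₁, b₁, hb₁⟩ := seq_lift_local s x
  let bad : Set Z := ((U : Set Z)ᶜ) \ {x}
  have hbad : IsClosed bad := by
    rw [← Set.biUnion_of_singleton bad]
    exact hfin.sdiff.isClosed_biUnion fun z hz => hcl z hz.1
  let U₀ : Z.Opens := U₁ ⊓ ⟨badᶜ, hbad.isOpen_compl⟩
  obtain ⟨b, hb⟩ : Lifts s U₀ := Lifts.mono (⟨b₁, hb₁⟩ : Lifts s U₁) inf_le_left
  let V : Z.Opens := U₀ ⊓ U
  have hV : ∀ z, z ∈ V ↔ z ∈ U₀ ∧ z ≠ x := fun z => by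
    refine ⟨fun h => ⟨h.1, fun e => hx (e ▸ h.2)⟩, fun h => ⟨h.1, ?_⟩⟩
    by_contra hz
    exact h.1.2 ⟨hz, h.2⟩
  obtain ⟨r, hr⟩ := exists_mU (rF (seq Z).X₂ (inf_le_right : V ≤ U) a - rF (seq Z).X₂ inf_le_left b) (by
    rw [map_sub, g_rF, g_rF, ha, hb, rF_rTop, rF_rTop, sub_self])
  obtain ⟨O, B, h, hxO, hxB, hOB, hOU, hOx, hle, hih⟩ :=
    exists_unit_lift f i hi hd U₀ x (hcl x hx) ⟨hxU₁, fun hb' => hb'.2 rfl⟩ V hV r
  let O₂ : W.Opens := ⟨((O : Set W) \ B)ᶜ, hOB.isOpen_compl⟩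
  let P : ULift.{u} Bool → W.Opens := fun j => bif j.down then O else O₂
  have hcov : ∀ w : W, ∃ j, w ∈ P j := fun w => by
    by_cases hw : w ∈ O
    · exact ⟨⟨true⟩, hw⟩
    · exact ⟨⟨false⟩, fun h' => hw h'.1⟩
  have hOO₂ : O ⊓ O₂ ≤ O ⊓ B := fun w hw => ⟨hw.1, by_contra fun hwB => hw.2 ⟨hw.1, hwB⟩⟩
  have hO₂O : O₂ ⊓ O ≤ O ⊓ B := fun w hw => hOO₂ ⟨hw.2, hw.1⟩
  let u : ∀ j k, Γ(W, P j ⊓ P k)ˣ := fun j k => match j, k with
    | ⟨true⟩, ⟨false⟩ => rU hOO₂ h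
    | ⟨false⟩, ⟨true⟩ => (rU hO₂O h)⁻¹
    | ⟨true⟩, ⟨true⟩ => 1
    | ⟨false⟩, ⟨false⟩ => 1
  obtain ⟨σ, hσ⟩ := exists_coboundary (seq W).f P hcov u (by
    intro j k l
    obtain ⟨_ | _⟩ := j <;> obtain ⟨_ | _⟩ := k <;> obtain ⟨_ | _⟩ := l <;>
      simp only [u, map_one, map_inv, rU_rU, mul_one, one_mul, inv_mul_cancel, mul_inv_cancel])
  obtain ⟨S, hS⟩ := glue_opens_top (seq W).X₃ P hcov (fun j => (seq W).g.hom.app _ (σ j)) fun j k => by
    rw [← app_natural, ← app_natural, ← sub_eq_zero, ← map_sub, hσ j k]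
    exact g_mU (u j k)
  let a₀ := pullI i O₂ (σ ⟨false⟩)
  let b₀ := pullI i O (σ ⟨true⟩)
  have ha₀ : (seq Z).g.hom.app _ a₀ = rTop (seq Z).X₃ (i ⁻¹ᵁ O₂) (pullQ i S) :=
    g_pullI i O₂ S _ (hS ⟨false⟩).symm
  have hb₀ : (seq Z).g.hom.app _ b₀ = rTop (seq Z).X₃ (i ⁻¹ᵁ O) (pullQ i S) :=
    g_pullI i O S _ (hS ⟨true⟩).symm
  have hU₂ : U ≤ i ⁻¹ᵁ O₂ := fun z hz hzO => hzO.2 (hOx z hzO.1 fun e => hx (e ▸ hz))
  let Q : ULift.{u} Bool → Z.Opens := fun j => bif j.down then i ⁻¹ᵁ O else U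
  let c : ∀ j, (seq Z).X₂.obj.obj (op (et (Q j))) := fun j => match j with
    | ⟨true⟩ => rF (seq Z).X₂ hOU b + b₀
    | ⟨false⟩ => a + rF (seq Z).X₂ hU₂ a₀
  have hdiff : ∀ (T : Z.Opens) (hTO : T ≤ i ⁻¹ᵁ O) (hTU : T ≤ U),
      rF (seq Z).X₂ hTO (c ⟨true⟩) = rF (seq Z).X₂ hTU (c ⟨false⟩) := by
    intro T hTO hTU
    have hTB : T ≤ i ⁻¹ᵁ (O ⊓ O₂) := fun z hz => ⟨hTO hz, hU₂ (hTU hz)⟩
    have hTV : T ≤ V := hTB.trans ((i.preimage_mono hOO₂).trans hle)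
    have e1 := congrArg (rF (seq Z).X₂ hTV) hr
    rw [rF_mU, map_sub, rF_rF, rF_rF] at e1
    have e2 := congrArg (fun t => rF (seq Z).X₂ hTB (pullI i (O ⊓ O₂) t)) (hσ ⟨true⟩ ⟨false⟩)
    have e3 : rF (seq Z).X₂ hTB (pullI i (O ⊓ O₂) (mU (rU hOO₂ h))) = mU (rU hTV r) := by
      rw [pullI_mU, rF_mU]
      refine congrArg mU (Units.ext ?_)
      show PicThick4.rs hTB (i.app (O ⊓ O₂) (PicThick4.rs hOO₂ (h : Γ(W, O ⊓ B)))) = PicThick4.rs hTV (r : Γ(Z, V))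
      rw [PicThick4.app_rs, PicThick4.rs_rs, ← PicThick4.rs_rs (i.preimage_mono hOO₂) hTB, hih,
        PicThick4.rs_rs, PicThick4.rs_rs]
    have e4 : rF (seq Z).X₂ (hTB.trans (i.preimage_mono inf_le_left)) b₀ -
        rF (seq Z).X₂ (hTB.trans (i.preimage_mono inf_le_right)) a₀ = mU (rU hTV r) := by
      refine Eq.trans ?_ (e2.trans e3)
      show _ = rF (seq Z).X₂ hTB (pullI i (O ⊓ O₂)
        (rF (seq W).X₂ inf_le_left (σ ⟨true⟩) - rF (seq W).X₂ inf_le_right (σ ⟨false⟩)))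
      rw [map_sub, map_sub, pullI_rF, pullI_rF, rF_rF, rF_rF]
      rfl
    show rF (seq Z).X₂ hTO (rF (seq Z).X₂ hOU b + b₀) = rF (seq Z).X₂ hTU (a + rF (seq Z).X₂ hU₂ a₀)
    rw [map_add, map_add, rF_rF, rF_rF, ← sub_eq_zero]
    have e5 := e4.trans e1
    rw [← sub_eq_zero] at e5
    refine Eq.trans ?_ e5
    abel
  have hc : ∀ j, (seq Z).g.hom.app _ (c j) = rTop (seq Z).X₃ (Q j) (s + pullQ i S) := by
    rintro ⟨_ | _⟩
    · show (seq Z).g.hom.app _ (a + rF (seq Z).X₂ hU₂ a₀) = rTop (seq Z).X₃ U (s + pullQ i S)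
      rw [map_add, map_add, ha, g_rF, ha₀, rF_rTop]
    · show (seq Z).g.hom.app _ (rF (seq Z).X₂ hOU b + b₀) = rTop (seq Z).X₃ (i ⁻¹ᵁ O) (s + pullQ i S)
      rw [map_add, map_add, g_rF, hb, rF_rTop, hb₀]
  refine ⟨S, iSup Q, le_iSup Q ⟨false⟩, le_iSup Q ⟨true⟩ hxO, lifts_iSup _ Q c hc ?_⟩
  rintro ⟨_ | _⟩ ⟨_ | _⟩
  · rfl
  · exact (hdiff _ inf_le_right inf_le_left).symm
  · exact hdiff _ inf_le_left inf_le_right
  · rfl

include f hi hd in
/-- Classes of `H¹(G_m)` lift from the closed fibre. -/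
theorem surjective_HGmPull : Function.Surjective (EtLim.HGmPull i 1) := by
  have key : ∀ (n : ℕ) (s : (seq Z).X₃.obj.obj (op (EtCoh.top Z))) (U : Z.Opens), Lifts s U →
      ((U : Set Z)ᶜ).Finite → (∀ z, z ∉ U → IsClosed ({z} : Set Z)) → ((U : Set Z)ᶜ).ncard ≤ n →
      ∃ L, EtLim.HGmPull i 1 L = Λ s := by
    intro n
    induction n with
    | zero =>
      intro s U hs hfin _ hn
      refine ⟨0, ?_⟩
      rw [map_zero, Λ_eq_zero_of_lifts hs fun z => by_contra fun hz =>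
        Set.eq_empty_iff_forall_notMem.1 ((Set.ncard_eq_zero hfin).1 (Nat.le_zero.1 hn)) z hz]
    | succ n ih =>
      intro s U hs hfin hcl hn
      rcases Set.eq_empty_or_nonempty ((U : Set Z)ᶜ) with he | ⟨x, hx⟩
      · exact ⟨0, by rw [map_zero, Λ_eq_zero_of_lifts hs fun z => by_contra fun hz =>
          Set.eq_empty_iff_forall_notMem.1 he z hz]⟩
      obtain ⟨S, U', hUU', hxU', hl⟩ := exists_step f i hi hd s U hs hfin hcl x hx
      have hsub : (U' : Set Z)ᶜ ⊆ ((U : Set Z)ᶜ) \ {x} := fun z hz =>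
        ⟨fun h => hz (hUU' h), fun e => hz ((Set.mem_singleton_iff.1 e) ▸ hxU')⟩
      have hcard : ((U' : Set Z)ᶜ).ncard ≤ n := by
        have h1 := Set.ncard_le_ncard hsub hfin.sdiff
        have h2 := Set.ncard_sdiff_singleton_lt_of_mem hx hfin
        omega
      obtain ⟨L, hL⟩ := ih _ U' hl (hfin.subset fun z hz => (hsub hz).1) (fun z hz => hcl z (hsub hz).1) hcard
      refine ⟨L - Λ S, ?_⟩
      rw [map_sub, hL, HGmPull_Λ, map_add]
      abel
  intro c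
  obtain ⟨s, rfl⟩ := Λ_surjective c
  obtain ⟨U, hU, hfin, hcl⟩ := exists_dense_lift hd s
  exact key _ s U hU hfin hcl le_rfl

end Groth.Agent.PBC24
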