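import Groth.Agent.Lib.PBC24.Defs

/-!
# Torsion sheaves are torsion for all primes
-/

set_option autoImplicit false
universe u

open CategoryTheory CategoryTheory.Limits AlgebraicGeometry Opposite

namespace Groth.Agent.PBC24

/-- A torsion sheaf is `L`-torsion for the set of all natural numbers. -/
theorem isLTorsion_univ {X : Scheme.{u}} {F : EtCoh.Ab X} (hF : EtCoh.IsTorsion F) :
    EtAcyc.IsLTorsion Set.univ F := by
  intro U s x
  obtain ⟨V, g, hv, ht⟩ := hF U s x
  exact ⟨V, g, addOrderOf (F.obj.map g.op s), hv, ⟨ht.addOrderOf_pos, fun p _ _ => Set.mem_univ p⟩,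
    addOrderOf_nsmul_eq_zero _⟩

/-- An `L`-torsion sheaf is torsion. -/
theorem isTorsion_of_isLTorsion {X : Scheme.{u}} {L : Set ℕ} {F : EtCoh.Ab X} (hF : EtAcyc.IsLTorsion L F) :
    EtCoh.IsTorsion F := by
  intro U s x
  obtain ⟨V, g, m, hv, hm, hs⟩ := hF U s x
  exact ⟨V, g, hv, isOfFinAddOrder_iff_nsmul_eq_zero.2 ⟨m, hm.1, hs⟩⟩

end Groth.Agent.PBC24
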