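import Groth.Agent.Lib.PBC24.CurveVan
import Groth.Agent.Lib.PBC24.PicLift
import Groth.Agent.Lib.PBC24.Kummer
import Groth.Agent.Lib.PBC24.Torsion
import Groth.Agent.Lib.PBC1h24.Main
import Groth.Agent.Lib.EtAcyc24.LqfMain
import Groth.Agent.Lib.HensProper6.Couple
import Groth.Agent.Lib.PicPn.OverPoint
import Groth.Agent.Lib.ProjDeg17.Projection
import Groth.Agent.Lib.AlgSpDecent.DimMor
import Groth.Agent.S0641

/-!
# Proper base change for the projective line over a strictly henselian ring
-/

set_option autoImplicit false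
set_option linter.style.haveILetI false
set_option backward.isDefEq.respectTransparency.types false
universe u

open CategoryTheory CategoryTheory.Limits AlgebraicGeometry Opposite IsLocalRing Polynomial

namespace Groth.Agent.PBC24

open Groth.Agent

variable {A : Type u} [CommRing A] [HenselianLocalRing A]

/-- A strictly henselian ring contains the roots of unity of order invertible in it. -/
theorem exists_root_cyclotomic [IsSepClosed (ResidueField A)] {n : ℕ} (hn : 0 < n)
    (hk : (n : ResidueField A) ≠ 0) : ∃ ζ : A, Polynomial.aeval ζ (Polynomial.cyclotomic n ℤ) = 0 := by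
  haveI : NeZero (n : ResidueField A) := ⟨hk⟩
  obtain ⟨z, hz⟩ := IsSepClosed.exists_root (Polynomial.cyclotomic n (ResidueField A))
    (Polynomial.degree_cyclotomic_pos n _ hn).ne' (Polynomial.separable_cyclotomic n _)
  obtain ⟨a₀, rfl⟩ := IsLocalRing.residue_surjective z
  have hmap : (Polynomial.cyclotomic n A).map (residue A) = Polynomial.cyclotomic n (ResidueField A) :=
    Polynomial.map_cyclotomic n (residue A)
  have h1 : (Polynomial.cyclotomic n A).eval a₀ ∈ maximalIdeal A := by
    rw [← Ideal.Quotient.eq_zero_iff_mem]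
    show residue A _ = 0
    rw [← Polynomial.eval_map_apply, hmap]
    exact hz
  have h2 : IsUnit ((Polynomial.cyclotomic n A).derivative.eval a₀) := by
    rw [← IsLocalRing.residue_ne_zero_iff_isUnit, ← Polynomial.eval_map_apply, ← Polynomial.derivative_map, hmap]
    exact (Polynomial.separable_cyclotomic n _).eval₂_derivative_ne_zero (RingHom.id _) hz
  obtain ⟨ζ, hζ, -⟩ := HenselianLocalRing.is_henselian _ (Polynomial.cyclotomic.monic n A) a₀ h1 h2
  refine ⟨ζ, ?_⟩
  rw [aeval_def, ← Polynomial.eval_map, Polynomial.map_cyclotomic]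
  exact hζ

variable {W : Scheme.{u}} (f : W ⟶ Spec (CommRingCat.of A))

theorem range_closedIncl : Set.range (closedIncl f).base = f.base ⁻¹' {closedPoint A} := by
  have h := HensProper6.range_fst_quotient f (maximalIdeal A)
  refine h.trans (congrArg (f.base ⁻¹' ·) ?_)
  ext p
  constructor
  · intro hp
    exact PrimeSpectrum.ext ((IsLocalRing.maximalIdeal.isMaximal A).eq_of_le p.2.ne_top hp).symm
  · rintro rfl
    exact le_refl (IsLocalRing.maximalIdeal A)

instance : IsClosedImmersion (Spec.map (CommRingCat.ofHom (residue A))) :=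
  IsClosedImmersion.spec_of_surjective _ residue_surjective

/-- On global sections the closed fibre of a proper scheme over a henselian ring computes everything. -/
theorem bijective_Hpull_zero_closedIncl [IsProper f] [PreservesFiniteLimits (EtCoh.pull (closedIncl f))]
    (F : EtCoh.Ab W) : Function.Bijective (EtCore.Hpull (closedIncl f) F 0) := by
  haveI : IsClosedImmersion (closedIncl f) := inferInstanceAs (IsClosedImmersion (pullback.fst _ _))
  exact PBC1h24.bijective_Hpull_zero (closedIncl f) F (Gabber24.bijective_unit_proper (A := A)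
    (I := maximalIdeal A) inferInstance f (closedIncl f) (HensProper6.range_fst_quotient f (maximalIdeal A)) F)

/-- Constant coefficients of prime power order: the comparison is surjective in every degree for curves. -/
theorem surjective_Hpull_closedIncl [IsSepClosed (ResidueField A)] [IsProper f]
    [PreservesFiniteLimits (EtCoh.pull (closedIncl f))]
    (hd : topologicalKrullDim ↥(pullback f (Spec.map (CommRingCat.ofHom (residue A)))) ≤ 1)
    {ℓ : ℕ} (hℓ : ℓ.Prime) (ν : ℕ) (q : ℕ) :
    Function.Surjective (EtCore.Hpull (closedIncl f) (EtCoh.const W (ZMod (ℓ ^ ν))) q) := by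
  haveI : NeZero (ℓ ^ ν) := ⟨(pow_pos hℓ.pos _).ne'⟩
  let g := pullback.snd f (Spec.map (CommRingCat.ofHom (residue A)))
  haveI : IsProper g := MorphismProperty.pullback_snd _ _ inferInstance
  haveI : IsClosedImmersion (closedIncl f) := inferInstanceAs (IsClosedImmersion (pullback.fst _ _))
  let M := ZMod (ℓ ^ ν)
  have hk : (ℓ ^ ν) • 𝟙 ((EtCoh.pull (closedIncl f)).obj (EtCoh.const W M)) = 0 :=
    EtAcyc24.nsmul_id_pull _ (EtAcyc24.nsmul_id_const W (ℓ ^ ν))
  rcases Nat.lt_or_ge q 2 with hq | hq
  · interval_cases q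
    · exact (bijective_Hpull_zero_closedIncl f _).2
    · exact (S0641.result A W f M).2
  rcases eq_or_lt_of_le hq with rfl | hq3
  · by_cases hp : (ℓ : ResidueField A) = 0
    · haveI : Fact ℓ.Prime := ⟨hℓ⟩
      haveI : CharP (ResidueField A) ℓ := (CharP.charP_iff_prime_eq_zero hℓ).2 hp
      haveI := subsingleton_H_charP g hd ℓ _
        (Dix24.isPrimaryTorsion_of_killedBy (Dix24.killedBy_of_nsmul_id hk)) (le_refl 2)
      exact fun y => ⟨0, Subsingleton.elim _ _⟩
    · have hn : ((ℓ ^ ν : ℕ) : ResidueField A) ≠ 0 := by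
        rw [Nat.cast_pow]; exact pow_ne_zero _ hp
      have hu : IsUnit ((ℓ ^ ν : ℕ) : A) := by
        rw [← IsLocalRing.residue_ne_zero_iff_isUnit, map_natCast]; exact hn
      obtain ⟨ζ, hζ⟩ := exists_root_cyclotomic (A := A) (pow_pos hℓ.pos ν) hn
      let φ : A →+* Γ(W, ⊤) := f.appTop.hom.comp (Scheme.ΓSpecIso (CommRingCat.of A)).inv.hom
      have hζW : Polynomial.aeval (φ ζ) (Polynomial.cyclotomic (ℓ ^ ν) ℤ) = 0 := by
        have h := congrArg φ hζ
        rw [map_zero, aeval_def, hom_eval₂] at h
        rw [aeval_def]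
        convert h using 2
        exact RingHom.ext_int _ _
      haveI : IsLocallyNoetherian (pullback f (Spec.map (CommRingCat.ofHom (residue A)))) :=
        LocallyOfFiniteType.isLocallyNoetherian g
      haveI : CompactSpace ↥(pullback f (Spec.map (CommRingCat.ofHom (residue A)))) :=
        QuasiCompact.compactSpace_of_compactSpace g
      haveI : IsNoetherian (pullback f (Spec.map (CommRingCat.ofHom (residue A)))) := ⟨⟩
      exact surjective_Hpull_two (closedIncl f) (by simpa using hu.map φ) (φ ζ) hζW
        (fun x hx => eq_zero_of_pow_nsmul_curve g hd hℓ hp (le_refl 2) x hx)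
        (surjective_HGmPull f (closedIncl f) (range_closedIncl f) hd) (pow_pos hℓ.pos ν)
  · haveI := subsingleton_H_curve_sepClosed g hd _ (isTorsion_of_isLTorsion
      (EtAcyc24.isLTorsion_of_nsmul Set.univ ⟨pow_pos hℓ.pos ν, fun _ _ _ => Set.mem_univ _⟩ hk)) hq3
    exact fun y => ⟨0, Subsingleton.elim _ _⟩

/-- Schemes finite over the projective line have closed fibres of dimension at most one. -/
theorem dim_closedFibre_le_one {X : Scheme.{u}}
    (p : X ⟶ CohB1.ProjSpaceOver 1 (Spec (CommRingCat.of A))) [IsFinite p] :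
    topologicalKrullDim ↥(pullback (p ≫ CohB1.ProjSpaceOver.toBase 1 (Spec (CommRingCat.of A)))
      (Spec.map (CommRingCat.ofHom (residue A)))) ≤ 1 := by
  let κ := Spec.map (CommRingCat.ofHom (residue A))
  have H := PicPn.isPullback_pj 1 κ
  have hbig := IsPullback.of_hasPullback (p ≫ CohB1.ProjSpaceOver.toBase 1 (Spec (CommRingCat.of A))) κ
  let p₀ := H.lift (pullback.fst _ κ ≫ p) (pullback.snd _ κ) (by rw [Category.assoc]; exact pullback.condition)
  have hp₀ : p₀ ≫ PicPn.pj 1 κ = pullback.fst _ κ ≫ p := H.lift_fst _ _ _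
  have hp₀' : p₀ ≫ CohB1.ProjSpace.toSpec 1 (ResidueField A) = pullback.snd _ κ := H.lift_snd _ _ _
  have sq : IsPullback (pullback.fst _ κ) p₀ p (PicPn.pj 1 κ) :=
    IsPullback.of_bot (by rw [hp₀']; exact hbig) hp₀.symm H
  haveI : IsFinite p₀ := MorphismProperty.of_isPullback sq inferInstance
  exact (AlgSpDecent.topologicalKrullDim_le_of_lqf p₀).trans
    ((ProjDeg17.topologicalKrullDim_projSpace_le (k := ResidueField A) 1).trans (le_of_eq Nat.cast_one))

/-- Proper base change for the projective line over a strictly henselian local ring. -/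
theorem clCompN_projLine (A : Type u) [CommRing A] [HenselianLocalRing A] [IsSepClosed (ResidueField A)] :
    ClCompN (CohB1.ProjSpaceOver.toBase 1 (Spec (CommRingCat.of A))) := by
  intro L n
  let t := CohB1.ProjSpaceOver.toBase 1 (Spec (CommRingCat.of A))
  haveI : IsProper t := by
    show IsProper (CohB1.ProjSpaceOver.toBase 1 (Spec (CommRingCat.of A)))
    haveI : IsProper (CohB1.ProjSpace.toSpec 1 (ULift.{u} ℤ)) := ProjSpace.isProper_toSpec _ _
    exact MorphismProperty.pullback_snd _ _ inferInstance
  haveI : CompactSpace ↥(CohB1.ProjSpaceOver 1 (Spec (CommRingCat.of A))) :=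
    QuasiCompact.compactSpace_of_compactSpace t
  haveI : QuasiSeparatedSpace ↥(CohB1.ProjSpaceOver 1 (Spec (CommRingCat.of A))) :=
    quasiSeparatedSpace_of_quasiSeparated t
  haveI : IsClosedImmersion (closedIncl t) := inferInstanceAs (IsClosedImmersion (pullback.fst _ _))
  haveI : PreservesFiniteLimits (EtCoh.pull (closedIncl t)) := EtStalk.preservesFiniteLimits_pull _
  refine EtAcyc24.compN_of_test_zero (closedIncl t) L n ?_ (fun F _ => (bijective_Hpull_zero_closedIncl t F).1)
  intro X p _ _ ℓ hℓ _ ν _ q _
  let κ := Spec.map (CommRingCat.ofHom (residue A))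
  -- the base change of the closed fibre is the closed fibre
  have sq : IsPullback (pullback.snd (closedIncl t) p) (pullback.fst (closedIncl t) p ≫ pullback.snd t κ)
      (p ≫ t) κ :=
    ((IsPullback.of_hasPullback (closedIncl t) p).flip).paste_vert (IsPullback.of_hasPullback t κ)
  let e := sq.isoPullback
  have he : e.hom ≫ closedIncl (p ≫ t) = pullback.snd (closedIncl t) p := sq.isoPullback_hom_fst
  haveI : PreservesFiniteLimits (EtCoh.pull (closedIncl (p ≫ t))) := EtStalk.preservesFiniteLimits_pull _
  refine EtAcyc24.surjective_Hpull_congr he _ _ ?_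
  rw [EtAcyc24.Hpull_comp_eq]
  exact (EtAcyc24.bijective_comp_iso _ q).2.comp ((LocAcyc24.bijective_Hpull_of_isIso _ _ q).2.comp
    (surjective_Hpull_closedIncl (p ≫ t) (dim_closedFibre_le_one p) hℓ ν q))

end Groth.Agent.PBC24
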