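import Groth.Agent.S8537
import Groth.Agent.S3073
import Groth.Agent.Lib.BCInj6.Vanish
import Groth.Agent.Lib.BcMapQ6.Degrees
import Groth.Agent.Lib.BcMapQ6.GenericMain
import Groth.Agent.Lib.BCField24.SepPointConst
import Groth.Agent.Lib.EtPic3.Artinian
import Groth.Agent.Lib.PointLim24.Crit
import Groth.Agent.Lib.PointLim24.Leray
import Groth.Agent.Lib.PBC24.Torsion

/-!
# Consequences of the base change isomorphisms for proper morphisms
-/

set_option autoImplicit false
set_option linter.style.haveILetI false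
set_option linter.unusedSectionVars false
set_option backward.isDefEq.respectTransparency false
set_option backward.isDefEq.respectTransparency.types false

universe u

open CategoryTheory CategoryTheory.Limits AlgebraicGeometry Opposite

namespace Groth.Agent.PBC24

open Groth.Agent.EtStalk

/-- The base change maps of torsion sheaves along `f` are isomorphisms. -/
def HasBC {X S : Scheme.{u}} (f : X ⟶ S) : Prop :=
  ∀ {X' S' : Scheme.{u}} (f' : X' ⟶ S') (g : S' ⟶ S) (g' : X' ⟶ X) (h : IsPullback g' f' f g)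
    (F : EtCoh.Ab X), EtCoh.IsTorsion F → ∀ q : ℕ, IsIso (EtBC.bcQ f g f' g' h.w q F)

/-- Base change isomorphisms for every proper morphism. -/
def ProperBC : Prop := ∀ ⦃X S : Scheme.{u}⦄ (f : X ⟶ S), IsProper f → HasBC f

/-- A comparison on the base goes up along a morphism with base change isomorphisms. -/
theorem compN_of_hasBC {X S X' S' : Scheme.{u}} [CompactSpace S] [QuasiSeparatedSpace S] [CompactSpace S']
    [QuasiSeparatedSpace S'] [CompactSpace X] [QuasiSeparatedSpace X] {f : X ⟶ S} (hf : HasBC f)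
    {f' : X' ⟶ S'} {g : S' ⟶ S} {g' : X' ⟶ X} (h : IsPullback g' f' f g) (n : ℕ)
    (hg : EtAcyc.CompN g Set.univ n) : EtAcyc.CompN g' Set.univ n :=
  Groth.Agent.S8537.result g f g' f' h Set.univ n hg fun Fb hFb =>
    ⟨fun i _ => hf f' g g' h Fb (isTorsion_of_isLTorsion hFb) i,
      haveI := hf f' g g' h Fb (isTorsion_of_isLTorsion hFb) (n + 1); inferInstance⟩

theorem bijective_Hpull_of_hasBC {X S X' S' : Scheme.{u}} [CompactSpace S] [QuasiSeparatedSpace S]
    [CompactSpace S'] [QuasiSeparatedSpace S'] [CompactSpace X] [QuasiSeparatedSpace X] {f : X ⟶ S}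
    (hf : HasBC f) {f' : X' ⟶ S'} {g : S' ⟶ S} {g' : X' ⟶ X} (h : IsPullback g' f' f g)
    [PreservesFiniteLimits (EtCoh.pull g')]
    (hg : ∀ n, EtAcyc.CompN g Set.univ n) {F : EtCoh.Ab X} (hF : EtCoh.IsTorsion F) (q : ℕ) :
    Function.Bijective (EtCore.Hpull g' F q) :=
  (compN_of_hasBC hf h q (hg q) F (isLTorsion_univ hF)).1 q le_rfl

/-- The closed point of a henselian local scheme. -/
theorem compN_closedPoint (A : Type u) [CommRing A] [HenselianLocalRing A] (n : ℕ) :
    EtAcyc.CompN (Spec.map (CommRingCat.ofHom (IsLocalRing.residue A))) Set.univ n := fun F _ _ =>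
  ⟨fun q _ => Groth.Agent.S3073.result A F q, (Groth.Agent.S3073.result A F (n + 1)).1⟩

/-- An extension of separably closed fields. -/
theorem bijective_Hpull_sepClosed {k K : Type u} [Field k] [IsSepClosed k] [Field K] [IsSepClosed K] (i : k →+* K)
    [PreservesFiniteLimits (EtCoh.pull (Spec.map (CommRingCat.ofHom i)))]
    (F : EtCoh.Ab (Spec (CommRingCat.of k))) (q : ℕ) :
    Function.Bijective (EtCore.Hpull (Spec.map (CommRingCat.ofHom i)) F q) := by
  rcases Nat.eq_zero_or_pos q with rfl | hq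
  · haveI : IsSepClosed (IsLocalRing.ResidueField k) :=
      EtPic3.isSepClosed_of_ringEquiv (RingEquiv.ofBijective (algebraMap k (IsLocalRing.ResidueField k))
        ⟨(algebraMap k (IsLocalRing.ResidueField k)).injective, Ideal.Quotient.mk_surjective⟩)
    obtain ⟨e⟩ := BCField24.nonempty_iso_cs F
    refine (PointLim24.bijective_Hpull_zero_iff _ F).2 ((PointLim24.bijective_sec_congr _ e).1 ?_)
    exact BcMapQ6.bijective_sec_cs (Spec.map (CommRingCat.ofHom i)) _
  · haveI := EtPic3.subsingleton_H_sepClosed k F hq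
    haveI := EtPic3.subsingleton_H_sepClosed K ((EtCoh.pull (Spec.map (CommRingCat.ofHom i))).obj F) hq
    exact ⟨fun _ _ _ => Subsingleton.elim _ _, fun y => ⟨0, Subsingleton.elim _ _⟩⟩

theorem compN_sepClosed {k K : Type u} [Field k] [IsSepClosed k] [Field K] [IsSepClosed K] (i : k →+* K) (n : ℕ) :
    EtAcyc.CompN (Spec.map (CommRingCat.ofHom i)) Set.univ n := fun F _ _ =>
  ⟨fun q _ => bijective_Hpull_sepClosed i F q, (bijective_Hpull_sepClosed i F (n + 1)).1⟩

/-- Invariance under extensions of separably closed fields (S3479). -/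
theorem bijective_Hpull_proper_fieldExt (hBC : ProperBC.{u}) {k K : Type u} [Field k] [IsSepClosed k] [Field K]
    [IsSepClosed K] (i : k →+* K) {X : Scheme.{u}} (a : X ⟶ Spec (CommRingCat.of k)) [IsProper a]
    [PreservesFiniteLimits (EtCoh.pull (pullback.fst a (Spec.map (CommRingCat.ofHom i))))]
    {F : EtCoh.Ab X} (hF : EtCoh.IsTorsion F) (q : ℕ) :
    Function.Bijective (EtCore.Hpull (pullback.fst a (Spec.map (CommRingCat.ofHom i))) F q) := by
  haveI : CompactSpace X := QuasiCompact.compactSpace_of_compactSpace a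
  haveI : QuasiSeparatedSpace X := quasiSeparatedSpace_of_quasiSeparated a
  exact bijective_Hpull_of_hasBC (hBC a inferInstance) (IsPullback.of_hasPullback _ _) (compN_sepClosed i) hF q

/-- Comparison with the closed fibre over a henselian local ring (S3095). -/
theorem bijective_Hpull_closedFibre (hBC : ProperBC.{u}) (A : Type u) [CommRing A] [HenselianLocalRing A]
    {X : Scheme.{u}} (f : X ⟶ Spec (CommRingCat.of A)) [IsProper f]
    [PreservesFiniteLimits (EtCoh.pull (pullback.fst f (Spec.map (CommRingCat.ofHom (IsLocalRing.residue A)))))]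
    {F : EtCoh.Ab X} (hF : EtCoh.IsTorsion F) (q : ℕ) :
    Function.Bijective
      (EtCore.Hpull (pullback.fst f (Spec.map (CommRingCat.ofHom (IsLocalRing.residue A)))) F q) := by
  haveI : CompactSpace X := QuasiCompact.compactSpace_of_compactSpace f
  haveI : QuasiSeparatedSpace X := quasiSeparatedSpace_of_quasiSeparated f
  exact bijective_Hpull_of_hasBC (hBC f inferInstance) (IsPullback.of_hasPullback _ _) (compN_closedPoint A) hF q

/-- The degreewise and degree zero forms (S0001). -/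
theorem nonempty_iso_and_baseChange0 (hBC : ProperBC.{u}) {X Y X' Y' : Scheme.{u}} (f : X ⟶ Y) (g : Y' ⟶ Y)
    (f' : X' ⟶ Y') (g' : X' ⟶ X) (h : IsPullback g' f' f g) [IsProper f]
    (F : EtCoh.Ab X) (hF : EtCoh.IsTorsion F) :
    (∀ q : ℕ, Nonempty ((EtCoh.pull g).obj ((EtCoh.Rpush f q).obj F) ≅
      (EtCoh.Rpush f' q).obj ((EtCoh.pull g').obj F))) ∧
    IsIso (EtCoh.baseChange0 f g f' g' h.w F) := by
  refine ⟨fun q => ?_, ProperPush24.isIso_baseChange0_proper f F g f' g' h⟩
  haveI := hBC f inferInstance f' g g' h F hF q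
  exact ⟨asIso (EtBC.bcQ f g f' g' h.w q F)⟩

/-- The derived base change morphism of a torsion sheaf (S3462). -/
theorem isIso_bcMap_single (hBC : ProperBC.{u}) {X S X' S' : Scheme.{u}} (f : X ⟶ S) (g : S' ⟶ S)
    (f' : X' ⟶ S') (g' : X' ⟶ X) (h : IsPullback g' f' f g) [IsProper f]
    [PreservesFiniteLimits (EtCoh.pull g)] [PreservesFiniteLimits (EtCoh.pull g')]
    [DCoh.HasRpushEt X f] [DCoh.HasRpushEt X' f'] [DCoh.HasRpushEt S' g]
    (adj : EtBC.pullD g ⊣ DCoh.RpushEt S' g) (F : EtCoh.Ab X) (hF : EtCoh.IsTorsion F) :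
    IsIso (EtBC.bcMap f g f' g' h.w adj (EtBC.single X F)) := by
  rw [DerivedCategory.isIso_iff]
  intro i
  rcases lt_or_ge i 0 with hi | hi
  · exact BcMapQ6.isIso_homology_bcMap_of_neg g f g' f' h.w adj F i hi
  · obtain ⟨q, rfl⟩ := Int.eq_ofNat_of_zero_le hi
    exact (BcMapQ6.isIso_homology_bcMap_iff g f g' f' h.w adj F q).2 (hBC f inferInstance f' g g' h F hF q)

/-- The stalk of a higher direct image at a geometric point is the cohomology of the fibre (S0156). -/
theorem nonempty_stalk_Rpush (hBC : ProperBC.{u}) {X Y : Scheme.{u}} (f : X ⟶ Y) [IsProper f]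
    {Ω : Type u} [Field Ω] [IsSepClosed Ω] (ξ : Spec (CommRingCat.of Ω) ⟶ Y)
    (F : EtCoh.Ab X) (hF : EtCoh.IsTorsion F) (n : ℕ) :
    Nonempty ((EtCoh.stalk ξ).obj ((EtCoh.Rpush f n).obj F) ≅
      AddCommGrpCat.of (EtCoh.H (pullback f ξ) ((EtCoh.pull (pullback.fst f ξ)).obj F) n)) := by
  haveI := hBC f inferInstance (pullback.snd f ξ) ξ (pullback.fst f ξ) (IsPullback.of_hasPullback f ξ) F hF n
  let H := (EtCoh.Rpush (pullback.snd f ξ) n).obj ((EtCoh.pull (pullback.fst f ξ)).obj F)
  let φ : fib (𝟙 _) (EtCoh.top (Spec (CommRingCat.of Ω))) := Over.homMk (𝟙 _) (Category.comp_id _)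
  haveI : IsIso (germ (𝟙 _) H φ) :=
    (ConcreteCategory.isIso_iff_bijective _).2 (ProperPush24.bijective_germ_top_field H)
  have hB : PointLim24.IsSplit Ω Ω := fun x p hp => ⟨1, x, IsIdempotentElem.one,
    fun h1 => hp.ne_top ((Ideal.eq_top_iff_one p).2 h1), by simp⟩
  obtain ⟨e⟩ := PointLim24.nonempty_HF_iso hB (pullback.snd f ξ) n
  exact ⟨eqToIso (congrArg (fun t => (EtCoh.stalk t).obj ((EtCoh.Rpush f n).obj F)) (Category.id_comp ξ).symm) ≪≫
    asIso (stalkPull ξ (𝟙 _) ((EtCoh.Rpush f n).obj F)) ≪≫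
    asIso ((EtCoh.stalk (𝟙 _)).map (EtBC.bcQ f ξ (pullback.snd f ξ) (pullback.fst f ξ)
      (IsPullback.of_hasPullback f ξ).w n F)) ≪≫
    (asIso (germ (𝟙 _) H φ)).symm ≪≫ (e.app _).symm⟩

end Groth.Agent.PBC24
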