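import Groth.Agent.Lib.PBC24.Defs
import Groth.Agent.Lib.PBC24.Torsion
import Groth.Agent.Lib.EtAcyc24.Comp

/-!
# Formal properties of the comparison property for proper base change
-/

set_option autoImplicit false
set_option linter.style.haveILetI false
universe u

open CategoryTheory CategoryTheory.Limits AlgebraicGeometry Opposite IsLocalRing

namespace Groth.Agent.PBC24

/-- The comparison with the closed fibre only depends on the scheme over the base up to isomorphism. -/
theorem ClCompN.of_iso {A : Type u} [CommRing A] [IsLocalRing A] {X X' : Scheme.{u}}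
    {f : X ⟶ Spec (CommRingCat.of A)} {f' : X' ⟶ Spec (CommRingCat.of A)} (h : ClCompN f) (e : X' ≅ X)
    (he : e.hom ≫ f = f') : ClCompN f' := by
  intro L n
  let κ := Spec.map (CommRingCat.ofHom (residue A))
  let m : pullback f κ ⟶ pullback f' κ := pullback.lift (pullback.fst f κ ≫ e.inv) (pullback.snd f κ)
    (by rw [Category.assoc, ← he, e.inv_hom_id_assoc, pullback.condition])
  let m' : pullback f' κ ⟶ pullback f κ := pullback.lift (pullback.fst f' κ ≫ e.hom) (pullback.snd f' κ)
    (by rw [Category.assoc, he, pullback.condition])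
  have h1 : m ≫ pullback.fst f' κ = pullback.fst f κ ≫ e.inv := pullback.lift_fst _ _ _
  have h2 : m ≫ pullback.snd f' κ = pullback.snd f κ := pullback.lift_snd _ _ _
  have h1' : m' ≫ pullback.fst f κ = pullback.fst f' κ ≫ e.hom := pullback.lift_fst _ _ _
  have h2' : m' ≫ pullback.snd f κ = pullback.snd f' κ := pullback.lift_snd _ _ _
  haveI : IsIso m := by
    refine ⟨m', pullback.hom_ext ?_ ?_, pullback.hom_ext ?_ ?_⟩
    · rw [Category.assoc, h1', ← Category.assoc, h1, Category.assoc, e.inv_hom_id, Category.comp_id, Category.id_comp]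
    · rw [Category.assoc, h2', h2, Category.id_comp]
    · rw [Category.assoc, h1, ← Category.assoc, h1', Category.assoc, e.hom_inv_id, Category.comp_id, Category.id_comp]
    · rw [Category.assoc, h2, h2', Category.id_comp]
  have hm : EtAcyc.CompN m L n := EtAcyc24.compN_of_isIso m L n
  have he' : EtAcyc.CompN e.inv L n := EtAcyc24.compN_of_isIso e.inv L n
  have h3 : m ≫ closedIncl f' = closedIncl f ≫ e.inv := h1
  refine (EtAcyc24.compN_comp_iff m (closedIncl f') hm).2 ?_
  rw [h3]
  exact (EtAcyc24.compN_comp_iff (closedIncl f) e.inv (h L n)).1 he'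

variable {X S : Scheme.{u}} {f : X ⟶ S}

/-- The comparison property in terms of an arbitrary cartesian square. -/
theorem PBCProp.clCompN (hf : PBCProp f) {A : Type u} [CommRing A] [HenselianLocalRing A]
    [IsSepClosed (ResidueField A)] {X' : Scheme.{u}} {u : X' ⟶ X} {v : X' ⟶ Spec (CommRingCat.of A)}
    {σ : Spec (CommRingCat.of A) ⟶ S} (sq : IsPullback u v f σ) : ClCompN v :=
  (hf A σ).of_iso sq.isoPullback sq.isoPullback_hom_snd

/-- The comparison property is stable under base change. -/
theorem PBCProp.baseChange (hf : PBCProp f) {X' S' : Scheme.{u}} {u : X' ⟶ X} {v : X' ⟶ S'} {σ : S' ⟶ S}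
    (sq : IsPullback u v f σ) : PBCProp v := fun A _ _ _ τ =>
  hf.clCompN (((IsPullback.of_hasPullback v τ)).paste_horiz sq)

/-- The comparison property of a closed fibre, for `L`-torsion sheaves in each degree. -/
theorem ClCompN.bijective {A : Type u} [CommRing A] [IsLocalRing A] {Y : Scheme.{u}}
    {g : Y ⟶ Spec (CommRingCat.of A)} (h : ClCompN g) [PreservesFiniteLimits (EtCoh.pull (closedIncl g))]
    {F : EtCoh.Ab Y} (hF : EtCoh.IsTorsion F) (q : ℕ) : Function.Bijective (EtCore.Hpull (closedIncl g) F q) :=
  (h Set.univ q F (isLTorsion_univ hF)).1 q le_rfl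

end Groth.Agent.PBC24
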