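import Groth.Agent.Lib.PBC24.FieldInv
import Groth.Agent.Lib.PBC24.Props
import Groth.Agent.Lib.GeomReg18.Stalk
import Groth.Agent.S6667

/-!
# Base change morphisms from the comparison with closed fibres
-/

set_option autoImplicit false
set_option linter.style.haveILetI false
set_option backward.isDefEq.respectTransparency.types false

universe u

open CategoryTheory CategoryTheory.Limits AlgebraicGeometry Opposite CategoryTheory.Abelian IsLocalRing

namespace Groth.Agent.PBC24

open Groth.Agent.EtStalk Groth.Agent.EtAcyc24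

section Maps

variable {A B C : Scheme.{u}}

/-- Bijectivity of pullback for a composite. -/
theorem bijective_Hpull_comp (a : A ⟶ B) (b : B ⟶ C) [PreservesFiniteLimits (EtCoh.pull a)]
    [PreservesFiniteLimits (EtCoh.pull b)] [PreservesFiniteLimits (EtCoh.pull (a ≫ b))] (F : EtCoh.Ab C) (q : ℕ)
    (ha : Function.Bijective (EtCore.Hpull a ((EtCoh.pull b).obj F) q))
    (hb : Function.Bijective (EtCore.Hpull b F q)) : Function.Bijective (EtCore.Hpull (a ≫ b) F q) := by
  rw [Hpull_comp_eq]
  exact (bijective_comp_iso _ q).comp (ha.comp hb)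

/-- Bijectivity of pullback for the second of two composable morphisms. -/
theorem bijective_Hpull_cancel (a : A ⟶ B) (b : B ⟶ C) [PreservesFiniteLimits (EtCoh.pull a)]
    [PreservesFiniteLimits (EtCoh.pull b)] [PreservesFiniteLimits (EtCoh.pull (a ≫ b))] (F : EtCoh.Ab C) (q : ℕ)
    (ha : Function.Bijective (EtCore.Hpull a ((EtCoh.pull b).obj F) q))
    (hab : Function.Bijective (EtCore.Hpull (a ≫ b) F q)) : Function.Bijective (EtCore.Hpull b F q) := by
  rw [Hpull_comp_eq] at hab
  exact (Function.Bijective.of_comp_iff' ha _).1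
    ((Function.Bijective.of_comp_iff' (bijective_comp_iso ((EtCore.pullComp a b).app F).symm q) _).1 hab)

/-- Bijectivity of pullback only depends on the morphism. -/
theorem bijective_Hpull_congr {f f' : A ⟶ B} (h : f = f') [PreservesFiniteLimits (EtCoh.pull f)]
    [PreservesFiniteLimits (EtCoh.pull f')] (F : EtCoh.Ab B) (q : ℕ)
    (hf : Function.Bijective (EtCore.Hpull f F q)) : Function.Bijective (EtCore.Hpull f' F q) := by
  subst h
  exact hf

/-- Universal homeomorphisms do not change cohomology. -/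
theorem bijective_Hpull_univHomeo (f : A ⟶ B) [IsIntegralHom f] [UniversallyInjective f] [Surjective f]
    [PreservesFiniteLimits (EtCoh.pull f)] (G : EtCoh.Ab B) (n : ℕ) :
    Function.Bijective (EtCore.Hpull f G n) := by
  haveI : IsIso ((EtCoh.pullPushAdj f).unit.app G) :=
    EtStalk.isIso_unit_integral f G fun y _ => Surjective.surj y
  have h2 : Function.Bijective (fun x : EtCoh.H B G n =>
      x.comp (Ext.mk₀ ((EtCoh.pullPushAdj f).unit.app G)) (add_zero n)) :=
    bijective_comp_iso (asIso ((EtCoh.pullPushAdj f).unit.app G)) n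
  have h1 := FieldH25.bijective_HofPush_integral f ((EtCoh.pull f).obj G) n
  refine ⟨fun a b e => h2.1 ?_, fun c => ?_⟩
  · refine h1.1 ?_
    rw [FieldH25.HofPush_unit, FieldH25.HofPush_unit, e]
  · obtain ⟨y, rfl⟩ := h1.2 c
    obtain ⟨x, rfl⟩ := h2.2 y
    exact ⟨x, (FieldH25.HofPush_unit f G n x).symm⟩

end Maps

/-- Cohomology does not see the base change from a separably closed field to an algebraic closure. -/
theorem bijective_Hpull_algClosure {k L : Type u} [Field k] [IsSepClosed k] [Field L] [Algebra k L]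
    [Algebra.IsAlgebraic k L] {X P : Scheme.{u}} {m : P ⟶ X} {b : P ⟶ Spec (CommRingCat.of L)}
    {a : X ⟶ Spec (CommRingCat.of k)} (sq : IsPullback m b a (Spec.map (CommRingCat.ofHom (algebraMap k L))))
    [PreservesFiniteLimits (EtCoh.pull m)] (G : EtCoh.Ab X) (n : ℕ) :
    Function.Bijective (EtCore.Hpull m G n) := by
  haveI : IsPurelyInseparable k L := inferInstance
  let σ := Spec.map (CommRingCat.ofHom (algebraMap k L))
  haveI : IsIntegralHom σ := IsIntegralHom.SpecMap_iff.2 (algebraMap_isIntegral_iff.2 inferInstance)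
  haveI : UniversallyInjective σ := GeomReg18.universallyInjective_spec k L
  haveI : Surjective σ := ⟨fun y => ⟨IsLocalRing.closedPoint L, Subsingleton.elim _ _⟩⟩
  haveI : IsIntegralHom m := MorphismProperty.of_isPullback sq.flip ‹IsIntegralHom σ›
  haveI : UniversallyInjective m := MorphismProperty.of_isPullback sq.flip ‹UniversallyInjective σ›
  haveI : Surjective m := MorphismProperty.of_isPullback sq.flip ‹Surjective σ›
  exact bijective_Hpull_univHomeo m G n

/-- Invariance under extensions of separably closed fields. -/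
theorem bijective_Hpull_sepClosed_ext {k K : Type u} [Field k] [IsSepClosed k] [Field K] [IsSepClosed K]
    (i : k →+* K) {X P : Scheme.{u}} {p : P ⟶ X} {c : P ⟶ Spec (CommRingCat.of K)}
    {a : X ⟶ Spec (CommRingCat.of k)} [QuasiCompact a] [QuasiSeparated a] (hP : PBCProp a)
    (sq : IsPullback p c a (Spec.map (CommRingCat.ofHom i))) [PreservesFiniteLimits (EtCoh.pull p)]
    (F : EtCoh.Ab X) (hF : EtCoh.IsTorsion F) (n : ℕ) : Function.Bijective (EtCore.Hpull p F n) := by
  haveI hpl : ∀ {A B : Scheme.{u}} (g : A ⟶ B), PreservesFiniteLimits (EtCoh.pull g) :=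
    fun g => EtStalk.preservesFiniteLimits_pull g
  letI : Algebra k K := i.toAlgebra
  let k' := AlgebraicClosure k
  let K' := AlgebraicClosure K
  let ι : k' →ₐ[k] K' := IsAlgClosed.lift
  letI : Algebra k' K' := ι.toRingHom.toAlgebra
  let sk := Spec.map (CommRingCat.ofHom (algebraMap k k'))
  let sK := Spec.map (CommRingCat.ofHom (algebraMap K K'))
  let sι := Spec.map (CommRingCat.ofHom (algebraMap k' K'))
  have hcomm : sι ≫ sk = sK ≫ Spec.map (CommRingCat.ofHom i) := by
    rw [← Spec.map_comp, ← Spec.map_comp]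
    refine congrArg Spec.map (CommRingCat.hom_ext (RingHom.ext fun x => ?_))
    exact (ι.commutes x).trans (IsScalarTower.algebraMap_apply k K K' x)
  let u := pullback.fst a sk
  let a' := pullback.snd a sk
  let M := pullback.fst a' sι
  have hM : Function.Bijective (EtCore.Hpull M ((EtCoh.pull u).obj F) n) :=
    bijective_Hpull_fieldExt a' (hP.baseChange (IsPullback.of_hasPullback a sk)) _
      (isTorsion_of_isLTorsion (isLTorsion_pull u _ (isLTorsion_univ hF))) n
  have hu : Function.Bijective (EtCore.Hpull u F n) :=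
    bijective_Hpull_algClosure (IsPullback.of_hasPullback a sk) F n
  have hMu : Function.Bijective (EtCore.Hpull (M ≫ u) F n) := bijective_Hpull_comp M u F n hM hu
  let m : pullback a' sι ⟶ P := sq.lift (M ≫ u) (pullback.snd a' sι ≫ sK) (by
    rw [Category.assoc, Category.assoc, ← hcomm, ← pullback.condition_assoc, pullback.condition])
  have hm1 : m ≫ p = M ≫ u := sq.lift_fst _ _ _
  have sqm : IsPullback m (pullback.snd a' sι) c sK := by
    refine IsPullback.of_right ?_ (sq.lift_snd _ _ _) sq
    rw [hm1, ← hcomm]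
    exact (IsPullback.of_hasPullback a' sι).paste_horiz (IsPullback.of_hasPullback a sk)
  exact bijective_Hpull_cancel m p F n (bijective_Hpull_algClosure sqm _ n)
    (bijective_Hpull_congr hm1.symm F n hMu)

/-- Pullback along a local homomorphism of strictly henselian rings is bijective on cohomology. -/
theorem bijective_Hpull_of_local {R R' : Type u} [CommRing R] [HenselianLocalRing R] [IsSepClosed (ResidueField R)]
    [CommRing R'] [HenselianLocalRing R'] [IsSepClosed (ResidueField R')] (ψ : R →+* R') [IsLocalHom ψ]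
    {P P' : Scheme.{u}} {b : P ⟶ Spec (CommRingCat.of R)} [QuasiCompact b] [QuasiSeparated b] (hb : PBCProp b)
    {m : P' ⟶ P} {b' : P' ⟶ Spec (CommRingCat.of R')}
    (sq : IsPullback m b' b (Spec.map (CommRingCat.ofHom ψ))) [PreservesFiniteLimits (EtCoh.pull m)]
    (F : EtCoh.Ab P) (hF : EtCoh.IsTorsion F) (n : ℕ) : Function.Bijective (EtCore.Hpull m F n) := by
  haveI hpl : ∀ {A B : Scheme.{u}} (g : A ⟶ B), PreservesFiniteLimits (EtCoh.pull g) :=
    fun g => EtStalk.preservesFiniteLimits_pull g
  let ψ₀ := IsLocalRing.ResidueField.map ψ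
  let κ := Spec.map (CommRingCat.ofHom (residue R))
  let κ' := Spec.map (CommRingCat.ofHom (residue R'))
  let sψ := Spec.map (CommRingCat.ofHom ψ)
  let sψ₀ := Spec.map (CommRingCat.ofHom ψ₀)
  have hcomm : sψ₀ ≫ κ = κ' ≫ sψ := by
    rw [← Spec.map_comp, ← Spec.map_comp]
    exact congrArg Spec.map (CommRingCat.hom_ext (RingHom.ext fun x => IsLocalRing.ResidueField.map_residue ψ x))
  have hcl : ClCompN b := hb.clCompN (IsPullback.of_horiz_isIso
    ⟨show 𝟙 P ≫ b = b ≫ 𝟙 _ by rw [Category.id_comp, Category.comp_id]⟩)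
  have hb' : PBCProp b' := hb.baseChange sq
  have hcl' : ClCompN b' := hb'.clCompN (IsPullback.of_horiz_isIso
    ⟨show 𝟙 P' ≫ b' = b' ≫ 𝟙 _ by rw [Category.id_comp, Category.comp_id]⟩)
  let m₀ : pullback b' κ' ⟶ pullback b κ := pullback.lift (closedIncl b' ≫ m) (pullback.snd b' κ' ≫ sψ₀) (by
    rw [Category.assoc, sq.w, Category.assoc, hcomm, ← pullback.condition_assoc])
  have hm0 : m₀ ≫ closedIncl b = closedIncl b' ≫ m := pullback.lift_fst _ _ _
  have sq₀ : IsPullback m₀ (pullback.snd b' κ') (pullback.snd b κ) sψ₀ := by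
    refine IsPullback.of_right ?_ (pullback.lift_snd _ _ _) (IsPullback.of_hasPullback b κ)
    rw [show m₀ ≫ pullback.fst b κ = closedIncl b' ≫ m from hm0, hcomm]
    exact (IsPullback.of_hasPullback b' κ').paste_horiz sq
  haveI : QuasiCompact (pullback.snd b κ) := MorphismProperty.pullback_snd _ _ ‹QuasiCompact b›
  haveI : QuasiSeparated (pullback.snd b κ) := MorphismProperty.pullback_snd _ _ ‹QuasiSeparated b›
  have h0 : Function.Bijective (EtCore.Hpull m₀ ((EtCoh.pull (closedIncl b)).obj F) n) :=
    bijective_Hpull_sepClosed_ext ψ₀ (hb.baseChange (IsPullback.of_hasPullback b κ)) sq₀ _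
      (isTorsion_of_isLTorsion (isLTorsion_pull (closedIncl b) _ (isLTorsion_univ hF))) n
  have h1 := bijective_Hpull_comp m₀ (closedIncl b) F n h0 (hcl.bijective hF n)
  exact bijective_Hpull_cancel (closedIncl b') m F n
    (hcl'.bijective (isTorsion_of_isLTorsion (isLTorsion_pull m _ (isLTorsion_univ hF))) n)
    (bijective_Hpull_congr hm0 F n h1)

/-- Base change holds for morphisms with the comparison property. -/
theorem isIso_bcQ_of_pbcProp {X S Y T : Scheme.{u}} (f : X ⟶ S) (g : T ⟶ S) [QuasiCompact g] [QuasiSeparated g]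
    (hg : PBCProp g) (h : Y ⟶ X) (e : Y ⟶ T) (c : IsPullback e h g f) [PreservesFiniteLimits (EtCoh.pull e)]
    (F : EtCoh.Ab T) (hF : EtCoh.IsTorsion F) (q : ℕ) : IsIso (EtBC.bcQ g f h e c.w q F) := by
  refine (S6667.result f g h e c F q).1 ?_
  intro x RS _ _ _ _ hRS RX _ _ _ _ hRX ψ _ hψ PS PX aS bS hPS aX bX hPX m w hm _
  haveI : HenselianLocalRing RX := hRX.henselian
  haveI : HenselianLocalRing RS := hRS.henselian
  haveI : IsSepClosed (IsLocalRing.ResidueField RX) := hRX.isSepClosure.sep_closed
  haveI : IsSepClosed (IsLocalRing.ResidueField RS) := hRS.isSepClosure.sep_closed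
  haveI : QuasiCompact bS := MorphismProperty.of_isPullback hPS ‹QuasiCompact g›
  haveI : QuasiSeparated bS := MorphismProperty.of_isPullback hPS ‹QuasiSeparated g›
  have hsp : Spec.map (CommRingCat.ofHom ψ) ≫ Hens2.specOf S (f.base x) RS = Hens2.specOf X x RX ≫ f :=
    (LocAcyc24.specOf_compat f ψ).1 hψ
  have sq : IsPullback m bX bS (Spec.map (CommRingCat.ofHom ψ)) := by
    refine IsPullback.of_right ?_ hm hPS
    rw [w, hsp]
    exact hPX
  have hb := bijective_Hpull_of_local ψ (hg.baseChange hPS) sq ((EtCoh.pull aS).obj F)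
    (isTorsion_of_isLTorsion (isLTorsion_pull aS _ (isLTorsion_univ hF))) q
  exact ((EtCoh.HF PX q).mapIso (((EtCore.pullComp m aS).symm ≪≫ EtCore.pullCongr w).app F)).addCommGroupIsoToAddEquiv.bijective.comp hb

end Groth.Agent.PBC24
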