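import Groth.Agent.Lib.PBC24.Cd
import Groth.Agent.Lib.PBC24.BCQ
import Groth.Agent.Lib.PBC24.Reductions
import Groth.Agent.Lib.FieldBr3.CurveCd
import Groth.Agent.Lib.FieldBr3.CurveSupp

/-!
# Higher direct images along proper morphisms from the geometric fibres
-/

set_option autoImplicit false
set_option linter.style.haveILetI false
set_option linter.unusedSectionVars false
set_option backward.isDefEq.respectTransparency false
set_option backward.isDefEq.respectTransparency.types false

universe u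

open CategoryTheory CategoryTheory.Limits AlgebraicGeometry Opposite

namespace Groth.Agent.PBC24

open Groth.Agent.EtStalk Groth.Agent.EtPic3

/-- Higher direct images vanish if the cohomology of the geometric fibres does. -/
theorem isZero_Rpush_of_fibres (hBC : ProperBC.{u}) {X Y : Scheme.{u}} (f : X ⟶ Y) [IsProper f]
    (G : EtCoh.Ab X) (hG : EtCoh.IsTorsion G) (i : ℕ)
    (h : ∀ (Ω : Type u) [Field Ω] [IsSepClosed Ω] (ξ : Spec (CommRingCat.of Ω) ⟶ Y),
      Subsingleton (EtCoh.H (pullback f ξ) ((EtCoh.pull (pullback.fst f ξ)).obj G) i)) :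
    IsZero ((EtCoh.Rpush f i).obj G) := by
  rw [isZero_iff_stalk]
  intro Ω _ _ ξ
  obtain ⟨e⟩ := nonempty_stalk_Rpush hBC f ξ G hG i
  haveI := h Ω ξ
  exact IsZero.of_iso (AddCommGrpCat.isZero_of_subsingleton _) e

/-- Vanishing over an algebraic closure of the separably closed base field. -/
theorem CdLE.of_algClosure {k : Type u} [Field k] [IsSepClosed k] {X : Scheme.{u}}
    (a : X ⟶ Spec (CommRingCat.of k)) {N : ℕ}
    (h : CdLE (pullback a (Spec.map (CommRingCat.ofHom (algebraMap k (AlgebraicClosure k))))) N) : CdLE X N := by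
  intro F hF q hq
  haveI := preservesFiniteLimits_pull (pullback.fst a (Spec.map (CommRingCat.ofHom (algebraMap k (AlgebraicClosure k)))))
  haveI := h ((EtCoh.pull (pullback.fst a (Spec.map (CommRingCat.ofHom (algebraMap k (AlgebraicClosure k)))))).obj F) (FieldBr3.isTorsion_pull' _ hF) q hq
  exact (bijective_Hpull_algClosure (IsPullback.of_hasPullback a (Spec.map (CommRingCat.ofHom (algebraMap k (AlgebraicClosure k))))) F q).1.subsingleton

/-- Curves over algebraically closed fields. -/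
theorem cdLE_curve {k : Type u} [Field k] [IsAlgClosed k] {X : Scheme.{u}} (f : X ⟶ Spec (CommRingCat.of k))
    [LocallyOfFiniteType f] [QuasiCompact f] (hdim : topologicalKrullDim X ≤ 1) : CdLE X 2 :=
  fun F hF q hq => FieldBr3.subsingleton_H_curve f hdim F hF (Nat.succ_le_of_lt hq)

/-- The vanishing of stalks goes up along a morphism. -/
theorem isZero_stalk_pull {X Y : Scheme.{u}} (f : X ⟶ Y) (F : EtCoh.Ab Y) {Ω : Type u} [Field Ω] [IsSepClosed Ω]
    (ξ : Spec (CommRingCat.of Ω) ⟶ X) (h : IsZero ((EtCoh.stalk (ξ ≫ f)).obj F)) :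
    IsZero ((EtCoh.stalk ξ).obj ((EtCoh.pull f).obj F)) :=
  IsZero.of_iso h (asIso (stalkPull f ξ F)).symm

/-- A sheaf supported on an open which is quasi-finite over the base has no higher direct images. -/
theorem isZero_Rpush_of_supp (hBC : ProperBC.{u}) {X Y : Scheme.{u}} (f : X ⟶ Y) [IsProper f] (V : X.Opens)
    [LocallyQuasiFinite (V.ι ≫ f)] (G : EtCoh.Ab X) (hG : EtCoh.IsTorsion G)
    (hzero : ∀ (Ω : Type u) [Field Ω] [IsSepClosed Ω] (ξ : Spec (CommRingCat.of Ω) ⟶ X),
      ξ (default : Spec (CommRingCat.of Ω)) ∉ V → IsZero ((EtCoh.stalk ξ).obj G))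
    (i : ℕ) (hi : 0 < i) : IsZero ((EtCoh.Rpush f i).obj G) := by
  refine isZero_Rpush_of_fibres hBC f G hG i fun Ω _ _ ξ => ?_
  let s := pullback.snd f ξ
  let a := pullback.fst f ξ
  refine FieldBr3.subsingleton_H_suppClosed s ((EtCoh.pull a).obj G) (fun K _ _ ζ hζ => ?_) hi
  refine AddCommGrpCat.subsingleton_of_isZero (isZero_stalk_pull a G ζ (hzero K (ζ ≫ a) fun hmem => hζ ?_))
  haveI : JacobsonSpace ↥(pullback f ξ) := LocallyOfFiniteType.jacobsonSpace s
  haveI : LocallyQuasiFinite ((a ⁻¹ᵁ V).ι ≫ s) := by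
    haveI : LocallyQuasiFinite (pullback.snd (V.ι ≫ f) ξ) := inferInstance
    have hsq := ((isPullback_morphismRestrict a V).paste_vert (IsPullback.of_hasPullback f ξ))
    rw [show (a ⁻¹ᵁ V).ι ≫ s = hsq.isoPullback.hom ≫ pullback.snd (V.ι ≫ f) ξ from
      hsq.isoPullback_hom_snd.symm]
    infer_instance
  haveI : IsLocallyArtinian (a ⁻¹ᵁ V).toScheme := IsLocallyArtinian.of_locallyQuasiFinite ((a ⁻¹ᵁ V).ι ≫ s)
  let w := ζ (default : Spec (CommRingCat.of K))
  have hw : w ∈ a ⁻¹ᵁ V := by
    change a w ∈ V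
    rw [← Scheme.Hom.comp_apply]
    exact hmem
  have ho : IsOpen ({w} : Set ↥(pullback f ξ)) := by
    have := (a ⁻¹ᵁ V).isOpenEmbedding'.isOpenMap _ (isOpen_discrete ({⟨w, hw⟩} : Set ↥(a ⁻¹ᵁ V).toScheme))
    rwa [Set.image_singleton] at this
  exact isClosed_singleton_of_isLocallyClosed_singleton ho.isLocallyClosed

end Groth.Agent.PBC24
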