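import Groth.Agent.Lib.FieldBr3.CurveCd
import Groth.Agent.Lib.FieldBr3.CurveSupp
import Groth.Agent.Lib.RelCyc15.PerfectPull
import Groth.Agent.Lib.CdpDim3.Main
import Groth.Agent.S0642

/-!
# Vanishing on curves over separably closed fields
-/

set_option autoImplicit false
set_option linter.style.haveILetI false
set_option backward.isDefEq.respectTransparency.types false
universe u

open CategoryTheory CategoryTheory.Limits AlgebraicGeometry Opposite

namespace Groth.Agent.PBC24

open Groth.Agent

/-- Cohomology of torsion sheaves passes injectively to universally homeomorphic schemes. -/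
theorem subsingleton_H_of_univHomeo {X₀ X : Scheme.{u}} (i : X₀ ⟶ X) [IsIntegralHom i] [UniversallyInjective i]
    [Surjective i] (F : EtCoh.Ab X) (q : ℕ) (h : Subsingleton (EtCoh.H X₀ ((EtCoh.pull i).obj F) q)) :
    Subsingleton (EtCoh.H X F q) := by
  haveI : PreservesFiniteLimits (EtCoh.pull i) := EtStalk.preservesFiniteLimits_pull i
  exact (S0642.result i F q).1.subsingleton

variable {k : Type u} [Field k] [IsSepClosed k] {X : Scheme.{u}} (f : X ⟶ Spec (CommRingCat.of k))
  [LocallyOfFiniteType f] [QuasiCompact f]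

include f in
/-- Torsion sheaves on a curve over a separably closed field have no cohomology in degrees at least three. -/
theorem subsingleton_H_curve_sepClosed (hdim : topologicalKrullDim X ≤ 1) (F : EtCoh.Ab X)
    (hF : EtCoh.IsTorsion F) {q : ℕ} (hq : 3 ≤ q) : Subsingleton (EtCoh.H X F q) := by
  let kb := AlgebraicClosure k
  haveI : IsPurelyInseparable k kb := inferInstance
  let σ := Spec.map (CommRingCat.ofHom (algebraMap k kb))
  haveI : IsIntegralHom σ := by
    rw [IsIntegralHom.SpecMap_iff]
    exact algebraMap_isIntegral_iff.mpr (inferInstance : Algebra.IsIntegral k kb)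
  haveI : UniversallyInjective σ := RelCyc15.universallyInjective_spec k kb
  haveI : Surjective σ := RelCyc15.surjective_spec k kb
  let π := pullback.fst f σ
  haveI : IsIntegralHom π := MorphismProperty.pullback_fst _ _ inferInstance
  haveI : UniversallyInjective π := MorphismProperty.pullback_fst _ _ inferInstance
  haveI : Surjective π := MorphismProperty.pullback_fst _ _ inferInstance
  have hh : IsHomeomorph π :=
    isHomeomorph_iff_isEmbedding_surjective.2
      ⟨(Topology.IsClosedEmbedding.of_continuous_injective_isClosedMap π.continuous π.injective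
        π.isClosedMap).isEmbedding, π.surjective⟩
  haveI : QuasiCompact (pullback.snd f σ) := MorphismProperty.pullback_snd _ _ inferInstance
  haveI : LocallyOfFiniteType (pullback.snd f σ) := MorphismProperty.pullback_snd _ _ inferInstance
  exact subsingleton_H_of_univHomeo π F q (FieldBr3.subsingleton_H_curve (pullback.snd f σ)
    ((IsHomeomorph.topologicalKrullDim_eq _ hh).trans_le hdim) _ (FieldBr3.isTorsion_pull' π hF) hq)

omit [QuasiCompact f] in
include f in
/-- Residue fields of curves over separably closed fields have torsion cohomological dimension one. -/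
theorem cohDimLEAt_residueField (hdim : topologicalKrullDim X ≤ 1) (x : X) (ℓ : ℕ) (hℓ : ℓ.Prime) :
    Dix.CohDimLEAt (Spec (X.residueField x)) ℓ 1 := by
  letI := VarDim.resAlg f x
  let K : Type u := X.residueField x
  let Ω := AlgebraicClosure K
  let P := perfectClosure K Ω
  let kb := algebraicClosure k Ω
  haveI : IsPurelyInseparable k kb := Algebra.IsAlgebraic.isPurelyInseparable_of_isSepClosed
  have hsub : ∀ a : kb, (a : Ω) ∈ P := fun a => by
    obtain ⟨q, _⟩ := ExpChar.exists k
    haveI : ExpChar K q := expChar_of_injective_algebraMap (algebraMap k K).injective q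
    rw [mem_perfectClosure_iff_pow_mem q]
    obtain ⟨n, c, hc⟩ := IsPurelyInseparable.pow_mem k q a
    refine ⟨n, algebraMap k K c, ?_⟩
    rw [← IsScalarTower.algebraMap_apply, IsScalarTower.algebraMap_apply k kb Ω, hc]
    simp
  let φ : kb →+* P := ((algebraMap kb Ω).codRestrict P hsub)
  letI : Algebra kb P := φ.toAlgebra
  haveI : IsScalarTower k kb P := IsScalarTower.of_algebraMap_eq fun c => rfl
  haveI : IsAlgClosed kb := (algebraicClosure.isAlgClosure k Ω).isAlgClosed
  haveI : IsPurelyInseparable K P := perfectClosure.isPurelyInseparable K Ω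
  have h0 : Algebra.trdeg k kb = 0 := trdeg_eq_zero
  have h1 : Algebra.trdeg K P = 0 := trdeg_eq_zero
  have e1 := trdeg_add_eq k kb (A := P)
  have e2 := trdeg_add_eq k K (A := P)
  rw [h0, zero_add] at e1
  rw [h1, add_zero] at e2
  have hsd : VarDim.sdim f x ≤ 1 := by
    have h := (le_iSup (fun y : X => ((VarDim.sdim f y : ℕ) : WithBot ℕ∞)) x).trans
      ((VarDim.dim_eq_iSup_sdim f).ge.trans hdim)
    exact_mod_cast h
  have hC : Curves.IsCr P 1 := FieldBr3.isCr_one_of_trdeg_le_one kb P (VarDim.sdim f x) hsd
    (e1.trans (e2.symm.trans (VarDim.trdeg_residueField f x)))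
  intro F hF q hq
  let σ : Spec (CommRingCat.of P) ⟶ Spec (X.residueField x) := Spec.map (CommRingCat.ofHom (algebraMap K P))
  haveI : IsIntegralHom σ := by
    rw [IsIntegralHom.SpecMap_iff]
    exact algebraMap_isIntegral_iff.mpr (inferInstance : Algebra.IsIntegral K P)
  haveI : UniversallyInjective σ := RelCyc15.universallyInjective_spec K P
  haveI : Surjective σ := RelCyc15.surjective_spec K P
  refine subsingleton_H_of_univHomeo σ F q (FieldBr3.subsingleton_H_torsion P
    (FieldBr3.normSurj_of_brauer _ (FieldBr3.brauer_trivial_of_isCr_one _ hC)) _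
    (FieldBr3.isTorsion_pull' σ ?_) hq)
  intro U s z
  obtain ⟨V, g, hv, k', hk'⟩ := hF U s z
  exact ⟨V, g, hv, isOfFinAddOrder_iff_nsmul_eq_zero.2 ⟨ℓ ^ k', pow_pos hℓ.pos _, hk'⟩⟩

include f in
/-- On a curve over a separably closed field the units have no `ℓ`-primary torsion cohomology above degree one. -/
theorem eq_zero_of_pow_nsmul_curve (hdim : topologicalKrullDim X ≤ 1) {ℓ : ℕ} (hℓ : ℓ.Prime)
    (hk : (ℓ : k) ≠ 0) {i : ℕ} (hi : 2 ≤ i) (ξ : EtCoh.H X (EtCoh.Gm X) i) {e : ℕ} (hξ : ℓ ^ e • ξ = 0) :
    ξ = 0 := by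
  haveI : IsLocallyNoetherian X := LocallyOfFiniteType.isLocallyNoetherian f
  haveI : CompactSpace X := QuasiCompact.compactSpace_of_compactSpace f
  haveI : IsNoetherian X := ⟨⟩
  have hinv : Dix.InvertibleOn X ℓ := fun x h => by
    letI := VarDim.resAlg f x
    refine hk ((algebraMap k (X.residueField x)).injective ?_)
    rw [map_natCast, map_zero]; exact h
  exact EtPic3.eq_zero_of_pow_nsmul X hdim ℓ hℓ hinv (fun x _ => cohDimLEAt_residueField f hdim x ℓ hℓ)
    (fun x hx => FieldBr3.isSepClosed_residueField_of_sepClosed f hx) i hi ξ e hξ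

include f in
omit [LocallyOfFiniteType f] [QuasiCompact f] in
/-- On a proper curve in characteristic `p` the `p`-primary cohomology stops in degree one. -/
theorem subsingleton_H_charP [IsProper f] (hdim : topologicalKrullDim X ≤ 1) (p : ℕ) [Fact p.Prime] [CharP k p]
    (F : EtCoh.Ab X) (hF : Dix.IsPrimaryTorsion p F) {q : ℕ} (hq : 2 ≤ q) : Subsingleton (EtCoh.H X F q) :=
  CdpDim3.cohDimLEAt_of_cpt (n := 1) f ⟨X, f, 𝟙 X, inferInstance, inferInstance, inferInstance, hdim⟩ F hF q hq

end Groth.Agent.PBC24
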