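import Groth.Agent.Lib.PBC24.LimClass
import Groth.Agent.Lib.PBC24.Torsion
import Groth.Agent.Lib.LocAcycBC6.LocBC
import Groth.Agent.Lib.LocAcyc24.Transport
import Mathlib.RingTheory.Jacobson.Ring
import Mathlib.AlgebraicGeometry.Morphisms.UniversallyOpen

/-!
# Invariance of cohomology under extensions of an algebraically closed field
-/

set_option autoImplicit false
set_option linter.style.haveILetI false
set_option backward.isDefEq.respectTransparency.types false

universe u

open CategoryTheory CategoryTheory.Limits AlgebraicGeometry Opposite CategoryTheory.Abelian IsLocalRing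

namespace Groth.Agent.PBC24

open Groth.Agent.EtStalk Groth.Agent.EtAcyc24

variable {k K : Type u} [Field k] [Field K] [Algebra k K]

/-- The finitely generated subalgebra on a finite set. -/
abbrev stageAlg (s : Finset K) : Subalgebra k K := Algebra.adjoin k (s : Set K)

/-- A field extension as a limit of its finitely generated subalgebras. -/
noncomputable def subalgSys :
    AffSys.{u} (Spec.map (CommRingCat.ofHom (algebraMap k K))) := by
  classical
  let D : Finset K ⥤ CommRingCat.{u} :=
    { obj := fun s => CommRingCat.of (stageAlg (k := k) s)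
      map := fun {s t} f => CommRingCat.ofHom
        (Subalgebra.inclusion (Algebra.adjoin_mono (Finset.coe_subset.2 (leOfHom f)))).toRingHom }
  let cc : Cocone D :=
    { pt := CommRingCat.of K
      ι :=
        { app := fun s => CommRingCat.ofHom (stageAlg (k := k) s).val.toRingHom
          naturality := fun s t f => rfl } }
  haveI : PreservesColimit D (forget CommRingCat.{u}) := inferInstance
  haveI : ReflectsColimit D (forget CommRingCat.{u}) := reflectsColimit_of_reflectsIsomorphisms _ _
  have hcc : IsColimit cc := isColimitOfReflects (forget CommRingCat)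
    (Types.FilteredColimit.isColimitOf' _ _
      (fun x => ⟨{x}, ⟨x, Algebra.subset_adjoin (by simp)⟩, rfl⟩)
      fun s x y h => ⟨s, 𝟙 s, congrArg _ (Subtype.ext h)⟩)
  exact
    { ι := Finset K
      T := D.op ⋙ Scheme.Spec
      isAffine := fun i => by
        show IsAffine (Spec _)
        infer_instance
      π := (Scheme.Spec.mapCone cc.op).π
      isLimit := isLimitOfPreserves Scheme.Spec hcc.op
      b := fun i => Spec.map (CommRingCat.ofHom (algebraMap k (stageAlg (k := k) i.unop)))
      hb := fun i j f => by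
        show Spec.map (D.map f.unop) ≫ Spec.map _ = _
        rw [← Spec.map_comp]
        exact congrArg Spec.map (CommRingCat.hom_ext (RingHom.ext fun _ => rfl))
      hπ := fun i => by
        show Spec.map (CommRingCat.ofHom (stageAlg (k := k) i.unop).val.toRingHom) ≫ Spec.map _ = _
        rw [← Spec.map_comp]
        exact congrArg Spec.map (CommRingCat.hom_ext (RingHom.ext fun _ => rfl)) }

/-- A rational point of a finitely generated subalgebra. -/
theorem exists_point [IsAlgClosed k] (s : Finset K) : Nonempty (stageAlg (k := k) s →ₐ[k] k) := by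
  let B := stageAlg (k := k) s
  haveI : Algebra.FiniteType k B := B.fg_iff_finiteType.1 (Subalgebra.fg_adjoin_finset s)
  obtain ⟨m, hm⟩ := Ideal.exists_maximal B
  letI := Ideal.Quotient.field m
  haveI : Module.Finite k (B ⧸ m) := finite_of_finite_type_of_isJacobsonRing k (B ⧸ m)
  haveI : Algebra.IsIntegral k (B ⧸ m) := Algebra.IsIntegral.of_finite k (B ⧸ m)
  have hb : Function.Bijective (Algebra.ofId k (B ⧸ m)) :=
    IsAlgClosed.algebraMap_bijective_of_isIntegral (k := k) (K := B ⧸ m)
  exact ⟨(AlgEquiv.ofBijective (Algebra.ofId k (B ⧸ m)) hb).symm.toAlgHom.comp (Ideal.Quotient.mkₐ k m)⟩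

/-- A class on a scheme with the identity as pullback. -/
theorem eq_zero_of_Hpull_id {X Q : Scheme.{u}} (s : X ⟶ Q) (q : Q ⟶ X) (hsq : s ≫ q = 𝟙 X)
    (F : EtCoh.Ab X) {n : ℕ} (ξ : EtCoh.H X F n) (h : EtCore.Hpull q F n ξ = 0) : ξ = 0 := by
  haveI : PreservesFiniteLimits (EtCoh.pull s) := EtStalk.preservesFiniteLimits_pull s
  haveI : PreservesFiniteLimits (EtCoh.pull (𝟙 X)) := EtStalk.preservesFiniteLimits_pull _
  refine (LocAcyc24.bijective_Hpull_of_isIso (𝟙 X) F n).1 ?_
  rw [map_zero, ← HpullVia_Hpull s q (𝟙 X) hsq F n ξ, h, map_zero]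

set_option maxHeartbeats 1000000 in
/-- Cohomology of torsion sheaves on a scheme with the comparison property over an algebraically closed field is
invariant under extensions by separably closed fields. -/
theorem bijective_Hpull_fieldExt [IsAlgClosed k] [IsSepClosed K] {X : Scheme.{u}}
    (a : X ⟶ Spec (CommRingCat.of k)) [QuasiCompact a] [QuasiSeparated a] (hP : PBCProp a)
    (F : EtCoh.Ab X) (hF : EtCoh.IsTorsion F) (n : ℕ)
    [PreservesFiniteLimits (EtCoh.pull (pullback.fst a (Spec.map (CommRingCat.ofHom (algebraMap k K)))))] :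
    Function.Bijective
      (EtCore.Hpull (pullback.fst a (Spec.map (CommRingCat.ofHom (algebraMap k K)))) F n) := by
  haveI hpl : ∀ {A B : Scheme.{u}} (g : A ⟶ B), PreservesFiniteLimits (EtCoh.pull g) :=
    fun g => EtStalk.preservesFiniteLimits_pull g
  let S := subalgSys (k := k) (K := K)
  refine ⟨(injective_iff_map_eq_zero _).2 fun ξ hξ => ?_, fun η => ?_⟩
  · obtain ⟨i, hi⟩ := exists_stage_Hpull_eq_zero a S F n ξ hξ
    obtain ⟨χ⟩ := exists_point (k := k) (K := K) i.unop
    refine eq_zero_of_Hpull_id (pullback.lift (𝟙 X) (a ≫ Spec.map (CommRingCat.ofHom χ.toRingHom)) ?_)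
      (pullback.fst a (S.b i)) (pullback.lift_fst _ _ _) F ξ hi
    show _ = (a ≫ _) ≫ Spec.map (CommRingCat.ofHom (algebraMap k _))
    rw [Category.assoc, ← Spec.map_comp, Category.id_comp]
    refine (Category.comp_id a).symm.trans (congrArg (a ≫ ·) ((Spec.map_id _).symm.trans (congrArg Spec.map ?_)))
    exact CommRingCat.hom_ext (RingHom.ext fun x => (χ.commutes x).symm)
  · obtain ⟨i, Q, q, t, sq, r, hr, hrt, x, hx⟩ := exists_stage_class a S F n η
    haveI : QuasiCompact t := MorphismProperty.of_isPullback sq ‹QuasiCompact a›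
    haveI : QuasiSeparated t := MorphismProperty.of_isPullback sq ‹QuasiSeparated a›
    obtain ⟨χ⟩ := exists_point (k := k) (K := K) i.unop
    let B := stageAlg (k := k) i.unop
    let W : Scheme.{u} := Spec (CommRingCat.of B)
    let sχ : Spec (CommRingCat.of k) ⟶ W := Spec.map (CommRingCat.ofHom χ.toRingHom)
    let bi : W ⟶ Spec (CommRingCat.of k) := Spec.map (CommRingCat.ofHom (algebraMap k B))
    have hχb : sχ ≫ bi = 𝟙 _ := by
      rw [← Spec.map_comp, ← Spec.map_id]
      exact congrArg Spec.map (CommRingCat.hom_ext (RingHom.ext fun x => χ.commutes x))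
    let t' : Q ⟶ W := t
    haveI : QuasiCompact t' := ‹QuasiCompact t›
    haveI : QuasiSeparated t' := ‹QuasiSeparated t›
    have sq' : IsPullback q t' a bi := sq
    let sec : X ⟶ Q := sq'.lift (𝟙 X) (a ≫ sχ) (by rw [Category.id_comp, Category.assoc, hχb, Category.comp_id])
    have hsec : sec ≫ q = 𝟙 X := sq'.lift_fst _ _ _
    have hsect : sec ≫ t' = a ≫ sχ := sq'.lift_snd _ _ _
    obtain ⟨ξ₀, hξ₀⟩ := (LocAcyc24.bijective_Hpull_of_isIso (𝟙 X) F n).2
      (EtCore.HpullVia sec q (𝟙 X) hsec F n x)
    let δ := x - EtCore.Hpull q F n ξ₀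
    have hδ : EtCore.Hpull sec ((EtCoh.pull q).obj F) n δ = 0 := by
      have h0 : EtCore.HpullVia sec q (𝟙 X) hsec F n δ = 0 := by
        rw [map_sub, HpullVia_Hpull, hξ₀, sub_self]
      exact FieldH25.eq_zero_of_comp_iso _ (((EtCore.pullComp sec q).symm ≪≫ EtCore.pullCongr hsec).app F) h0
    -- the strict localisation at the rational point
    let b : W := sχ (IsLocalRing.closedPoint k)
    let R := Hens.Hsh (W.presheaf.stalk b)
    haveI : IsSepClosed (ResidueField R) :=
      (Hensel.IsStrictHenselization.isSepClosure (R := W.presheaf.stalk b) (S := R)).sep_closed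
    let σ : Spec (CommRingCat.of R) ⟶ W := Hens2.specOf W b R
    let κ := Spec.map (CommRingCat.ofHom (residue R))
    let φ : CommRingCat.of B ⟶ CommRingCat.of (ResidueField R) := Spec.preimage (κ ≫ σ)
    have hφ : Spec.map φ = κ ≫ σ := Spec.map_preimage _
    have hker : ∀ y : B, χ y = 0 → φ.hom y = 0 := fun y hy => by
      by_contra hne
      have h1 : ((κ ≫ σ) (IsLocalRing.closedPoint (ResidueField R))) = b := by
        rw [Scheme.Hom.comp_apply]
        refine (congrArg σ.base ?_).trans LocAcyc24.specOf_closedPoint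
        exact IsLocalRing.comap_closedPoint (IsLocalRing.residue _)
      rw [← hφ] at h1
      have h2 : y ∉ (Spec.map φ (IsLocalRing.closedPoint (ResidueField R))).asIdeal := fun hm => by
        have h3 : φ.hom y ∈ maximalIdeal (ResidueField R) := hm
        rw [IsLocalRing.maximalIdeal_eq_bot] at h3
        exact hne h3
      rw [h1] at h2
      exact h2 (show χ y ∈ maximalIdeal k by rw [hy]; exact Ideal.zero_mem _)
    let e : Spec (CommRingCat.of (ResidueField R)) ⟶ Spec (CommRingCat.of k) :=
      Spec.map (CommRingCat.ofHom (φ.hom.comp (algebraMap k B)))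
    have he : e ≫ sχ = κ ≫ σ := by
      rw [← hφ, ← Spec.map_comp]
      refine congrArg Spec.map (CommRingCat.hom_ext (RingHom.ext fun y => ?_))
      show φ.hom (algebraMap k B (χ y)) = φ.hom y
      rw [← sub_eq_zero, ← map_sub]
      exact hker _ (by rw [map_sub, AlgHom.commutes]; exact sub_self _)
    let f₀ := pullback.snd a (σ ≫ bi)
    let P₀ := pullback f₀ κ
    let c : pullback a (σ ≫ bi) ⟶ Q := sq'.lift (pullback.fst a (σ ≫ bi)) (f₀ ≫ σ)
      (pullback.condition.trans (Category.assoc _ _ _).symm)
    let c₀ : P₀ ⟶ Q := closedIncl f₀ ≫ c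
    have hc0 : (c₀ ≫ q) ≫ sec = c₀ := by
      refine sq'.hom_ext ?_ ?_
      · rw [Category.assoc, hsec, Category.comp_id]
      · have h4 : c₀ ≫ t' = (pullback.snd f₀ κ ≫ e) ≫ sχ := by
          rw [Category.assoc, sq'.lift_snd, ← Category.assoc (closedIncl f₀), Category.assoc _ e, he]
          exact ((congrArg (· ≫ σ) pullback.condition).trans (Category.assoc _ _ _))
        have h5 : (c₀ ≫ q) ≫ a = pullback.snd f₀ κ ≫ e := by
          rw [Category.assoc, sq'.w, ← Category.assoc, h4, Category.assoc, hχb, Category.comp_id]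
        rw [Category.assoc, hsect, ← Category.assoc, h5, h4]
    have hFQ : EtAcyc.IsLTorsion Set.univ ((EtCoh.pull c).obj ((EtCoh.pull q).obj F)) :=
      isLTorsion_pull c _ (isLTorsion_pull q _ (isLTorsion_univ hF))
    have hδc : EtCore.Hpull c ((EtCoh.pull q).obj F) n δ = 0 := by
      refine ((hP R (σ ≫ bi) Set.univ n _ hFQ).1 n le_rfl).1 ?_
      rw [map_zero]
      exact FieldH25.Hpull_Hpull_eq_zero_iff (c₀ ≫ q) sec (closedIncl f₀) c hc0 _ n δ hδ
    -- descend to an étale neighbourhood
    obtain ⟨T⟩ := StrictLim24.nonempty_strictSys W b R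
    let ψ : pullback t' σ ⟶ pullback a (σ ≫ bi) := pullback.lift (pullback.fst t' σ ≫ q) (pullback.snd t' σ)
      (by rw [Category.assoc, sq'.w, ← Category.assoc, pullback.condition, Category.assoc])
    have hψ : ψ ≫ c = pullback.fst t' σ := by
      refine sq'.hom_ext ?_ ?_
      · rw [Category.assoc, sq'.lift_fst, pullback.lift_fst]
      · rw [Category.assoc, sq'.lift_snd, ← Category.assoc, pullback.lift_snd, ← pullback.condition]
    have hδσ : EtCore.Hpull (pullback.fst t' σ) ((EtCoh.pull q).obj F) n δ = 0 := by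
      rw [← HpullVia_Hpull ψ c _ hψ, hδc, map_zero]
    obtain ⟨j, hj⟩ := exists_stage_Hpull_eq_zero t' (AffSys.ofStrict T) ((EtCoh.pull q).obj F) n δ hδσ
    let U := T.W.obj j
    haveI : AlgebraicGeometry.Etale U.hom := U.prop
    let bK : Spec (CommRingCat.of K) ⟶ W := Spec.map (CommRingCat.ofHom B.val.toRingHom)
    let η₀ : W := bK (IsLocalRing.closedPoint K)
    let u₀ : U.left := T.π.app j (IsLocalRing.closedPoint R)
    have hu₀ : U.hom u₀ = b := by
      rw [← LocAcyc24.specOf_closedPoint (X := W) (x := b) (R := R), ← T.hπ j.unop]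
      rfl
    have hgen : η₀ ⤳ U.hom u₀ := by
      rw [hu₀]
      refine (PrimeSpectrum.le_iff_specializes η₀ b).1 fun y hy => ?_
      have h3 : B.val y ∈ maximalIdeal K := hy
      rw [IsLocalRing.maximalIdeal_eq_bot, Ideal.mem_bot] at h3
      rw [show y = 0 from Subtype.ext h3]
      exact Ideal.zero_mem _
    obtain ⟨u₁, -, hu₁⟩ := (Flat.generalizingMap U.hom) hgen
    obtain ⟨φU, -⟩ := Scheme.pointSmallEtaleFiberObjToPreimage_surjective bK
      (s₀ := η₀) (congrArg bK.base (Subsingleton.elim _ _)) U ⟨u₁, hu₁⟩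
    let l : Spec (CommRingCat.of K) ⟶ U.left := φU.left
    have hl : l ≫ U.hom = bK := Over.w φU
    let P := pullback a (Spec.map (CommRingCat.ofHom (algebraMap k K)))
    let m : P ⟶ pullback t' U.hom := pullback.lift r (pullback.snd _ _ ≫ l)
      (by rw [Category.assoc, hl]; exact hrt)
    have hm : m ≫ pullback.fst t' U.hom = r := pullback.lift_fst _ _ _
    have hrδ : EtCore.Hpull r ((EtCoh.pull q).obj F) n δ = 0 := by
      rw [← HpullVia_Hpull m _ r hm]
      refine (congrArg _ hj).trans (map_zero _)
    refine ⟨ξ₀, ?_⟩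
    rw [← hx, ← HpullVia_Hpull r q _ hr F n ξ₀, ← sub_eq_zero, ← map_sub]
    have hneg : EtCore.Hpull r ((EtCoh.pull q).obj F) n (EtCore.Hpull q F n ξ₀ - x) = 0 := by
      rw [← neg_sub, map_neg, hrδ, neg_zero]
    show _root_.id (((EtCoh.HF P n).map _).hom (EtCore.Hpull r ((EtCoh.pull q).obj F) n _)) = 0
    rw [hneg]
    exact map_zero _

end Groth.Agent.PBC24
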