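import Groth.Agent.Lib.PBC24.Final
import Groth.Agent.Lib.PBC24.ProjLine

/-!
# Base change for proper morphisms
-/

set_option autoImplicit false
universe u

namespace Groth.Agent.PBC24

/-- Proper base change for torsion sheaves. -/
theorem properBC : ProperBC.{u} := properBC_of_projLine fun A _ _ _ => clCompN_projLine A

end Groth.Agent.PBC24
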