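import Groth.Agent.Lib.PBC24.ModBC0
import Groth.Agent.Lib.BcMapQ6.CxGeneral
import Groth.Agent.Lib.PBC24.CdFib

/-!
# The derived base change morphism for complexes of sheaves of modules
-/

set_option autoImplicit false
set_option linter.style.haveILetI false
set_option linter.unusedSectionVars false
set_option backward.isDefEq.respectTransparency false
set_option backward.isDefEq.respectTransparency.types false

universe u

open CategoryTheory CategoryTheory.Limits AlgebraicGeometry Opposite HomologicalComplex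

namespace Groth.Agent.PBC24

attribute [local instance] HasDerivedCategory.standard

open Groth.Agent.EtStalk Groth.Agent.BcMapQ6

variable (Λ : Type (u + 1)) [CommRing Λ]

local notation "cx" F => Functor.mapHomologicalComplex F (ComplexShape.up ℤ)

section Push

variable {A B : Scheme.{u}} (f : A ⟶ B) [EtBC.HasRpushMod Λ f]

/-- The unit of the derived direct image. -/
noncomputable abbrev dUnitM : EtBC.pushModKh Λ f ⟶ DerivedCategory.Qh ⋙ EtBC.RpushModD Λ f :=
  (EtBC.pushModKh Λ f).totalRightDerivedUnit DerivedCategory.Qh (HomotopyCategory.quasiIso (EtModW.Mod Λ A) (ComplexShape.up ℤ))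

/-- The identification of the two localizations. -/
noncomputable abbrev qIM {X : Scheme.{u}} (K : CochainComplex (EtModW.Mod Λ X) ℤ) :
    DerivedCategory.Qh.obj ((HomotopyCategory.quotient (EtModW.Mod Λ X) (ComplexShape.up ℤ)).obj K) ≅ DerivedCategory.Q.obj K :=
  (DerivedCategory.quotientCompQhIso (EtModW.Mod Λ X)).app K

lemma dUnitM_eq (C : CochainComplex (EtModW.Mod Λ A) ℤ) :
    (dUnitM Λ f).app ((HomotopyCategory.quotient (EtModW.Mod Λ A) (ComplexShape.up ℤ)).obj C) =
      (qIM Λ ((cx (EtModW.push Λ f)).obj C)).hom ≫ (SitePAdj.αQ (dUnitM Λ f)).app C ≫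
        (EtBC.RpushModD Λ f).map (qIM Λ C).inv := by
  simp [SitePAdj.αQ, ← Functor.map_comp]
  erw [CategoryTheory.Functor.map_id, Category.id_comp]

end Push

variable {X S X' S' : Scheme.{u}} (p : X ⟶ S) (g : S' ⟶ S) (p' : X' ⟶ S') (g' : X' ⟶ X) (w : g' ≫ p = p' ≫ g)

/-- The base change map as a natural transformation. -/
noncomputable def bc0NM : EtModW.push Λ p ⋙ EtModW.pull Λ g ⟶ EtModW.pull Λ g' ⋙ EtModW.push Λ p' where
  app F := EtSix.baseChange0Mod Λ p g p' g' w F
  naturality F G a := by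
    simp only [Functor.comp_map, EtSix.baseChange0Mod]
    exact ((EtSix.pullPushModAdj Λ g).homEquiv_naturality_left_symm _ _).symm.trans
      (Eq.trans (congrArg _ ((EtSix.pushToPushPullMod Λ p g p' g' w).naturality a))
        ((EtSix.pullPushModAdj Λ g).homEquiv_naturality_right_symm _ _))

/-- The base change morphism on complexes. -/
noncomputable def ΨM (I : CochainComplex (EtModW.Mod Λ X) ℤ) :
    (cx (EtModW.pull Λ g)).obj ((cx (EtModW.push Λ p)).obj I) ⟶
      (cx (EtModW.push Λ p')).obj ((cx (EtModW.pull Λ g')).obj I) :=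
  (NatTrans.mapHomologicalComplex (bc0NM Λ p g p' g' w) (ComplexShape.up ℤ)).app I

variable [PreservesFiniteLimits (EtModW.pull Λ g)] [PreservesFiniteLimits (EtModW.pull Λ g')]
  [EtBC.HasRpushMod Λ p] [EtBC.HasRpushMod Λ p'] [EtBC.HasRpushMod Λ g]
  (adj : EtBC.pullModD Λ g ⊣ EtBC.RpushModD Λ g)

theorem pushToPushPullMod_cx (I : CochainComplex (EtModW.Mod Λ X) ℤ) :
    (NatTrans.mapHomologicalComplex (EtSix.pushToPushPullMod Λ p g p' g' w) (ComplexShape.up ℤ)).app I =
      (KInjLib.adjComplexes (EtSix.pullPushModAdj Λ g) (ComplexShape.up ℤ)).homEquiv _ _ (ΨM Λ p g p' g' w I) := by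
  refine HomologicalComplex.hom_ext _ _ fun n => ?_
  rw [Adjunction.homEquiv_unit, HomologicalComplex.comp_f]
  show (EtSix.pushToPushPullMod Λ p g p' g' w).app (I.X n) =
    (EtSix.pullPushModAdj Λ g).unit.app ((EtModW.push Λ p).obj (I.X n)) ≫
      (EtModW.push Λ g).map (EtSix.baseChange0Mod Λ p g p' g' w (I.X n))
  refine Eq.trans ?_ ((EtSix.pullPushModAdj Λ g).homEquiv_unit _ _ _)
  rw [EtSix.baseChange0Mod]
  exact (Equiv.apply_symm_apply _ _).symm

/-- The tail of the base change morphism at a complex. -/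
noncomputable def tailM (I : CochainComplex (EtModW.Mod Λ X) ℤ) :
    DerivedCategory.Q.obj ((cx (EtModW.push Λ p')).obj ((cx (EtModW.pull Λ g')).obj I)) ⟶
      (EtBC.RpushModD Λ p').obj ((EtBC.pullModD Λ g').obj (DerivedCategory.Qh.obj
        ((HomotopyCategory.quotient (EtModW.Mod Λ X) (ComplexShape.up ℤ)).obj I))) :=
  (qIM Λ _).inv ≫
    (dUnitM Λ p').app (((EtModW.pull Λ g').mapHomotopyCategory (ComplexShape.up ℤ)).obj
        ((HomotopyCategory.quotient (EtModW.Mod Λ X) (ComplexShape.up ℤ)).obj I)) ≫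
    (EtBC.RpushModD Λ p').map ((EtModW.pull Λ g').mapDerivedCategoryFactorsh.inv.app _)

theorem bcUnitMod_cx (I : CochainComplex (EtModW.Mod Λ X) ℤ) :
    (EtBC.bcUnitMod Λ p g p' g' w).app ((HomotopyCategory.quotient (EtModW.Mod Λ X) (ComplexShape.up ℤ)).obj I) =
      (qIM Λ ((cx (EtModW.push Λ p)).obj I)).hom ≫
        uCx (EtSix.pullPushModAdj Λ g) (dUnitM Λ g) ((cx (EtModW.push Λ p)).obj I) ≫
        (EtBC.RpushModD Λ g).map (DerivedCategory.Q.map (ΨM Λ p g p' g' w I) ≫ tailM Λ p' g' I) := by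
  let C₁ := ((EtModW.pull Λ g').mapHomologicalComplex (ComplexShape.up ℤ)).obj I
  have e1 : (EtBC.bcUnitMod Λ p g p' g' w).app ((HomotopyCategory.quotient (EtModW.Mod Λ X) (ComplexShape.up ℤ)).obj I) =
      DerivedCategory.Qh.map ((HomotopyCategory.quotient (EtModW.Mod Λ S) (ComplexShape.up ℤ)).map
        ((NatTrans.mapHomologicalComplex (EtSix.pushToPushPullMod Λ p g p' g' w) (ComplexShape.up ℤ)).app I)) ≫
        (dUnitM Λ g).app ((HomotopyCategory.quotient (EtModW.Mod Λ S') (ComplexShape.up ℤ)).obj ((cx (EtModW.push Λ p')).obj C₁)) ≫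
        (EtBC.RpushModD Λ g).map ((dUnitM Λ p').app ((HomotopyCategory.quotient (EtModW.Mod Λ X') (ComplexShape.up ℤ)).obj C₁) ≫
          (EtBC.RpushModD Λ p').map ((EtModW.pull Λ g').mapDerivedCategoryFactorsh.inv.app _)) := by
    simp [EtBC.bcUnitMod]
    erw [EtAcyc24.compIso_refl_inv]
    simp only [CategoryTheory.Functor.map_id]
    erw [Category.id_comp, CategoryTheory.Functor.map_id, Category.id_comp]
    rfl
  rw [e1, dUnitM_eq Λ g, Functor.map_comp (EtBC.RpushModD Λ g) (DerivedCategory.Q.map _)]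
  erw [reassoc_of% (uCx_map (EtSix.pullPushModAdj Λ g) (dUnitM Λ g) ((cx (EtModW.push Λ p)).obj I) (ΨM Λ p g p' g' w I))]
  have e2 := DerivedCategory.quotientCompQhIso_hom_naturality
    ((NatTrans.mapHomologicalComplex (EtSix.pushToPushPullMod Λ p g p' g' w) (ComplexShape.up ℤ)).app I)
  simp only [Category.assoc]
  erw [reassoc_of% e2, pushToPushPullMod_cx]
  simp only [tailM, Functor.map_comp]
  rfl

variable (I : CochainComplex (EtModW.Mod Λ X) ℤ) [I.IsKInjective] {J : CochainComplex (EtModW.Mod Λ X') ℤ}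
  [J.IsKInjective] (χ : (cx (EtModW.pull Λ g')).obj I ⟶ J) [_root_.QuasiIso χ] {O : EtModD.D Λ X}
  (ε : DerivedCategory.Q.obj I ≅ O)

/-- The map of complexes computing the base change morphism at a complex. -/
noncomputable def ΦM : (cx (EtModW.pull Λ g)).obj ((cx (EtModW.push Λ p)).obj I) ⟶ (cx (EtModW.push Λ p')).obj J :=
  ΨM Λ p g p' g' w I ≫ (cx (EtModW.push Λ p')).map χ

include ε in
/-- The derived base change morphism of modules is the image of a map of complexes. -/
theorem isIso_bcMapModD_iff_cx :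
    IsIso (EtBC.bcMapModD Λ p g p' g' w adj O) ↔ _root_.QuasiIso (ΦM Λ p g p' g' w I χ) := by
  let K := (HomotopyCategory.quotient (EtModW.Mod Λ X) (ComplexShape.up ℤ)).obj I
  let e : DerivedCategory.Qh.obj K ≅ O := qIM Λ I ≪≫ ε
  have hn : (EtBC.pullModD Λ g).map ((EtBC.RpushModD Λ p).map e.hom) ≫ EtBC.bcMapModD Λ p g p' g' w adj O =
      EtBC.bcMapModD Λ p g p' g' w adj (DerivedCategory.Qh.obj K) ≫
        (EtBC.RpushModD Λ p').map ((EtBC.pullModD Λ g').map e.hom) := by
    simp only [EtBC.bcMapModD]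
    rw [← Adjunction.homEquiv_naturality_left_symm, ← Adjunction.homEquiv_naturality_right_symm]
    exact congrArg _ ((EtBC.bcAdjModD Λ p g p' g' w).naturality e.hom)
  have hk : ∀ Z : Scheme.{u}, KInjLib.EnoughKInj (EtModW.Mod Λ Z) := fun Z C => by
    obtain ⟨I, f, hI, hf, -, -⟩ := KInjLib.exists_resolution C
    exact ⟨I, f, hI, hf⟩
  let v : DerivedCategory.Qh.obj (((EtModW.push Λ p).mapHomotopyCategory (ComplexShape.up ℤ)).obj K) ⟶
      (EtBC.RpushModD Λ p).obj (DerivedCategory.Qh.obj K) := (dUnitM Λ p).app K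
  haveI : IsIso v := KInjLib.isIso_app_of_isKInjective (hk X) (dUnitM Λ p) I
  have hfac : v ≫ (EtBC.bcAdjModD Λ p g p' g' w).app (DerivedCategory.Qh.obj K) = (EtBC.bcUnitMod Λ p g p' g' w).app K :=
    Functor.rightDerived_fac_app _ _ _ _ _ _
  let t := tCx (EtSix.pullPushModAdj Λ g) (dUnitM Λ g) adj ((cx (EtModW.push Λ p)).obj I)
  haveI : IsIso t := isIso_tCx (EtSix.pullPushModAdj Λ g) (dUnitM Λ g) (hk S') adj _
  have key : (EtBC.pullModD Λ g).map v ≫ EtBC.bcMapModD Λ p g p' g' w adj (DerivedCategory.Qh.obj K) =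
      (EtBC.pullModD Λ g).map (qIM Λ ((cx (EtModW.push Λ p)).obj I)).hom ≫ t ≫ DerivedCategory.Q.map (ΨM Λ p g p' g' w I) ≫
        tailM Λ p' g' I := by
    simp only [EtBC.bcMapModD, t, tCx]
    rw [← Adjunction.homEquiv_naturality_left_symm, hfac, ← Adjunction.homEquiv_naturality_right_symm,
      ← Adjunction.homEquiv_naturality_left_symm]
    exact congrArg _ (bcUnitMod_cx Λ p g p' g' w I)
  let C₁ := ((EtModW.pull Λ g').mapHomologicalComplex (ComplexShape.up ℤ)).obj I
  haveI : IsIso (DerivedCategory.Q.map χ) := (DerivedCategory.isIso_Q_map_iff_quasiIso _ _).2 inferInstance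
  haveI : IsIso ((SitePAdj.αQ (dUnitM Λ p')).app J) := SitePAdj.isIso_αQ (dUnitM Λ p') (hk X') J
  let qχ : DerivedCategory.Q.obj C₁ ≅ DerivedCategory.Q.obj J := asIso (DerivedCategory.Q.map χ)
  have htail : tailM Λ p' g' I = DerivedCategory.Q.map ((cx (EtModW.push Λ p')).map χ) ≫
      (SitePAdj.αQ (dUnitM Λ p')).app J ≫ (EtBC.RpushModD Λ p').map (qχ.inv ≫ (qIM Λ C₁).inv ≫
        (EtModW.pull Λ g').mapDerivedCategoryFactorsh.inv.app K) := by
    have hnat := (SitePAdj.αQ (dUnitM Λ p')).naturality χ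
    erw [reassoc_of% hnat]
    rw [tailM]
    erw [dUnitM_eq Λ p' C₁]
    simp only [Category.assoc, Functor.map_comp]
    erw [← Functor.map_comp_assoc (EtBC.RpushModD Λ p') (DerivedCategory.Q.map χ) qχ.inv]
    rw [show DerivedCategory.Q.map χ ≫ qχ.inv = 𝟙 _ from qχ.hom_inv_id, CategoryTheory.Functor.map_id,
      Category.id_comp]
    erw [Iso.inv_hom_id_assoc]
  let eT : DerivedCategory.Q.obj ((cx (EtModW.push Λ p')).obj J) ≅ (EtBC.RpushModD Λ p').obj ((EtBC.pullModD Λ g').obj O) :=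
    asIso ((SitePAdj.αQ (dUnitM Λ p')).app J) ≪≫ (EtBC.RpushModD Λ p').mapIso (qχ.symm ≪≫ (qIM Λ C₁).symm ≪≫
      ((EtModW.pull Λ g').mapDerivedCategoryFactorsh.app K).symm ≪≫ (EtBC.pullModD Λ g').mapIso e)
  let eS : DerivedCategory.Q.obj ((cx (EtModW.pull Λ g)).obj ((cx (EtModW.push Λ p)).obj I)) ≅
      (EtBC.pullModD Λ g).obj ((EtBC.RpushModD Λ p).obj O) :=
    (asIso t).symm ≪≫ (EtBC.pullModD Λ g).mapIso
      ((qIM Λ ((cx (EtModW.push Λ p)).obj I)).symm ≪≫ asIso v ≪≫ (EtBC.RpushModD Λ p).mapIso e)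
  refine ((MorphismProperty.isomorphisms _).arrow_mk_iso_iff (Arrow.isoMk eS eT ?_).symm).trans
    (DerivedCategory.isIso_Q_map_iff_quasiIso _ (ΦM Λ p g p' g' w I χ))
  show eS.hom ≫ EtBC.bcMapModD Λ p g p' g' w adj O = DerivedCategory.Q.map (ΦM Λ p g p' g' w I χ) ≫ eT.hom
  simp only [eS, eT, Iso.trans_hom, Iso.symm_hom, Functor.mapIso_hom, asIso_inv, asIso_hom, Functor.map_comp,
    Category.assoc, IsIso.inv_comp_eq]
  rw [hn, reassoc_of% key, htail, ΦM]
  simp only [Functor.map_comp, Category.assoc]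
  rw [← Functor.map_comp_assoc (EtBC.pullModD Λ g) (qIM Λ ((cx (EtModW.push Λ p)).obj I)).inv
    (qIM Λ ((cx (EtModW.push Λ p)).obj I)).hom, Iso.inv_hom_id, CategoryTheory.Functor.map_id, Category.id_comp]
  rfl

omit [I.IsKInjective] [J.IsKInjective] [_root_.QuasiIso χ] in
/-- Proper base change for the derived direct image of modules killed by a positive integer. -/
theorem isIso_bcMapModD_of_properBC (hBC : ProperBC.{u}) (h : IsPullback g' p' p g) [IsProper p] {a : ℕ} (ha : 0 < a)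
    (hΛ : (a : Λ) = 0) (K : EtModD.D Λ X) : IsIso (EtBC.bcMapModD Λ p g p' g' h.w adj K) := by
  haveI : IsProper p' := MorphismProperty.of_isPullback h ‹IsProper p›
  obtain ⟨I, φ, hI, hφ, -, hIinj⟩ := KInjLib.exists_resolution (DerivedCategory.Q.objPreimage K)
  haveI := hI; haveI := hφ
  haveI : IsIso (DerivedCategory.Q.map φ) := (DerivedCategory.isIso_Q_map_iff_quasiIso _ φ).2 inferInstance
  obtain ⟨J, χ, hJ, hχ, -, hJinj⟩ := KInjLib.exists_resolution ((cx (EtModW.pull Λ g')).obj I)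
  haveI := hJ; haveI := hχ
  rw [isIso_bcMapModD_iff_cx Λ p g p' g' h.w adj I χ
    ((asIso (DerivedCategory.Q.map φ)).symm ≪≫ DerivedCategory.Q.objObjPreimageIso K)]
  haveI : IsIso (ΨM Λ p g p' g' h.w I) := by
    haveI : ∀ n, IsIso ((ΨM Λ p g p' g' h.w I).f n) := fun n => isIso_baseChange0Mod Λ p g p' g' h (I.X n)
    exact HomologicalComplex.Hom.isIso_of_components _
  haveI : _root_.QuasiIso ((cx (EtModW.push Λ p')).map χ) := by
    refine quasiIso_pushMod p' hBC ha hΛ χ (fun m Ω _ _ ξ q hq => ?_) (fun m => ?_)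
    · let G := (EtModD.forgetToAb Λ X).obj (I.X m)
      haveI := hIinj m
      have hG : EtCoh.IsTorsion G := isTorsion_of_nsmul ha (nsmul_forget hΛ (I.X m))
      haveI := hBC p inferInstance p' g g' h G hG q
      obtain ⟨eS⟩ := nonempty_stalk_Rpush hBC p' ξ ((EtCoh.pull g').obj G) (FieldBr3.isTorsion_pull' g' hG) q
      have hz : IsZero ((EtCoh.stalk ξ).obj ((EtCoh.Rpush p' q).obj ((EtCoh.pull g').obj G))) :=
        IsZero.of_iso (Functor.map_isZero _ (Functor.map_isZero _
          (EtAcyc24.isZero_Rpush_of_acyc p (acyc_forget Λ (I.X m)) q hq)))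
          ((EtCoh.stalk ξ).mapIso (asIso (EtBC.bcQ p g p' g' h.w q G))).symm
      haveI : Subsingleton (EtCoh.H (pullback p' ξ) ((EtCoh.pull (pullback.fst p' ξ)).obj
          ((EtModD.forgetToAb Λ X ⋙ EtCoh.pull g').obj (I.X m))) q) :=
        AddCommGrpCat.subsingleton_of_isZero (IsZero.of_iso hz eS.symm)
      exact (EtAcyc24.bijective_comp_iso
        ((EtCoh.pull (pullback.fst p' ξ)).mapIso ((pullForget Λ g').app (I.X m)).symm) q).1.subsingleton
    · haveI := hJinj m
      exact fibAcyc_of_acyc p' hBC (acyc_forget Λ (J.X m)) (isTorsion_of_nsmul ha (nsmul_forget hΛ (J.X m)))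
  rw [ΦM]
  infer_instance

end Groth.Agent.PBC24
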