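import Groth.Agent.Lib.DerTrunc.Basic
import Mathlib.Algebra.Homology.DerivedCategory.HomologySequence
import Mathlib.CategoryTheory.Abelian.DiagramLemmas.Four

/-!
# Dévissage for natural transformations between homological functors on bounded below objects

No compatibility with shifts is asked of the transformation.
-/

set_option autoImplicit false
set_option linter.style.haveILetI false
set_option linter.unusedSectionVars false
set_option backward.isDefEq.respectTransparency false
set_option backward.isDefEq.respectTransparency.types false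

universe w w' v v' u u'

open CategoryTheory CategoryTheory.Limits CategoryTheory.Pretriangulated CategoryTheory.Triangulated
open DerivedCategory.TStructure

namespace Groth.Agent.PBC24

variable {A : Type u} [Category.{v} A] [Abelian A] [HasDerivedCategory.{w} A]
  {B : Type u'} [Category.{v'} B] [Abelian B] [HasDerivedCategory.{w'} B]
  {G H : DerivedCategory A ⥤ DerivedCategory B} [G.CommShift ℤ] [H.CommShift ℤ]
  [G.IsTriangulated] [H.IsTriangulated] (τ : G ⟶ H)

/-- A natural transformation of triangulated functors invertible on four vertices around the middle one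
of a distinguished triangle is invertible there. -/
theorem isIso_app₂ (T : Triangle (DerivedCategory A)) (hT : T ∈ distTriang _)
    (h₀ : IsIso (τ.app T.invRotate.obj₁)) (h₁ : IsIso (τ.app T.obj₁)) (h₃ : IsIso (τ.app T.obj₃))
    (h₄ : IsIso (τ.app T.rotate.obj₃)) : IsIso (τ.app T.obj₂) := by
  rw [DerivedCategory.isIso_iff]
  intro q
  let HB := DerivedCategory.homologyFunctor B q
  let R : (K : DerivedCategory A ⥤ B) → ComposableArrows B 4 := fun K =>
    ComposableArrows.mk₄ (K.map T.invRotate.mor₁) (K.map T.mor₁) (K.map T.mor₂) (K.map T.rotate.mor₂)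
  have hR : ∀ (K : DerivedCategory A ⥤ B) [K.IsHomological], (R K).Exact := fun K _ =>
    ComposableArrows.exact_of_δ₀
      (K.map_distinguished_exact _ (inv_rot_of_distTriang _ hT)).exact_toComposableArrows
      (ComposableArrows.exact_of_δ₀
        (K.map_distinguished_exact _ hT).exact_toComposableArrows
        (K.map_distinguished_exact _ (rot_of_distTriang _ hT)).exact_toComposableArrows)
  let σ : G ⋙ HB ⟶ H ⋙ HB := Functor.whiskerRight τ HB
  let φ : R (G ⋙ HB) ⟶ R (H ⋙ HB) :=
    ComposableArrows.homMk₄ (σ.app T.invRotate.obj₁) (σ.app T.obj₁) (σ.app T.obj₂) (σ.app T.obj₃)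
      (σ.app T.rotate.obj₃) (σ.naturality _) (σ.naturality _) (σ.naturality _) (σ.naturality _)
  haveI : IsIso (σ.app T.invRotate.obj₁) := inferInstanceAs (IsIso (HB.map _))
  haveI : IsIso (σ.app T.obj₁) := inferInstanceAs (IsIso (HB.map _))
  haveI : IsIso (σ.app T.obj₃) := inferInstanceAs (IsIso (HB.map _))
  haveI : IsIso (σ.app T.rotate.obj₃) := inferInstanceAs (IsIso (HB.map _))
  exact Abelian.isIso_of_epi_of_isIso_of_isIso_of_mono (hR (G ⋙ HB)) (hR (H ⋙ HB)) φ
    (inferInstanceAs (Epi (σ.app T.invRotate.obj₁))) (inferInstanceAs (IsIso (σ.app T.obj₁)))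
    (inferInstanceAs (IsIso (σ.app T.obj₃))) (inferInstanceAs (Mono (σ.app T.rotate.obj₃)))

theorem isIso_app_of_isZero (X : DerivedCategory A) (hX : IsZero X) : IsIso (τ.app X) :=
  isIso_of_source_target_iso_zero (τ.app X) (G.map_isZero hX).isoZero (H.map_isZero hX).isoZero

variable (P : ObjectProperty A) [P.IsClosedUnderIsomorphisms]
  (hτ : ∀ (n : ℤ) (M : A), P M → IsIso (τ.app ((DerivedCategory.singleFunctor A n).obj M)))

local notation "HH" => DerivedCategory.homologyFunctor A

/-- All cohomology objects have the property. -/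
def HomIn (X : DerivedCategory A) : Prop := ∀ q : ℤ, P ((HH q).obj X) ∨ IsZero ((HH q).obj X)

theorem HomIn.shift {X : DerivedCategory A} (h : HomIn P X) (r : ℤ) : HomIn P (X⟦r⟧) := fun q => by
  let e : (HH q).obj (X⟦r⟧) ≅ (HH (r + q)).obj X :=
    ((DerivedCategory.homologyFunctor A 0).shiftIso r q (r + q) rfl).app X
  rcases h (r + q) with hP | hz
  · exact Or.inl (P.prop_of_iso e.symm hP)
  · exact Or.inr (hz.of_iso e)

include hτ

theorem isIso_app_concentrated (X : DerivedCategory A) (n : ℤ) (_ : X.IsGE n) (_ : X.IsLE n)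
    (hX : HomIn P X) : IsIso (τ.app X) := by
  obtain ⟨M, ⟨e⟩⟩ := DerivedCategory.exists_iso_singleFunctor_obj_of_isGE_of_isLE X n
  let e' : (HH n).obj X ≅ M :=
    (HH n).mapIso e ≪≫ (DerivedCategory.singleFunctorCompHomologyFunctorIso A n).app M
  rw [NatTrans.isIso_app_iff_of_iso τ e]
  rcases hX n with hP | hz
  · exact hτ n M (P.prop_of_iso e' hP)
  · exact isIso_app_of_isZero τ _ (Functor.map_isZero _ (hz.of_iso e'.symm))

theorem isIso_app_bounded (k : ℕ) : ∀ (X : DerivedCategory A) (a : ℤ), X.IsGE a → X.IsLE (a + k) →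
    HomIn P X → IsIso (τ.app X) := by
  induction k with
  | zero =>
    intro X a ha hb h
    exact isIso_app_concentrated τ P hτ X a ha (by simpa using hb) h
  | succ k ih =>
    intro X a ha hb h
    obtain ⟨b, hbdef⟩ : ∃ b : ℤ, a + (k + 1 : ℕ) = b := ⟨_, rfl⟩
    rw [hbdef] at hb
    let T := (t.triangleLTGE b).obj X
    have hL : DerivedCategory.IsLE T.obj₁ (a + k) := t.isLE_truncLT_obj X b (a + k) (by lia)
    have hG : DerivedCategory.IsGE T.obj₁ a := (inferInstance : t.IsGE ((t.truncLT b).obj X) a)
    have hG₃ : DerivedCategory.IsGE T.obj₃ b := (inferInstance : t.IsGE ((t.truncGE b).obj X) b)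
    have hL₃ : DerivedCategory.IsLE T.obj₃ b := (inferInstance : t.IsLE ((t.truncGE b).obj X) b)
    have h₁ : HomIn P T.obj₁ := fun q => by
      by_cases hq : q < b
      · have := DerTrunc.isIso_homology_truncLTι X b q hq
        let e := asIso ((HH q).map ((t.truncLTι b).app X))
        rcases h q with hP | hz
        · exact Or.inl (P.prop_of_iso e.symm hP)
        · exact Or.inr (hz.of_iso e)
      · exact Or.inr (DerivedCategory.isZero_of_isLE T.obj₁ (a + k) q (by lia))
    have h₃ : HomIn P T.obj₃ := fun q => by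
      by_cases hq : b ≤ q
      · have := DerTrunc.isIso_homology_truncGEπ X b q hq
        let e := asIso ((HH q).map ((t.truncGEπ b).app X))
        rcases h q with hP | hz
        · exact Or.inl (P.prop_of_iso e hP)
        · exact Or.inr (hz.of_iso e.symm)
      · exact Or.inr (DerivedCategory.isZero_of_isGE T.obj₃ b q (by lia))
    refine isIso_app₂ τ T (t.triangleLTGE_distinguished b X) ?_ (ih _ a hG hL h₁)
      (isIso_app_concentrated τ P hτ _ b hG₃ hL₃ h₃) ?_
    · exact isIso_app_concentrated τ P hτ (T.obj₃⟦(-1 : ℤ)⟧) (b + 1)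
        (t.isGE_shift T.obj₃ b (-1) (b + 1) (by lia)) (t.isLE_shift T.obj₃ b (-1) (b + 1) (by lia))
        (HomIn.shift P h₃ _)
    · exact ih (T.obj₁⟦(1 : ℤ)⟧) (a - 1) (t.isGE_shift T.obj₁ a 1 (a - 1) (by lia))
        (t.isLE_shift T.obj₁ (a + k) 1 (a - 1 + k) (by lia)) (HomIn.shift P h₁ _)

/-- A natural transformation of left exact triangulated functors invertible on the shifts of the objects
with a property is invertible on bounded below objects whose cohomology has the property. -/
theorem isIso_app_of_isGE
    (hG : ∀ (X : DerivedCategory A) (m : ℤ), X.IsGE m → (G.obj X).IsGE m)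
    (hH : ∀ (X : DerivedCategory A) (m : ℤ), X.IsGE m → (H.obj X).IsGE m)
    (X : DerivedCategory A) (n₀ : ℤ) (hX : X.IsGE n₀) (h : HomIn P X) : IsIso (τ.app X) := by
  rw [DerivedCategory.isIso_iff]
  intro q
  obtain ⟨m, hm⟩ : ∃ m : ℤ, max n₀ q + 2 = m := ⟨_, rfl⟩
  have hL : DerivedCategory.IsLE ((t.truncLT m).obj X) (m - 1) :=
    (inferInstance : t.IsLE ((t.truncLT m).obj X) (m - 1))
  have hG₁ : DerivedCategory.IsGE ((t.truncLT m).obj X) n₀ :=
    (inferInstance : t.IsGE ((t.truncLT m).obj X) n₀)
  have hG₃ : DerivedCategory.IsGE ((t.truncGE m).obj X) m :=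
    (inferInstance : t.IsGE ((t.truncGE m).obj X) m)
  have hiso : IsIso (τ.app ((t.truncLT m).obj X)) := by
    refine isIso_app_bounded τ P hτ (m - 1 - n₀).toNat _ n₀ hG₁
      (t.isLE_of_le _ (m - 1) _ (by lia)) fun i => ?_
    by_cases hi : i < m
    · have := DerTrunc.isIso_homology_truncLTι X m i hi
      let e := asIso ((HH i).map ((t.truncLTι m).app X))
      rcases h i with hP | hz
      · exact Or.inl (P.prop_of_iso e.symm hP)
      · exact Or.inr (hz.of_iso e)
    · exact Or.inr (DerivedCategory.isZero_of_isLE ((t.truncLT m).obj X) (m - 1) i (by lia))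
  have hz : ∀ (K : DerivedCategory A ⥤ DerivedCategory B) [K.CommShift ℤ] [K.IsTriangulated],
      (∀ (X : DerivedCategory A) (m : ℤ), X.IsGE m → (K.obj X).IsGE m) →
      IsIso ((DerivedCategory.homologyFunctor B q).map (K.map ((t.truncLTι m).app X))) := by
    intro K _ _ hK
    have := hK _ m hG₃
    exact DerTrunc.isIso_map_mor₁ _ (K.map_distinguished _ (t.triangleLTGE_distinguished m X)) q
      (DerivedCategory.isZero_of_isGE (K.obj ((t.truncGE m).obj X)) m _ (by lia))
      (DerivedCategory.isZero_of_isGE (K.obj ((t.truncGE m).obj X)) m _ (by lia))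
  have := hz G hG
  have := hz H hH
  have hnat := congrArg (DerivedCategory.homologyFunctor B q).map (τ.naturality ((t.truncLTι m).app X))
  simp only [Functor.map_comp] at hnat
  have : IsIso ((DerivedCategory.homologyFunctor B q).map (G.map ((t.truncLTι m).app X)) ≫
      (DerivedCategory.homologyFunctor B q).map (τ.app X)) := by
    erw [hnat]; infer_instance
  exact IsIso.of_isIso_comp_left ((DerivedCategory.homologyFunctor B q).map (G.map ((t.truncLTι m).app X))) _

end Groth.Agent.PBC24
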