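import Groth.Agent.Lib.PBC24.Reductions
import Groth.Agent.Lib.PBC24.Devissage
import Groth.Agent.Lib.BcMapQ6.CxGeneral
import Groth.Agent.Lib.BcMapQ6.AdjEt
import Groth.Agent.Lib.SiteCmp16.WayOut

/-!
# The derived base change morphism on bounded below objects
-/

set_option autoImplicit false
set_option linter.style.haveILetI false
set_option linter.unusedSectionVars false
set_option backward.isDefEq.respectTransparency false
set_option backward.isDefEq.respectTransparency.types false

universe u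

open CategoryTheory CategoryTheory.Limits AlgebraicGeometry Opposite HomologicalComplex

namespace Groth.Agent.PBC24

attribute [local instance] HasDerivedCategory.standard

open Groth.Agent.EtStalk Groth.Agent.BcMapQ6

variable {X Y Xb Yb : Scheme.{u}} (h : Y ⟶ X) (p : Xb ⟶ X) (hb : Yb ⟶ Xb) (pY : Yb ⟶ Y) (w : hb ≫ p = pY ≫ h)
  [PreservesFiniteLimits (EtCoh.pull h)] [PreservesFiniteLimits (EtCoh.pull hb)]
  [DCoh.HasRpushEt Xb p] [DCoh.HasRpushEt Yb pY] [DCoh.HasRpushEt Y h] (adj : EtBC.pullD h ⊣ DCoh.RpushEt Y h)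

/-- The derived base change morphism on a sheaf placed in any degree. -/
theorem isIso_bcMap_singleFunctor (F : EtCoh.Ab Xb) (n : ℤ) (hq : ∀ q : ℕ, IsIso (EtBC.bcQ p h pY hb w q F)) :
    IsIso (EtBC.bcMap p h pY hb w adj ((DerivedCategory.singleFunctor (EtCoh.Ab Xb) n).obj F)) := by
  let e := ComplexShape.embeddingUpIntGE n
  let R := injectiveResolution F
  let R' := injectiveResolution ((EtCoh.pull hb).obj F)
  let χ := EtBCQ24.χK hb F
  let I : CochainComplex (EtCoh.Ab Xb) ℤ := R.cocomplex.extend e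
  let J : CochainComplex (EtCoh.Ab Yb) ℤ := R'.cocomplex.extend e
  have hen : e.f 0 = n := by simp [e]
  have hgeI : I.IsStrictlyGE n := by
    refine (CochainComplex.isStrictlyGE_iff _ _).2 fun i hi => ?_
    refine R.cocomplex.isZero_extend_X e i fun k hk => ?_
    simp [e] at hk
    omega
  have hgeJ : J.IsStrictlyGE n := by
    refine (CochainComplex.isStrictlyGE_iff _ _).2 fun i hi => ?_
    refine R'.cocomplex.isZero_extend_X e i fun k hk => ?_
    simp [e] at hk
    omega
  haveI : ∀ i, Injective (I.X i) := fun i => by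
    by_cases hi : ∃ k, e.f k = i
    · obtain ⟨k, hk⟩ := hi
      exact Injective.of_iso (R.cocomplex.extendXIso e hk).symm inferInstance
    · exact (R.cocomplex.isZero_extend_X e i (by simpa using hi)).injective
  haveI : ∀ i, Injective (J.X i) := fun i => by
    by_cases hi : ∃ k, e.f k = i
    · obtain ⟨k, hk⟩ := hi
      exact Injective.of_iso (R'.cocomplex.extendXIso e hk).symm inferInstance
    · exact (R'.cocomplex.isZero_extend_X e i (by simpa using hi)).injective
  haveI : I.IsKInjective := CochainComplex.isKInjective_of_injective _ n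
  haveI : J.IsKInjective := CochainComplex.isKInjective_of_injective _ n
  let ιK : (CochainComplex.single₀ _).obj ((EtCoh.pull hb).obj F) ⟶
      ((EtCoh.pull hb).mapHomologicalComplex (ComplexShape.up ℕ)).obj R.cocomplex := RDer.mapAug (EtCoh.pull hb) R.ι
  haveI : _root_.QuasiIso ιK := by
    show _root_.QuasiIso ((singleMapHomologicalComplex (EtCoh.pull hb) (ComplexShape.up ℕ) 0).inv.app F ≫
      ((EtCoh.pull hb).mapHomologicalComplex (ComplexShape.up ℕ)).map R.ι)
    infer_instance
  have he : ιK ≫ χ = R'.ι := by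
    refine HomologicalComplex.from_single_hom_ext ?_
    rw [comp_f, show ιK.f 0 = (EtCoh.pull hb).map (R.ι.f 0) from EtBCQ24.mapAug_f_zero _ _]
    exact EtBCQ24.ι_χK hb F
  haveI : _root_.QuasiIso (ιK ≫ χ) := he ▸ R'.quasiIso
  haveI : _root_.QuasiIso χ := quasiIso_of_comp_left ιK χ
  haveI : _root_.QuasiIso (extendMap χ e) := (quasiIso_extendMap_iff χ e).2 inferInstance
  let χe : ((EtCoh.pull hb).mapHomologicalComplex (ComplexShape.up ℤ)).obj I ⟶ J :=
    (RFPlus.mapExtendIso (EtCoh.pull hb) e R.cocomplex).hom ≫ extendMap χ e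
  haveI : _root_.QuasiIso χe := by
    simp only [χe]
    infer_instance
  let ι' : (CochainComplex.singleFunctor (EtCoh.Ab Xb) n).obj F ⟶ I :=
    (HomologicalComplex.extendSingleIso e F 0 n hen).inv ≫ (e.extendFunctor _).map R.ι
  haveI : _root_.QuasiIso ι' := by
    haveI : _root_.QuasiIso ((e.extendFunctor _).map R.ι) := (quasiIso_extendMap_iff R.ι e).2 inferInstance
    simp only [ι']
    infer_instance
  haveI : IsIso (DerivedCategory.Q.map ι') := (DerivedCategory.isIso_Q_map_iff_quasiIso _ ι').2 inferInstance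
  let ε : DerivedCategory.Q.obj I ≅ (DerivedCategory.singleFunctor (EtCoh.Ab Xb) n).obj F :=
    (asIso (DerivedCategory.Q.map ι')).symm ≪≫
      ((DerivedCategory.singleFunctorIsoCompQ (EtCoh.Ab Xb) n).app F).symm
  refine (isIso_bcMap_iff_cx h p hb pY w adj I χe ε).2 ?_
  let ψ := EtBCQ24.ψ p h pY hb w R.cocomplex R'.cocomplex χ
  haveI : _root_.QuasiIso ψ := ⟨fun q => by
    rw [quasiIsoAt_iff_isIso_homologyMap]
    exact (EtBCQ24.isIso_bcQ_iff p h pY hb w F _ _ _ (EtBCQ24.ι_χK hb F) q).1 (hq q)⟩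
  haveI : _root_.QuasiIso (extendMap ψ e) := (quasiIso_extendMap_iff ψ e).2 inferInstance
  have key : (RFPlus.mapExtendIso (EtCoh.push p ⋙ EtCoh.pull h) e R.cocomplex).hom ≫ extendMap ψ e =
      ΦG h p hb pY w I χe ≫ (RFPlus.mapExtendIso (EtCoh.push pY) e R'.cocomplex).hom := by
    simp only [ψ, χe, ΦG]
    rw [EtBCQ24.ψ, extendMap_comp, Functor.map_comp, Category.assoc, Category.assoc,
      RFPlus.mapExtendIso_naturality]
    erw [← reassoc_of% (mapExtendIso_natTrans e (EtBCQ24.bc0N p h pY hb w) R.cocomplex)]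
    erw [mapExtendIso_comp]
    simp only [Category.assoc]
    rfl
  haveI : _root_.QuasiIso (ΦG h p hb pY w I χe ≫ (RFPlus.mapExtendIso (EtCoh.push pY) e R'.cocomplex).hom) := by
    rw [← key]
    infer_instance
  exact quasiIso_of_comp_right _ (RFPlus.mapExtendIso (EtCoh.push pY) e R'.cocomplex).hom

/-- The derived base change morphism as a natural transformation. -/
noncomputable def bcNat :
    DCoh.RpushEt Xb p ⋙ EtBC.pullD h ⟶ EtBC.pullD hb ⋙ DCoh.RpushEt Yb pY where
  app O := EtBC.bcMap p h pY hb w adj O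
  naturality O O' a := by
    simp only [EtBC.bcMap, Functor.comp_map]
    erw [← Adjunction.homEquiv_naturality_left_symm, ← Adjunction.homEquiv_naturality_right_symm]
    exact congrArg _ ((EtBC.bcAdj p h pY hb w).naturality a)

/-- The derived base change morphism on a bounded below object whose cohomology sheaves have base change. -/
theorem isIso_bcMap_of_isGE (P : ObjectProperty (EtCoh.Ab Xb)) [P.IsClosedUnderIsomorphisms]
    (hP : ∀ F, P F → ∀ q : ℕ, IsIso (EtBC.bcQ p h pY hb w q F))
    (E : DCoh.DEt Xb) (n : ℤ) [E.IsGE n] (hE : ∀ i : ℤ, P ((DerivedCategory.homologyFunctor _ i).obj E)) :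
    IsIso (EtBC.bcMap p h pY hb w adj E) := by
  obtain ⟨a₁⟩ := nonempty_adj p
  obtain ⟨a₂⟩ := nonempty_adj pY
  letI := a₁.rightAdjointCommShift ℤ
  haveI := a₁.commShift_of_leftAdjoint ℤ
  haveI := a₁.isTriangulated_rightAdjoint
  letI := a₂.rightAdjointCommShift ℤ
  haveI := a₂.commShift_of_leftAdjoint ℤ
  haveI := a₂.isTriangulated_rightAdjoint
  show IsIso ((bcNat h p hb pY w adj).app E)
  refine isIso_app_of_isGE (bcNat h p hb pY w adj) P
    (fun m M hM => isIso_bcMap_singleFunctor h p hb pY w adj M m (hP M hM)) ?_ ?_ E n inferInstance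
    (fun q => Or.inl (hE q))
  · intro O m hO
    haveI := WayOut.isGE_rightAdjoint (EtCoh.pull p) a₁ O m
    exact WayOut.isGE_mapDerivedCategory (EtCoh.pull h) _ m
  · intro O m hO
    haveI := WayOut.isGE_mapDerivedCategory (EtCoh.pull hb) O m
    exact WayOut.isGE_rightAdjoint (EtCoh.pull pY) a₂ _ m

/-- Proper base change on bounded below objects with torsion cohomology (S3463). -/
theorem isIso_bcMap_boundedBelow (hBC : ProperBC.{u}) {X Y X' Y' : Scheme.{u}} (f : X ⟶ Y) (g : Y' ⟶ Y)
    (f' : X' ⟶ Y') (g' : X' ⟶ X) (h : IsPullback g' f' f g) [IsProper f]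
    [PreservesFiniteLimits (EtCoh.pull g)] [PreservesFiniteLimits (EtCoh.pull g')]
    [DCoh.HasRpushEt X f] [DCoh.HasRpushEt X' f'] [DCoh.HasRpushEt Y' g]
    (adj : EtBC.pullD g ⊣ DCoh.RpushEt Y' g) (E : DCoh.DEt X) (n : ℤ) [E.IsGE n]
    (hE : ∀ i : ℤ, EtCoh.IsTorsion (DCoh.HDEt E i)) :
    IsIso (EtBC.bcMap f g f' g' h.w adj E) := by
  let P : ObjectProperty (EtCoh.Ab X) :=
    ObjectProperty.isoClosure fun F => EtCoh.IsTorsion F
  refine isIso_bcMap_of_isGE g f g' f' h.w adj P ?_ E n fun i =>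
    ObjectProperty.le_isoClosure _ _ (hE i)
  rintro F ⟨F', hF', ⟨i⟩⟩ q
  have := hBC f inferInstance f' g g' h F' hF' q
  have hnat := BcMapQ6.bcQ_natural f g f' g' h.w i.hom q
  have : IsIso ((EtCoh.pull g).map ((EtCoh.Rpush f q).map i.hom) ≫ EtBC.bcQ f g f' g' h.w q F') := inferInstance
  rw [hnat] at this
  exact IsIso.of_isIso_comp_right _ ((EtCoh.Rpush f' q).map ((EtCoh.pull g').map i.hom))

end Groth.Agent.PBC24
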