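import Groth.Agent.Lib.RFPlus.Acyclic
import Groth.Agent.Lib.RFPlus.Adapted
import Groth.Agent.Lib.RFPlus.DerivedZero
import Groth.Agent.Lib.RFPlus.Triangulated
import Groth.Agent.Lib.KInj.Basic
import Mathlib.Algebra.Homology.DerivedCategory.Plus

/-!
# Complexes with acyclic terms under a left exact functor of bounded amplitude;
# right derived functors on bounded below objects
-/

set_option autoImplicit false
set_option linter.style.haveILetI false
set_option linter.unusedSectionVars false
set_option backward.isDefEq.respectTransparency false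
set_option backward.isDefEq.respectTransparency.types false

universe w w' v v' u u'

open CategoryTheory CategoryTheory.Limits HomologicalComplex

namespace Groth.Agent.PBC24

section Amp

variable {C : Type u} [Category.{v} C] [Abelian C] [HasDerivedCategory.{w} C] [EnoughInjectives C]
  {D : Type u'} [Category.{v'} D] [Abelian D] [HasDerivedCategory.{w'} D]
  (F : C ⥤ D) [F.Additive] [PreservesFiniteLimits F]
  (J : CochainComplex C ℤ) (hJ : ∀ m (q : ℕ), 0 < q → IsZero ((F.rightDerived q).obj (J.X m)))

/-- Cycles map to a term and onto the next cycles when the complex is exact there. -/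
theorem shortExact_cycles (m : ℤ) (h : J.ExactAt (m + 1)) :
    (ShortComplex.mk (J.iCycles m) (J.toCycles m (m + 1)) (by
      rw [← cancel_mono (J.iCycles (m + 1))]; simp)).ShortExact := by
  haveI : Epi (J.toCycles m (m + 1)) := by
    have h1 : IsZero (J.homology (m + 1)) := h.isZero_homology
    exact Preadditive.epi_of_isZero_cokernel' _ (J.homologyIsCokernel m (m + 1) (by simp)) h1
  refine { exact := ShortComplex.exact_of_f_is_kernel _ (KernelFork.IsLimit.ofι' _ _ fun k hk =>
    ⟨J.liftCycles k (m + 1) (by simp) (by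
      have h2 := congrArg (· ≫ J.iCycles (m + 1)) hk
      simpa using h2), J.liftCycles_i _ _ _ _⟩) }

include hJ in
theorem isZero_cycles_succ (N : ℕ) (b : ℤ) (hex : ∀ m, b < m → J.ExactAt m)
    (hb : ∀ q, N < q → IsZero ((F.rightDerived q).obj (J.cycles b))) :
    ∀ (k : ℕ) (q : ℕ), 0 < q → N < q + k → IsZero ((F.rightDerived q).obj (J.cycles (b + k))) := by
  intro k
  induction k with
  | zero => intro q _ h; simpa using hb q (by omega)
  | succ k ih =>
    intro q hq h
    rw [show b + ((k + 1 : ℕ) : ℤ) = b + k + 1 by push_cast; omega]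
    exact RFPlus.isZero_rightDerived_X₃ F _ (shortExact_cycles J (b + k) (hex _ (by omega))) q (hJ _ q hq)
      (ih (q + 1) (by omega) (by omega))

include hJ in
/-- Above the amplitude the image complex is exact. -/
theorem exactAt_map (N : ℕ) (b : ℤ) (hex : ∀ m, b < m → J.ExactAt m)
    (hb : ∀ q, N < q → IsZero ((F.rightDerived q).obj (J.cycles b))) (i : ℤ) (hi : b + N < i) :
    ((F.mapHomologicalComplex (ComplexShape.up ℤ)).obj J).ExactAt i := by
  obtain ⟨k, hk⟩ : ∃ k : ℕ, i = b + k + 1 := ⟨(i - b - 1).toNat, by omega⟩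
  subst hk
  have hS := shortExact_cycles J (b + k) (hex _ (by omega))
  have h1 := RFPlus.shortExact_map_of_isZero F _ hS
    (isZero_cycles_succ F J hJ N b hex hb k 1 one_pos (by omega))
  haveI : Epi (F.map (J.toCycles (b + k) (b + k + 1))) := h1.epi_g
  rw [exactAt_iff' _ (b + k) (b + k + 1) (b + k + 1 + 1) (by simp) (by simp)]
  let T := (J.sc' (b + k) (b + k + 1) (b + k + 1 + 1))
  have hker : IsLimit (KernelFork.ofι (F.map (J.iCycles (b + k + 1)))
      (show F.map (J.iCycles (b + k + 1)) ≫ F.map (J.d (b + k + 1) (b + k + 1 + 1)) = 0 by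
        rw [← F.map_comp, iCycles_d, F.map_zero])) :=
    KernelFork.mapIsLimit _ (J.cyclesIsKernel (b + k + 1) (b + k + 1 + 1) (by simp)) F
  refine (ShortComplex.exact_iff_epi_kernel_lift _).2 ?_
  have e : kernel.lift (F.map (J.d (b + k + 1) (b + k + 1 + 1))) (F.map (J.d (b + k) (b + k + 1)))
      (by rw [← F.map_comp, J.d_comp_d, F.map_zero]) = F.map (J.toCycles (b + k) (b + k + 1)) ≫
        (hker.conePointUniqueUpToIso (kernelIsKernel _)).hom := by
    rw [← cancel_mono (kernel.ι _), kernel.lift_ι, Category.assoc]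
    have h2 := IsLimit.conePointUniqueUpToIso_hom_comp hker (kernelIsKernel _) WalkingParallelPair.zero
    refine Eq.trans ?_ (congrArg (_ ≫ ·) h2).symm
    exact ((F.map_comp _ _).symm.trans (congrArg F.map (J.toCycles_i _ _))).symm
  show Epi (kernel.lift (F.map (J.d (b + k + 1) (b + k + 1 + 1))) (F.map (J.d (b + k) (b + k + 1))) _)
  rw [e]
  infer_instance

include hJ in
/-- Cycles of a bounded below complex with homology of bounded amplitude. -/
theorem isZero_cycles_of_homology (N : ℕ) (a : ℤ) [J.IsStrictlyGE a]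
    (hH : ∀ m q, N < q → IsZero ((F.rightDerived q).obj (J.homology m))) :
    ∀ (k : ℕ) (q : ℕ), N < q → IsZero ((F.rightDerived q).obj (J.cycles (a - 1 + k))) := by
  have hadd : ∀ q : ℕ, (F.rightDerived q).Additive := fun q => RFPlus.rightDerived_additive F q
  intro k
  induction k with
  | zero =>
    intro q _
    haveI := hadd q
    have hz : IsZero (J.X (a - 1)) := J.isZero_of_isStrictlyGE a _ (by omega)
    simpa using Functor.map_isZero (F.rightDerived q) (hz.of_mono (J.iCycles (a - 1)))
  | succ k ih =>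
    intro q hq
    rw [show a - 1 + ((k + 1 : ℕ) : ℤ) = a - 1 + k + 1 by push_cast; omega]
    let m := a - 1 + (k : ℤ)
    let t := J.toCycles m (m + 1)
    have hzero : J.iCycles m ≫ t = 0 := by
      rw [← cancel_mono (J.iCycles (m + 1))]; simp [t]
    have hS1 : (ShortComplex.mk (J.iCycles m) (factorThruImage t) (by
        rw [← cancel_mono (image.ι t), Category.assoc, image.fac, hzero, zero_comp])).ShortExact := by
      refine { exact := ShortComplex.exact_of_f_is_kernel _ (KernelFork.IsLimit.ofι' _ _ fun x hx =>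
        ⟨J.liftCycles x (m + 1) (by simp) (by
          have h2 := congrArg (· ≫ image.ι t ≫ J.iCycles (m + 1)) hx
          simpa [t] using h2), J.liftCycles_i _ _ _ _⟩) }
    have hw : image.ι t ≫ J.homologyπ (m + 1) = 0 := by
      rw [← cancel_epi (factorThruImage t), image.fac_assoc, comp_zero]
      exact J.toCycles_comp_homologyπ m (m + 1)
    have hS2 : (ShortComplex.mk (image.ι t) (J.homologyπ (m + 1)) hw).ShortExact := by
      refine { exact := ShortComplex.exact_of_g_is_cokernel _ (CokernelCofork.IsColimit.ofπ' _ _ fun x hx => ?_) }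
      have hx' : t ≫ x = 0 := by
        rw [← image.fac t, Category.assoc, hx, comp_zero]
      exact ⟨(J.homologyIsCokernel m (m + 1) (by simp)).desc (CokernelCofork.ofπ x hx'),
        (J.homologyIsCokernel m (m + 1) (by simp)).fac (CokernelCofork.ofπ x hx') WalkingParallelPair.one⟩
    refine RFPlus.isZero_rightDerived_X₂ F _ hS2 q ?_ (hH _ q hq)
    exact RFPlus.isZero_rightDerived_X₃ F _ hS1 q (hJ _ q (by omega)) (ih (q + 1) (by omega))

end Amp

section Restrict

attribute [local instance] HasDerivedCategory.standard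

/-- A right derived functor on bounded below objects is the restriction of one on all objects. -/
theorem nonempty_plus_rightDerived {A : Type u} [Category.{v} A] [Abelian A] [EnoughInjectives A]
    {B : Type u'} [Category.{v'} B] [Abelian B] (G : A ⥤ B) [G.Additive]
    {RF : DerivedCategory A ⥤ DerivedCategory B}
    (α : G.mapHomotopyCategory (ComplexShape.up ℤ) ⋙ DerivedCategory.Qh ⟶ DerivedCategory.Qh ⋙ RF)
    (hα : ∀ (I : CochainComplex A ℤ), I.IsKInjective →
      IsIso (α.app ((HomotopyCategory.quotient A (ComplexShape.up ℤ)).obj I))) :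
    Nonempty (G.rightDerivedFunctorPlus ⋙ DerivedCategory.Plus.ι ≅ DerivedCategory.Plus.ι ⋙ RF) := by
  let E := RFPlus.injEquiv A
  let J := (InjectiveObject.ι A).mapHomotopyCategoryPlus
  let c : ∀ Y : HomotopyCategory.Plus (InjectiveObject A),
      (J ⋙ G.mapHomotopyCategoryPlus ⋙ DerivedCategory.Plus.Qh ⋙ DerivedCategory.Plus.ι).obj Y ≅
        (E.functor ⋙ DerivedCategory.Plus.ι ⋙ RF).obj Y := fun Y =>
    haveI := RFPlus.isKInjective_obj (C := A) Y
    haveI := hα (J.obj Y).obj.as inferInstance
    @asIso _ _ _ _ (α.app ((HomotopyCategory.quotient A (ComplexShape.up ℤ)).obj (J.obj Y).obj.as)) this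
  let n : J ⋙ G.mapHomotopyCategoryPlus ⋙ DerivedCategory.Plus.Qh ⋙ DerivedCategory.Plus.ι ≅
      E.functor ⋙ DerivedCategory.Plus.ι ⋙ RF := NatIso.ofComponents c fun {Y Y'} f =>
    α.naturality (J.map f).hom
  let n' : E.functor ⋙ (G.rightDerivedFunctorPlus ⋙ DerivedCategory.Plus.ι) ≅
      E.functor ⋙ (DerivedCategory.Plus.ι ⋙ RF) :=
    (Functor.isoWhiskerRight (RFPlus.injToDerivedCompIso G) DerivedCategory.Plus.ι :) ≪≫ n
  exact ⟨(Functor.leftUnitor _).symm ≪≫ Functor.isoWhiskerRight E.counitIso.symm _ ≪≫
    Functor.isoWhiskerLeft E.inverse n' ≪≫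
    Functor.isoWhiskerRight E.counitIso (DerivedCategory.Plus.ι ⋙ RF) ≪≫ Functor.leftUnitor _⟩

end Restrict

end Groth.Agent.PBC24
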