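import Groth.Agent.Lib.EtBCQ24.Mono
import Groth.Agent.Lib.EtAcyc24.BCTransfer
import Groth.Agent.Lib.EtStalk.HofPush
import Groth.Agent.Lib.EtColim.Torsion
import Groth.Agent.Lib.FieldBr3.CurveTor

/-!
# Cohomological dimension for torsion sheaves
-/

set_option autoImplicit false
set_option linter.style.haveILetI false
set_option linter.unusedSectionVars false
set_option backward.isDefEq.respectTransparency false
set_option backward.isDefEq.respectTransparency.types false

universe u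

open CategoryTheory CategoryTheory.Limits AlgebraicGeometry Opposite CategoryTheory.Abelian

namespace Groth.Agent.PBC24

/-- Torsion sheaves on `X` have no cohomology above degree `N`. -/
def CdLE (X : Scheme.{u}) (N : ℕ) : Prop :=
  ∀ F : EtCoh.Ab X, EtCoh.IsTorsion F → ∀ q : ℕ, N < q → Subsingleton (EtCoh.H X F q)

theorem CdLE.mono {X : Scheme.{u}} {M N : ℕ} (h : CdLE X M) (hMN : M ≤ N) : CdLE X N :=
  fun F hF q hq => h F hF q (lt_of_le_of_lt hMN hq)

theorem isTorsion_of_nsmul {X : Scheme.{u}} {F : EtCoh.Ab X} {a : ℕ} (ha : 0 < a) (h : a • 𝟙 F = 0) :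
    EtCoh.IsTorsion F := fun U s x =>
  ⟨U, 𝟙 U, ⟨x, rfl⟩, isOfFinAddOrder_iff_nsmul_eq_zero.2 ⟨a, ha, by
    rw [op_id, CategoryTheory.Functor.map_id]
    exact EtBCQ24.killedBy_of_nsmul h U s⟩⟩

/-- Killed sheaves detect the vanishing of cohomology of torsion sheaves. -/
theorem subsingleton_H_of_killed {X : Scheme.{u}} [CompactSpace X] [QuasiSeparatedSpace X] (q : ℕ)
    (h : ∀ (a : ℕ) (G : EtCoh.Ab X), 0 < a → a • 𝟙 G = 0 → Subsingleton (EtCoh.H X G q))
    (F : EtCoh.Ab X) (hF : EtCoh.IsTorsion F) : Subsingleton (EtCoh.H X F q) := by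
  haveI : IsFiltered (ULift.{u + 1} ℕ) := isFiltered_of_directed_le_nonempty _
  haveI := EtColim.isIso_desc F hF
  refine subsingleton_of_forall_eq 0 fun x => ?_
  let d := colimit.desc (EtColim.torDiag F) (EtColim.torCocone F)
  obtain ⟨⟨k⟩, y, hy⟩ := (EtColim.surj_inj X q (EtColim.torDiag F)).1 (x.comp (Ext.mk₀ (inv d)) (add_zero q))
  have hx : x = y.comp (Ext.mk₀ (kernel.ι (EtColim.mulFact F k))) (add_zero q) := by
    have := congrArg (fun z => Ext.comp z (Ext.mk₀ d) (add_zero q)) hy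
    simp only [ExtColim.comp_mk₀, d, colimit.ι_desc, IsIso.inv_hom_id] at this
    exact (this.trans (Ext.comp_mk₀_id _)).symm
  have hz : k.factorial • 𝟙 (kernel (EtColim.mulFact F k)) = 0 := by
    rw [← cancel_mono (kernel.ι (EtColim.mulFact F k)), zero_comp, Preadditive.nsmul_comp, Category.id_comp,
      ← natCast_zsmul, ← kernel.condition (EtColim.mulFact F k)]
    simp [EtColim.mulFact]
  rw [hx, show y = 0 from @Subsingleton.elim _ (h k.factorial _ k.factorial_pos hz) _ _]
  simp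

theorem subsingleton_H_acyc {X : Scheme.{u}} {J : EtCoh.Ab X} (hJ : EtFlasque24.Acyc J) {q : ℕ} (hq : 0 < q) :
    Subsingleton (EtCoh.H X J q) :=
  haveI : IsIso (EtCoh.top X).hom := inferInstanceAs (IsIso (𝟙 X))
  @Function.Injective.subsingleton _ _ _ (LocAcyc24.bijective_Hpull_of_isIso (EtCoh.top X).hom J q).1
    (hJ (EtCoh.top X) q hq)

theorem nsmul_cokernel {X : Scheme.{u}} {F J : EtCoh.Ab X} (u : F ⟶ J) {a : ℕ} (h : a • 𝟙 J = 0) :
    a • 𝟙 (cokernel u) = 0 := by
  rw [← cancel_epi (cokernel.π u), comp_zero, Preadditive.comp_nsmul, Category.comp_id]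
  calc a • cokernel.π u = (a • 𝟙 J) ≫ cokernel.π u := by rw [Preadditive.nsmul_comp, Category.id_comp]
    _ = 0 := by rw [h, zero_comp]

/-- A killed sheaf with few higher direct images has cohomology in few degrees. -/
theorem subsingleton_H_of_Rpush {Z' Z : Scheme.{u}} (f : Z' ⟶ Z) [QuasiCompact f] [QuasiSeparated f]
    {b : ℕ} (hb : CdLE Z b) : ∀ (a : ℕ) (F : EtCoh.Ab Z') (m : ℕ), 0 < m → m • 𝟙 F = 0 →
      (∀ i, a < i → IsZero ((EtCoh.Rpush f i).obj F)) → ∀ q, a + b < q → Subsingleton (EtCoh.H Z' F q) := by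
  intro a
  induction a with
  | zero =>
    intro F m hm h0 hR q hq
    haveI := hb _ (FieldBr3.isTorsion_push' f (isTorsion_of_nsmul hm h0)) q (by omega)
    exact (EtStalk.bijective_HofPush f q F hR).2.subsingleton
  | succ a ih =>
    intro F m hm h0 hR q hq
    obtain ⟨J, u, hu, hJ, hJ0⟩ := EtBCQ24.exists_acyc_embed F h0
    have hS : (ShortComplex.mk u (cokernel.π u) (cokernel.condition u)).ShortExact :=
      { exact := ShortComplex.exact_cokernel u, mono_f := hu }
    obtain ⟨T⟩ := RDerLES.exists_sesRes hS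
    haveI : (EtCoh.push f).IsRightAdjoint := (EtCoh.pullPushAdj f).isRightAdjoint
    have hQ : ∀ i, a < i → IsZero ((EtCoh.Rpush f i).obj (cokernel u)) := fun i hi => by
      obtain ⟨-, ⟨w, hw⟩, -⟩ := RDerLES.exact_sequences (EtCoh.push f) T i (i + 1) rfl
      exact hw.isZero_X₂ ((EtAcyc24.isZero_Rpush_of_acyc f hJ i (by omega)).eq_of_src _ _)
        ((hR (i + 1) (by omega)).eq_of_tgt _ _)
    obtain ⟨p, rfl⟩ := Nat.exists_eq_add_one.2 (show 0 < q by omega)
    haveI := ih _ m hm (nsmul_cokernel u hJ0) hQ p (by omega)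
    have hJq := subsingleton_H_acyc hJ p.succ_pos
    refine subsingleton_of_forall_eq 0 fun x => ?_
    obtain ⟨y, rfl⟩ := Ext.covariant_sequence_exact₁ _ hS x (@Subsingleton.elim _ hJq _ _) (n₀ := p) rfl
    rw [show y = 0 from @Subsingleton.elim _ ‹Subsingleton (EtCoh.H Z' (cokernel u) p)› _ _]
    simp

/-- The cohomological dimension of the source of a morphism. -/
theorem CdLE.of_Rpush {Z' Z : Scheme.{u}} (f : Z' ⟶ Z) [QuasiCompact f] [QuasiSeparated f] [CompactSpace Z]
    [QuasiSeparatedSpace Z] {a b : ℕ}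
    (hR : ∀ (G : EtCoh.Ab Z'), EtCoh.IsTorsion G → ∀ i, a < i → IsZero ((EtCoh.Rpush f i).obj G))
    (hb : CdLE Z b) : CdLE Z' (a + b) := by
  haveI : CompactSpace Z' := QuasiCompact.compactSpace_of_compactSpace f
  haveI : QuasiSeparatedSpace Z' := quasiSeparatedSpace_of_quasiSeparated f
  intro F hF q hq
  exact subsingleton_H_of_killed q
    (fun m G hm h0 => subsingleton_H_of_Rpush f hb a G m hm h0 (hR G (isTorsion_of_nsmul hm h0)) q hq) F hF

end Groth.Agent.PBC24
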