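import Groth.Agent.Lib.PBC24.CdFib
import Groth.Agent.Lib.ProjSpace.BaseChange
import Groth.Agent.Lib.Chow13.ProjProd
import Groth.Agent.S10829

/-!
# Powers of the projective line as targets of quasi-finite maps
-/

set_option autoImplicit false
set_option linter.style.haveILetI false
set_option linter.unusedSectionVars false
set_option backward.isDefEq.respectTransparency false
set_option backward.isDefEq.respectTransparency.types false

universe u

open CategoryTheory CategoryTheory.Limits AlgebraicGeometry Opposite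

namespace Groth.Agent.PBC24

/-- Geometric fibres of the projective line. -/
noncomputable def projFibreIso (n : ℕ) (S : Scheme.{u}) (K : Type u) [Field K] (ξ : Spec (CommRingCat.of K) ⟶ S) :
    pullback (CohB1.ProjSpaceOver.toBase n S) ξ ≅ CohB1.ProjSpace n K :=
  pullbackLeftPullbackSndIso _ _ _ ≪≫ pullback.congrHom rfl (specULiftZIsTerminal.hom_ext _ _) ≪≫
    (ProjSpace.overSpecIso n K).symm

theorem isProper_projToBase (n : ℕ) (S : Scheme.{u}) : IsProper (CohB1.ProjSpaceOver.toBase n S) := by
  haveI : IsProper (CohB1.ProjSpace.toSpec n (ULift.{u} ℤ)) := ProjSpace.isProper_toSpec n _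
  exact MorphismProperty.pullback_snd (P := @IsProper) _ _ inferInstance

/-- The cohomological dimension of a projective line over a scheme. -/
theorem cdLE_projLine (hBC : ProperBC.{u}) (S : Scheme.{u}) [CompactSpace S] [QuasiSeparatedSpace S] {b : ℕ}
    (hb : CdLE S b) : CdLE (CohB1.ProjSpaceOver 1 S) (2 + b) := by
  haveI := isProper_projToBase 1 S
  refine CdLE.of_Rpush (CohB1.ProjSpaceOver.toBase 1 S) (fun G hG i hi => ?_) hb
  refine isZero_Rpush_of_fibres hBC _ G hG i fun K _ _ ξ => ?_
  let t := pullback.snd (CohB1.ProjSpaceOver.toBase 1 S) ξ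
  let σ := Spec.map (CommRingCat.ofHom (algebraMap K (AlgebraicClosure K)))
  refine CdLE.of_algClosure t (cdLE_curve (pullback.snd t σ) ?_) _ (FieldBr3.isTorsion_pull' _ hG) i hi
  let e : pullback t σ ≅ CohB1.ProjSpace 1 (AlgebraicClosure K) :=
    pullbackLeftPullbackSndIso _ _ _ ≪≫ projFibreIso 1 S _ (σ ≫ ξ)
  rw [(Scheme.homeoOfIso e).isHomeomorph.topologicalKrullDim_eq, Groth.Agent.S10829.result]
  exact le_rfl

/-- Affine spaces over a field immerse in proper schemes of small cohomological dimension. -/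
theorem exists_cube (hBC : ProperBC.{u}) (k : Type u) [Field k] [IsAlgClosed k] (n : ℕ) :
    ∃ (P : Scheme.{u}) (p : P ⟶ Spec (CommRingCat.of k))
      (φ : Spec (CommRingCat.of (MvPolynomial (Fin n) k)) ⟶ P),
      IsProper p ∧ IsImmersion φ ∧ φ ≫ p = Spec.map (CommRingCat.ofHom MvPolynomial.C) ∧ CdLE P (2 * n) := by
  induction n with
  | zero =>
    refine ⟨_, 𝟙 _, Spec.map (CommRingCat.ofHom MvPolynomial.C), inferInstance, ?_, Category.comp_id _, ?_⟩
    · haveI : IsIso (CommRingCat.ofHom (MvPolynomial.C : k →+* MvPolynomial (Fin 0) k)) :=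
        (ConcreteCategory.isIso_iff_bijective _).2 ⟨MvPolynomial.C_injective _ _, MvPolynomial.C_surjective _⟩
      infer_instance
    · exact fun F hF q hq => EtPic3.subsingleton_H_sepClosed k F (by omega)
  | succ n ih =>
    obtain ⟨P, p, φ, hp, hφ, hφp, hcd⟩ := ih
    obtain ⟨j, hj, hjc⟩ := Chow13.exists_affineSpace_immersion (S := P) 1
    let R := MvPolynomial (Fin n) k
    let eι : Fin (n + 1) ≃ ULift.{u} (Fin 1) ⊕ Fin n :=
      ((finCongr (Nat.add_comm n 1)).trans finSumFinEquiv.symm).trans (Equiv.ulift.symm.sumCongr (Equiv.refl _))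
    let e : MvPolynomial (Fin (n + 1)) k ≃ₐ[k] MvPolynomial (ULift.{u} (Fin 1)) R :=
      (MvPolynomial.renameEquiv k eι).trans (MvPolynomial.sumAlgEquiv k _ _)
    let ε := e.toRingEquiv.toCommRingCatIso
    haveI : IsImmersion (AffineSpace.map (ULift.{u} (Fin 1)) φ) :=
      MorphismProperty.of_isPullback (AffineSpace.isPullback_map φ).flip hφ
    haveI := isProper_projToBase 1 P
    haveI : IsProper (CohB1.ProjSpaceOver.toBase 1 P ≫ p) := inferInstance
    haveI : CompactSpace P := QuasiCompact.compactSpace_of_compactSpace p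
    haveI : QuasiSeparatedSpace P := quasiSeparatedSpace_of_quasiSeparated p
    refine ⟨_, CohB1.ProjSpaceOver.toBase 1 P ≫ p,
      Spec.map ε.inv ≫ (AffineSpace.SpecIso (ULift.{u} (Fin 1)) (CommRingCat.of R)).inv ≫
        AffineSpace.map _ φ ≫ j, inferInstance, inferInstance, ?_, (cdLE_projLine hBC P hcd).mono (by omega)⟩
    simp only [Category.assoc, reassoc_of% hjc, AffineSpace.map_over_assoc, hφp,
      AffineSpace.SpecIso_inv_over_assoc, ← Spec.map_comp]
    refine congrArg Spec.map (CommRingCat.hom_ext (RingHom.ext fun c => ?_))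
    exact e.symm.commutes c

end Groth.Agent.PBC24
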