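import Groth.Agent.Lib.PBC24.CdCube
import Groth.Agent.Lib.Chow13.Image
import Groth.Agent.Lib.Chow13.Main
import Groth.Agent.Lib.ExtShriek24.Gluing
import Groth.Agent.Lib.FieldH25.Transfer
import Groth.Agent.Lib.VarDim.Scheme
import Mathlib.RingTheory.NoetherNormalization

/-!
# The cohomological dimension of proper schemes over algebraically closed fields
-/

set_option autoImplicit false
set_option linter.style.haveILetI false
set_option linter.unusedSectionVars false
set_option backward.isDefEq.respectTransparency false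
set_option backward.isDefEq.respectTransparency.types false

universe u

open CategoryTheory CategoryTheory.Limits AlgebraicGeometry Opposite CategoryTheory.Abelian

namespace Groth.Agent.PBC24

open Groth.Agent.EtStalk
open Groth.Agent.EtAcyc24 (bijective_comp_iso)

/-- Cohomology of a zero sheaf. -/
theorem subsingleton_H_of_stalks {X : Scheme.{u}} (F : EtCoh.Ab X)
    (h : ∀ (Ω : Type u) [Field Ω] [IsSepClosed Ω] (ξ : Spec (CommRingCat.of Ω) ⟶ X), IsZero ((EtCoh.stalk ξ).obj F))
    (q : ℕ) : Subsingleton (EtCoh.H X F q) := by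
  refine subsingleton_of_forall_eq 0 fun x => ?_
  have hid : 𝟙 F = 0 := IsZero.eq_of_src ((isZero_iff_stalk F).2 h) _ _
  rw [← Ext.comp_mk₀_id x, hid]
  simp

theorem nsmul_map {X Y : Scheme.{u}} (Φ : EtCoh.Ab X ⥤ EtCoh.Ab Y) [Φ.Additive] {F : EtCoh.Ab X} {a : ℕ}
    (h : a • 𝟙 F = 0) : a • 𝟙 (Φ.obj F) = 0 := by
  rw [← Φ.map_id, ← Functor.map_nsmul, h, Functor.map_zero]

section Open

variable {X Γ' P : Scheme.{u}}

/-- A sheaf supported on an open over which a proper morphism is an isomorphism. -/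
theorem subsingleton_H_extZero (hBC : ProperBC.{u}) (π : Γ' ⟶ X) [IsProper π] (ψ : Γ' ⟶ P) [IsProper ψ]
    [CompactSpace P] [QuasiSeparatedSpace P] (U : X.Opens) [IsIso (π ∣_ U)] [AlgebraicGeometry.Etale U.ι]
    [EtShriek.JCont U.ι] [LocallyQuasiFinite ((π ⁻¹ᵁ U).ι ≫ ψ)] {N : ℕ} (hP : CdLE P N) (F : EtCoh.Ab X)
    {a : ℕ} (ha : 0 < a) (h0 : a • 𝟙 F = 0) {q : ℕ} (hq : N < q) :
    Subsingleton (EtCoh.H X ((EtShriek.extZero U.ι).obj ((EtShriek.restrAlong U.ι).obj F)) q) := by
  let V := π ⁻¹ᵁ U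
  let e := π ∣_ U
  haveI : AlgebraicGeometry.Etale V.ι := inferInstance
  haveI : EtShriek.JCont V.ι := inferInstance
  let F₀ := (EtShriek.restrAlong U.ι).obj F
  let G := (EtCoh.pull e).obj F₀
  let M' := (EtShriek.extZero V.ι).obj G
  haveI : (EtShriek.restrAlong U.ι).Additive := (EtShriek.extZeroAdj U.ι).right_adjoint_additive
  haveI : (EtShriek.extZero V.ι).Additive := (EtShriek.extZeroAdj V.ι).left_adjoint_additive
  haveI : (EtCoh.pull e).Additive := (EtCoh.pullPushAdj e).left_adjoint_additive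
  have hM0 : a • 𝟙 M' = 0 := nsmul_map _ (nsmul_map _ (nsmul_map _ h0))
  have hMt : EtCoh.IsTorsion M' := isTorsion_of_nsmul ha hM0
  have hsupp : ∀ (Ω : Type u) [Field Ω] [IsSepClosed Ω] (ξ : Spec (CommRingCat.of Ω) ⟶ Γ'),
      ξ (default : Spec (CommRingCat.of Ω)) ∉ V → IsZero ((EtCoh.stalk ξ).obj M') :=
    fun Ω _ _ ξ hξ => stalk_extZero_isZero V.ι G ξ (by rwa [Scheme.Opens.range_ι])
  haveI : LocallyQuasiFinite (V.ι ≫ π) := by
    rw [← morphismRestrict_ι π U]
    infer_instance
  have hRπ : ∀ i, 0 < i → IsZero ((EtCoh.Rpush π i).obj M') := fun i hi =>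
    isZero_Rpush_of_supp hBC π V M' hMt hsupp i hi
  haveI : Subsingleton (EtCoh.H Γ' M' q) :=
    subsingleton_H_of_Rpush ψ hP 0 M' a ha hM0 (fun i hi => isZero_Rpush_of_supp hBC ψ V M' hMt hsupp i hi) q
      (by omega)
  haveI := preservesFiniteLimits_pull π
  haveI hpush : Subsingleton (EtCoh.H X ((EtCoh.push π).obj M') q) := (bijective_HofPush π q M' hRπ).1.subsingleton
  let W := (EtCoh.push π).obj M'
  have hW : ∀ (Ω : Type u) [Field Ω] [IsSepClosed Ω] (ξ : Spec (CommRingCat.of Ω) ⟶ X),
      ξ (default : Spec (CommRingCat.of Ω)) ∉ Set.range U.ι → IsZero ((EtCoh.stalk ξ).obj W) := by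
    intro Ω _ _ ξ hξ
    haveI : (EtCoh.push π).IsRightAdjoint := (EtCoh.pullPushAdj π).isRightAdjoint
    obtain ⟨s⟩ := nonempty_stalk_Rpush hBC π ξ M' hMt 0
    refine IsZero.of_iso ?_ ((EtCoh.stalk ξ).mapIso ((EtCoh.push π).rightDerivedZeroIsoSelf.app M').symm ≪≫ s)
    haveI := subsingleton_H_of_stalks ((EtCoh.pull (pullback.fst π ξ)).obj M') (fun K _ _ ζ =>
      isZero_stalk_pull _ M' ζ (hsupp K (ζ ≫ pullback.fst π ξ) fun hm => hξ ?_)) 0
    · exact AddCommGrpCat.isZero_of_subsingleton _
    · rw [Scheme.Opens.range_ι]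
      have h1 : π ((pullback.fst π ξ) (ζ default)) = ξ ((pullback.snd π ξ) (ζ default)) := by
        rw [← Scheme.Hom.comp_apply, pullback.condition, Scheme.Hom.comp_apply]
      rw [← Subsingleton.elim ((pullback.snd π ξ) (ζ default)) (default : Spec (CommRingCat.of Ω)), ← h1]
      exact hm
  haveI := isIso_extZero_counit U.ι W hW
  have sq := (isPullback_morphismRestrict π U).flip
  haveI := ProperPush24.isIso_baseChange0_proper π M' U.ι e V.ι sq
  haveI : IsIso ((EtCoh.pullPushAdj e).unit.app F₀) := isIso_unit_integral e F₀ fun y _ => e.surjective y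
  let i₁ : (EtCoh.pull V.ι).obj M' ≅ G :=
    ((restrPullIso V.ι).app M').symm ≪≫ (asIso ((EtShriek.extZeroAdj V.ι).unit.app G)).symm
  let i₂ : (EtShriek.restrAlong U.ι).obj W ≅ F₀ :=
    (restrPullIso U.ι).app W ≪≫ asIso (EtCoh.baseChange0 π U.ι e V.ι sq.w M') ≪≫ (EtCoh.push e).mapIso i₁ ≪≫
      (asIso ((EtCoh.pullPushAdj e).unit.app F₀)).symm
  let i₃ : W ≅ (EtShriek.extZero U.ι).obj F₀ :=
    (asIso ((EtShriek.extZeroAdj U.ι).counit.app W)).symm ≪≫ (EtShriek.extZero U.ι).mapIso i₂
  exact (bijective_comp_iso i₃ q).2.subsingleton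

end Open

/-- Proper schemes all of whose points have dimension less than `d` have cohomology only up to `2 * (d - 1)`. -/
theorem subsingleton_H_proper (hBC : ProperBC.{u}) {k : Type u} [Field k] [IsAlgClosed k] (d : ℕ) :
    ∀ {X : Scheme.{u}} (f : X ⟶ Spec (CommRingCat.of k)) [IsProper f], (∀ x : X, VarDim.sdim f x < d) →
      ∀ F : EtCoh.Ab X, EtCoh.IsTorsion F → ∀ q : ℕ, 2 * d < q + 2 → Subsingleton (EtCoh.H X F q) := by
  induction d with
  | zero =>
    intro X f _ hX F _ q _
    exact subsingleton_H_of_stalks F (fun Ω _ _ ξ => absurd (hX (ξ default)) (Nat.not_lt_zero _)) q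
  | succ d ih =>
    intro X f _ hX F₁ hF₁ q hq
    haveI : IsLocallyNoetherian X := LocallyOfFiniteType.isLocallyNoetherian f
    haveI : CompactSpace X := QuasiCompact.compactSpace_of_compactSpace f
    haveI : IsNoetherian X := ⟨⟩
    rcases isEmpty_or_nonempty X with hemp | hne
    · exact subsingleton_H_of_stalks F₁ (fun Ω _ _ ξ => isEmptyElim (ξ default)) q
    refine subsingleton_H_of_killed q (fun a F ha h0 => ?_) F₁ hF₁
    obtain ⟨U, hU, -, hgen⟩ := Chow13.exists_dense_affineOpen
      TopologicalSpace.NoetherianSpace.finite_irreducibleComponents hne.some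
    obtain ⟨Z, i, hi, hri⟩ : ∃ (Z : Scheme.{u}) (i : Z ⟶ X) (_ : IsClosedImmersion i),
        Set.range i.base = (U : Set X)ᶜ :=
      ⟨_, _, inferInstance, (Scheme.IdealSheafData.range_subschemeι _).trans
        (Scheme.IdealSheafData.coe_support_vanishingIdeal (Z := ⟨(U : Set X)ᶜ, U.isOpen.isClosed_compl⟩))⟩
    have hZd : ∀ z : Z, VarDim.sdim (i ≫ f) z < d := fun z => by
      have hz : i z ∉ U := hri.subset ⟨z, rfl⟩
      let η := genericPoints.ofComponent (⟨irreducibleComponent (i z),
        irreducibleComponent_mem_irreducibleComponents _⟩ : irreducibleComponents (X : Type u))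
      have hs : η.1 ⤳ i z :=
        (genericPoints.isGenericPoint_ofComponent _).specializes mem_irreducibleComponent
      have h1 := VarDim.sdim_lt_of_specializes f hs fun h => hz (h ▸ hgen η.2)
      rw [VarDim.sdim_comp_of_surjective]
      have h2 := hX η.1
      omega
    haveI : AlgebraicGeometry.Etale U.ι := inferInstance
    haveI : EtShriek.JCont U.ι := inferInstance
    obtain ⟨w, hS⟩ := ExtShriek24.shortExact_extZero_pull i U (by rw [hri, compl_compl]) F
    haveI := preservesFiniteLimits_pull i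
    haveI : Subsingleton (EtCoh.H Z ((EtCoh.pull i).obj F) q) :=
      ih (i ≫ f) hZd _ (FieldBr3.isTorsion_pull' i (isTorsion_of_nsmul ha h0)) q (by omega)
    have hZ : Subsingleton (EtCoh.H X ((EtCoh.push i).obj ((EtCoh.pull i).obj F)) q) :=
      (bijective_HofPush i q _ fun m hm => FieldH25.isZero_Rpush_integral i _ m hm).1.subsingleton
    -- Noether normalisation
    let c : CommRingCat.of k ⟶ Γ(X, U) := Spec.preimage (hU.fromSpec ≫ f)
    have hc : Spec.map c = hU.fromSpec ≫ f := Spec.map_preimage _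
    letI : Algebra k Γ(X, U) := c.hom.toAlgebra
    haveI : Algebra.FiniteType k Γ(X, U) := by
      have : LocallyOfFiniteType (Spec.map c) := by rw [hc]; infer_instance
      exact (HasRingHomProperty.Spec_iff (P := @LocallyOfFiniteType)).1 this
    haveI : Nontrivial Γ(X, U) := by
      obtain ⟨η, hη⟩ : (genericPoints (X : Type u)).Nonempty :=
        ⟨_, (genericPoints.ofComponent (⟨irreducibleComponent hne.some,
          irreducibleComponent_mem_irreducibleComponents _⟩ : irreducibleComponents (X : Type u))).2⟩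
      haveI : Nonempty U := ⟨⟨η, hgen hη⟩⟩
      exact (hU.primeIdealOf ⟨η, hgen hη⟩).nontrivial
    obtain ⟨s, ν, hνi, hνf⟩ := exists_finite_inj_algHom_of_fg k Γ(X, U)
    have hs : s ≤ d := by
      letI : Algebra (MvPolynomial (Fin s) k) Γ(X, U) := ν.toRingHom.toAlgebra
      haveI : Module.Finite (MvPolynomial (Fin s) k) Γ(X, U) := hνf
      have hk : ringKrullDim Γ(X, U) = (s : WithBot ℕ∞) := by
        rw [VarDim.ringKrullDim_eq_of_isIntegral (R := MvPolynomial (Fin s) k) (S := Γ(X, U)) hνi,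
          MvPolynomial.ringKrullDim_of_isNoetherianRing, ringKrullDim_eq_zero_of_field]
        simp
      have htop : topologicalKrullDim (Spec Γ(X, U)) = (s : WithBot ℕ∞) :=
        (PrimeSpectrum.topologicalKrullDim_eq_ringKrullDim _).trans hk
      haveI : LocallyOfFiniteType (Spec.map c) := by rw [hc]; infer_instance
      rw [VarDim.dim_eq_iSup_sdim (Spec.map c)] at htop
      have hle : (⨆ u : Spec Γ(X, U), ((VarDim.sdim (Spec.map c) u : ℕ) : WithBot ℕ∞)) ≤ (d : WithBot ℕ∞) :=
        iSup_le fun u => by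
          rw [hc, VarDim.sdim_comp_of_surjective]
          exact_mod_cast Nat.lt_succ_iff.1 (hX _)
      rw [htop] at hle
      exact_mod_cast hle
    obtain ⟨P, p, φ, hp, hφ, hφp, hcd⟩ := exists_cube hBC k s
    let g : (U : Scheme.{u}) ⟶ P := hU.isoSpec.hom ≫ Spec.map (CommRingCat.ofHom ν.toRingHom) ≫ φ
    haveI : IsFinite (Spec.map (CommRingCat.ofHom ν.toRingHom)) := (IsFinite.SpecMap_iff _).2 hνf
    haveI : LocallyQuasiFinite g := inferInstance
    have hg : g ≫ p = U.ι ≫ f := by
      simp only [g, Category.assoc, hφp, ← Spec.map_comp]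
      rw [show CommRingCat.ofHom MvPolynomial.C ≫ CommRingCat.ofHom ν.toRingHom = c from
        CommRingCat.hom_ext (RingHom.ext fun r => ν.commutes r), hc, IsAffineOpen.isoSpec_hom_fromSpec_assoc]
    haveI : IsAffine (U : Scheme.{u}) := hU
    haveI : IsSeparated (pullback.fst f p) := MorphismProperty.pullback_fst _ _ inferInstance
    haveI : QuasiCompact (Chow13.graphU U g hg) := by
      haveI : QuasiCompact (Chow13.graphU U g hg ≫ pullback.fst f p) := by
        rw [Chow13.graphU, pullback.lift_fst]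
        infer_instance
      exact QuasiCompact.of_comp _ (pullback.fst f p)
    haveI := Chow13.isProper_chowπ U g hg
    haveI := Chow13.isIso_chowπ_restrict U g hg
    let π := Chow13.chowπ U g hg
    let ψ := Chow13.chowq U g hg
    haveI : IsProper (ψ ≫ p) := by
      rw [Chow13.chowq_comp]
      infer_instance
    haveI : IsProper ψ := IsProper.of_comp ψ p
    haveI : LocallyQuasiFinite ((π ⁻¹ᵁ U).ι ≫ ψ) := by
      let l := (Chow13.graphU U g hg).toImage
      have hl1 : l ≫ π = U.ι := by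
        simp [l, π, Chow13.chowπ, Scheme.Hom.toImage_imageι_assoc, Chow13.graphU]
      have hl2 : l ≫ ψ = g := by
        simp [l, ψ, Chow13.chowq, Scheme.Hom.toImage_imageι_assoc, Chow13.graphU]
      let l' : (U : Scheme.{u}) ⟶ π ⁻¹ᵁ U := IsOpenImmersion.lift (π ⁻¹ᵁ U).ι l (by
        rw [Scheme.Opens.range_ι]
        rintro _ ⟨u, rfl⟩
        change π (l u) ∈ U
        rw [← Scheme.Hom.comp_apply, hl1]
        exact u.2)
      have hl' : l' ≫ (π ∣_ U) = 𝟙 _ := by
        rw [← cancel_mono U.ι, Category.assoc, morphismRestrict_ι, IsOpenImmersion.lift_fac_assoc, hl1,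
          Category.id_comp]
      have hl3 : inv (π ∣_ U) ≫ (π ⁻¹ᵁ U).ι = l := by
        rw [← show l' = inv (π ∣_ U) from IsIso.eq_inv_of_inv_hom_id hl']
        exact IsOpenImmersion.lift_fac _ _ _
      have e : (π ⁻¹ᵁ U).ι ≫ ψ = (π ∣_ U) ≫ g := by
        rw [← IsIso.inv_comp_eq, ← Category.assoc, hl3]
        exact hl2
      rw [e]
      infer_instance
    haveI : CompactSpace P := QuasiCompact.compactSpace_of_compactSpace p
    haveI : QuasiSeparatedSpace P := quasiSeparatedSpace_of_quasiSeparated p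
    have hM := subsingleton_H_extZero hBC π ψ U (hcd.mono (show 2 * s ≤ 2 * d by omega)) F ha h0
      (q := q) (by omega)
    refine subsingleton_of_forall_eq 0 fun x => ?_
    obtain ⟨y, rfl⟩ := Ext.covariant_sequence_exact₂ _ hS x (@Subsingleton.elim _ hZ _ _)
    rw [show y = 0 from @Subsingleton.elim _ hM _ _]
    simp

/-- Proper schemes of dimension at most `n` over an algebraically closed field. -/
theorem cdLE_proper (hBC : ProperBC.{u}) {k : Type u} [Field k] [IsAlgClosed k] {X : Scheme.{u}}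
    (f : X ⟶ Spec (CommRingCat.of k)) [IsProper f] (n : ℕ) (hdim : topologicalKrullDim X ≤ n) : CdLE X (2 * n) := by
  intro F hF q hq
  refine subsingleton_H_proper hBC (n + 1) f (fun x => ?_) F hF q (by omega)
  rw [VarDim.dim_eq_iSup_sdim f] at hdim
  have := (le_iSup (fun x : X => ((VarDim.sdim f x : ℕ) : WithBot ℕ∞)) x).trans hdim
  exact Nat.lt_succ_iff.2 (by exact_mod_cast this)

end Groth.Agent.PBC24
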