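import Groth.Agent.Lib.PBC24.CdMain
import Groth.Agent.Lib.DimF18.Bc

/-!
# Higher direct images of torsion sheaves along proper morphisms vanish above twice the fibre dimension
-/

set_option autoImplicit false
set_option linter.style.haveILetI false
set_option linter.unusedSectionVars false
set_option backward.isDefEq.respectTransparency false
set_option backward.isDefEq.respectTransparency.types false

universe u

open CategoryTheory CategoryTheory.Limits AlgebraicGeometry Opposite

namespace Groth.Agent.PBC24

open Groth.Agent.VarDim in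
/-- A base field extension does not increase the dimension. -/
theorem topologicalKrullDim_le_of_isPullback {k K : Type u} [Field k] [Field K]
    (φ : CommRingCat.of k ⟶ CommRingCat.of K) {F P : Scheme.{u}} {pr : P ⟶ F}
    {q : P ⟶ Spec (CommRingCat.of K)} {p : F ⟶ Spec (CommRingCat.of k)} [LocallyOfFiniteType p]
    (sq : IsPullback pr q p (Spec.map φ)) : topologicalKrullDim P ≤ topologicalKrullDim F := by
  haveI : LocallyOfFiniteType q := MorphismProperty.of_isPullback sq inferInstance
  rw [dim_eq_iSup_sdim q, dim_eq_iSup_sdim p]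
  exact iSup_le fun w => le_trans (by exact_mod_cast (DimF18.sdim_bc sq w).1)
    (le_iSup (fun x : F => ((sdim p x : ℕ) : WithBot ℕ∞)) (pr w))

/-- The bound for higher direct images. -/
theorem isZero_Rpush_of_dim (hBC : ProperBC.{u}) {X Y : Scheme.{u}} (f : X ⟶ Y) [IsProper f] (n : ℕ)
    (hdim : ∀ y : Y, topologicalKrullDim (f.fiber y) ≤ n) (F : EtCoh.Ab X) (hF : EtCoh.IsTorsion F) (q : ℕ)
    (hq : 2 * n < q) : IsZero ((EtCoh.Rpush f q).obj F) := by
  refine isZero_Rpush_of_fibres hBC f F hF q fun Ω _ _ ξ => ?_
  let t := pullback.snd f ξ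
  let Ω' := AlgebraicClosure Ω
  let σ := Spec.map (CommRingCat.ofHom (algebraMap Ω Ω'))
  refine CdLE.of_algClosure t (cdLE_proper hBC (pullback.snd t σ) n ?_) _ (FieldBr3.isTorsion_pull' _ hF) q hq
  let y := ξ (IsLocalRing.closedPoint Ω)
  let φ := Y.descResidueField (Scheme.stalkClosedPointTo ξ)
  have hξ : Spec.map φ ≫ Y.fromSpecResidueField y = ξ :=
    Scheme.descResidueField_stalkClosedPointTo_fromSpecResidueField Ω Y ξ
  let r : pullback f ξ ⟶ f.fiber y := pullback.lift (pullback.fst f ξ) (t ≫ Spec.map φ)
    (by rw [Category.assoc, hξ]; exact pullback.condition)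
  have h1 : IsPullback r t (f.fiberToSpecResidueField y) (Spec.map φ) :=
    IsPullback.of_right (t := IsPullback.of_hasPullback f (Y.fromSpecResidueField y))
      (by rw [pullback.lift_fst, hξ]; exact IsPullback.of_hasPullback f ξ) (pullback.lift_snd _ _ _)
  have h2 := (IsPullback.of_hasPullback t σ).paste_horiz h1
  rw [← Spec.map_comp] at h2
  haveI : LocallyOfFiniteType (f.fiberToSpecResidueField y) :=
    inferInstanceAs (LocallyOfFiniteType (pullback.snd f (Y.fromSpecResidueField y)))
  exact (topologicalKrullDim_le_of_isPullback _ h2).trans (hdim y)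

end Groth.Agent.PBC24
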