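import Groth.Agent.Lib.PBC24.CdRpush

/-!
# Cohomological dimension for sheaves supported in an open, and proper supports
-/

set_option autoImplicit false
set_option linter.style.haveILetI false
set_option linter.unusedSectionVars false
set_option backward.isDefEq.respectTransparency false
set_option backward.isDefEq.respectTransparency.types false

universe u

open CategoryTheory CategoryTheory.Limits AlgebraicGeometry Opposite

namespace Groth.Agent.PBC24

open Groth.Agent.EtStalk
open Groth.Agent.EtAcyc24 (bijective_comp_iso)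

/-- Sheaves supported in an open of dimension at most `n` of a proper scheme. -/
theorem subsingleton_H_supp_open (hBC : ProperBC.{u}) {k : Type u} [Field k] [IsAlgClosed k] {P : Scheme.{u}}
    (a : P ⟶ Spec (CommRingCat.of k)) [IsProper a] (U : P.Opens) (n : ℕ) (hU : ∀ u ∈ U, VarDim.sdim a u ≤ n)
    (G : EtCoh.Ab P) (hG : EtCoh.IsTorsion G)
    (hzero : ∀ (Ω : Type u) [Field Ω] [IsSepClosed Ω] (ξ : Spec (CommRingCat.of Ω) ⟶ P),
      ξ (default : Spec (CommRingCat.of Ω)) ∉ U → IsZero ((EtCoh.stalk ξ).obj G))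
    {q : ℕ} (hq : 2 * n < q) : Subsingleton (EtCoh.H P G q) := by
  haveI : IsLocallyNoetherian P := LocallyOfFiniteType.isLocallyNoetherian a
  haveI : CompactSpace P := QuasiCompact.compactSpace_of_compactSpace a
  haveI : IsNoetherian P := ⟨⟩
  obtain ⟨Z, i, hi, hri⟩ : ∃ (Z : Scheme.{u}) (i : Z ⟶ P) (_ : IsClosedImmersion i),
      Set.range i.base = closure (U : Set P) :=
    ⟨_, _, inferInstance, (Scheme.IdealSheafData.range_subschemeι _).trans
      (Scheme.IdealSheafData.coe_support_vanishingIdeal (Z := ⟨closure (U : Set P), isClosed_closure⟩))⟩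
  haveI : TopologicalSpace.NoetherianSpace ((U : Scheme.{u}) : Type u) :=
    inferInstanceAs (TopologicalSpace.NoetherianSpace (U : Set P))
  have hgen : (genericPoints ((U : Scheme.{u}) : Type u)).Finite :=
    genericPoints.finite TopologicalSpace.NoetherianSpace.finite_irreducibleComponents
  have hcl : closure (U : Set P) ⊆ ⋃ g ∈ genericPoints ((U : Scheme.{u}) : Type u), closure {U.ι g} := by
    refine closure_minimal (fun u hu => ?_) (hgen.isClosed_biUnion fun g _ => isClosed_closure)
    let η := genericPoints.ofComponent (⟨irreducibleComponent (⟨u, hu⟩ : U),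
      irreducibleComponent_mem_irreducibleComponents _⟩ : irreducibleComponents ((U : Scheme.{u}) : Type u))
    have hs : η.1 ⤳ ⟨u, hu⟩ := (genericPoints.isGenericPoint_ofComponent _).specializes mem_irreducibleComponent
    exact Set.mem_biUnion η.2 ((hs.map U.ι.continuous).mem_closure)
  have hZd : ∀ z : Z, VarDim.sdim (i ≫ a) z < n + 1 := fun z => by
    obtain ⟨g, -, hg⟩ := Set.mem_iUnion₂.1 (hcl (hri.subset ⟨z, rfl⟩))
    have hg2 := hU _ g.2
    have hs : U.ι g ⤳ i z := specializes_iff_mem_closure.2 hg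
    rw [VarDim.sdim_comp_of_surjective]
    rcases eq_or_ne (U.ι g) (i z) with he | hne
    · rw [← he]
      exact Nat.lt_succ_of_le hg2
    · exact lt_of_lt_of_le (VarDim.sdim_lt_of_specializes a hs hne) (Nat.le_succ_of_le hg2)
  haveI := preservesFiniteLimits_pull i
  haveI : Subsingleton (EtCoh.H Z ((EtCoh.pull i).obj G) q) :=
    subsingleton_H_proper hBC (n + 1) (i ≫ a) hZd _ (FieldBr3.isTorsion_pull' i hG) q (by omega)
  haveI : Subsingleton (EtCoh.H P ((EtCoh.pull i ⋙ EtCoh.push i).obj G) q) :=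
    (bijective_HofPush i q _ fun m hm => FieldH25.isZero_Rpush_integral i _ m hm).1.subsingleton
  haveI : IsIso ((EtCoh.pullPushAdj i).unit.app G) := isIso_unit_integral i G fun x hx => by
    obtain ⟨Ω, _, _, ξ, hξ, hne⟩ := hx
    refine hri.symm.subset (subset_closure ?_)
    have : ξ (default : Spec (CommRingCat.of Ω)) = x := hξ.subset ⟨_, rfl⟩
    rw [← this]
    exact Classical.not_not.1 fun h => hne (hzero Ω ξ h)
  exact (bijective_comp_iso (asIso ((EtCoh.pullPushAdj i).unit.app G)) q).1.subsingleton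

/-- The geometric fibres have at most the dimension of the fibres. -/
theorem sdim_le_of_fibre {X Y : Scheme.{u}} (f : X ⟶ Y) [LocallyOfFiniteType f] (n : ℕ)
    (hdim : ∀ y : Y, topologicalKrullDim (f.fiber y) ≤ n) {K : Type u} [Field K]
    (ξ : Spec (CommRingCat.of K) ⟶ Y) {W : Scheme.{u}} {r : W ⟶ X} {t : W ⟶ Spec (CommRingCat.of K)}
    (sq : IsPullback r t f ξ) (w : W) : VarDim.sdim t w ≤ n := by
  haveI : LocallyOfFiniteType t := MorphismProperty.of_isPullback sq inferInstance
  let y := ξ (IsLocalRing.closedPoint K)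
  let φ := Y.descResidueField (Scheme.stalkClosedPointTo ξ)
  have hξ : Spec.map φ ≫ Y.fromSpecResidueField y = ξ :=
    Scheme.descResidueField_stalkClosedPointTo_fromSpecResidueField K Y ξ
  let l : W ⟶ f.fiber y := pullback.lift r (t ≫ Spec.map φ) (by rw [Category.assoc, hξ]; exact sq.w)
  have h1 : IsPullback l t (f.fiberToSpecResidueField y) (Spec.map φ) :=
    IsPullback.of_right (t := IsPullback.of_hasPullback f (Y.fromSpecResidueField y))
      (by rw [pullback.lift_fst, hξ]; exact sq) (pullback.lift_snd _ _ _)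
  haveI : LocallyOfFiniteType (f.fiberToSpecResidueField y) :=
    inferInstanceAs (LocallyOfFiniteType (pullback.snd f (Y.fromSpecResidueField y)))
  have hle : topologicalKrullDim W ≤ (n : WithBot ℕ∞) :=
    (topologicalKrullDim_le_of_isPullback φ h1).trans (hdim y)
  rw [VarDim.dim_eq_iSup_sdim t] at hle
  exact_mod_cast (le_iSup (fun x : W => ((VarDim.sdim t x : ℕ) : WithBot ℕ∞)) w).trans hle

/-- Direct images with proper support vanish above twice the fibre dimension. -/
theorem isZero_Rpush_extZero (hBC : ProperBC.{u}) {X P S : Scheme.{u}} (j : X ⟶ P) [IsOpenImmersion j]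
    [EtShriek.JCont j] (p : P ⟶ S) [IsProper p] (d : ℕ) (hdim : ∀ s : S, topologicalKrullDim ((j ≫ p).fiber s) ≤ d)
    (F : EtCoh.Ab X) (hF : EtCoh.IsTorsion F) (i : ℕ) (hi : 2 * d < i) :
    IsZero ((EtCoh.Rpush p i).obj ((EtShriek.extZero j).obj F)) := by
  have hT : EtCoh.IsTorsion ((EtShriek.extZero j).obj F) := isTorsion_extZero j hF
  refine isZero_Rpush_of_fibres hBC p _ hT i fun Ω _ _ ξ => ?_
  let t := pullback.snd p ξ
  let σ := Spec.map (CommRingCat.ofHom (algebraMap Ω (AlgebraicClosure Ω)))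
  let m := pullback.fst t σ
  let G := (EtCoh.pull (pullback.fst p ξ)).obj ((EtShriek.extZero j).obj F)
  haveI := preservesFiniteLimits_pull m
  suffices Subsingleton (EtCoh.H (pullback t σ) ((EtCoh.pull m).obj G) i) from
    (bijective_Hpull_algClosure (IsPullback.of_hasPullback t σ) G i).1.subsingleton
  let e := m ≫ pullback.fst p ξ
  have sq : IsPullback e (pullback.snd t σ) p (σ ≫ ξ) :=
    (IsPullback.of_hasPullback t σ).paste_horiz (IsPullback.of_hasPullback p ξ)
  let U := e ⁻¹ᵁ j.opensRange
  have hsq2 : IsPullback ((e ∣_ j.opensRange) ≫ j.isoOpensRange.inv) (U.ι ≫ pullback.snd t σ) (j ≫ p) (σ ≫ ξ) := by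
    have h1 := (isPullback_morphismRestrict e j.opensRange).paste_vert sq
    refine IsPullback.of_iso h1 (Iso.refl _) j.isoOpensRange.symm (Iso.refl _) (Iso.refl _) ?_ ?_ ?_ ?_
    · simp
    · simp [U]
    · simp
    · simp
  refine subsingleton_H_supp_open hBC (pullback.snd t σ) U d (fun u hu => ?_) _
    (FieldBr3.isTorsion_pull' m (FieldBr3.isTorsion_pull' _ hT)) (fun K _ _ ζ hζ => ?_) hi
  · have := sdim_le_of_fibre (j ≫ p) d hdim (σ ≫ ξ) hsq2 ⟨u, hu⟩
    rwa [VarDim.sdim_comp_of_surjective] at this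
  · refine isZero_stalk_pull m G ζ (isZero_stalk_pull _ _ _ (stalk_extZero_isZero j F _ fun hr => hζ ?_))
    change e (ζ default) ∈ j.opensRange
    simp only [e, Scheme.Hom.comp_apply] at hr ⊢
    exact hr
where
  isTorsion_extZero {X P : Scheme.{u}} (j : X ⟶ P) [IsOpenImmersion j] [EtShriek.JCont j] {F : EtCoh.Ab X}
      (hF : EtCoh.IsTorsion F) : EtCoh.IsTorsion ((EtShriek.extZero j).obj F) := by
    refine FieldBr3.isTorsion_of_stalk _ fun Ω _ _ ξ z => ?_
    by_cases h : ξ (default : Spec (CommRingCat.of Ω)) ∈ Set.range j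
    · obtain ⟨ζ, rfl⟩ := exists_lift_point_open j ξ h
      haveI : IsIso ((EtShriek.extZeroAdj j).unit.app F) := inferInstance
      let e : (EtCoh.pull j).obj ((EtShriek.extZero j).obj F) ≅ F :=
        ((restrPullIso j).app _).symm ≪≫ (asIso ((EtShriek.extZeroAdj j).unit.app F)).symm
      let s : (EtCoh.stalk (ζ ≫ j)).obj ((EtShriek.extZero j).obj F) ≅ (EtCoh.stalk ζ).obj F :=
        asIso (stalkPull j ζ _) ≪≫ (EtCoh.stalk ζ).mapIso e
      have hz := FieldBr3.isOfFinAddOrder_stalk F hF ζ (s.hom z)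
      have hz' := AddMonoidHom.isOfFinAddOrder s.inv.hom hz
      rwa [show s.inv.hom (s.hom z) = z from s.hom_inv_id_apply z] at hz'
    · have := AddCommGrpCat.subsingleton_of_isZero (stalk_extZero_isZero j F ξ h)
      rw [@Subsingleton.elim _ this z 0]
      exact IsOfFinAddOrder.zero

end Groth.Agent.PBC24
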