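import Groth.Agent.Lib.PBC24.CdSupp
import Groth.Agent.Lib.Constr24.Filtration

/-!
# Cohomological dimension for sheaves supported in a locally closed subscheme
-/

set_option autoImplicit false
set_option linter.style.haveILetI false
set_option linter.unusedSectionVars false
set_option backward.isDefEq.respectTransparency false
set_option backward.isDefEq.respectTransparency.types false

universe u

open CategoryTheory CategoryTheory.Limits AlgebraicGeometry Opposite

namespace Groth.Agent.PBC24

open Groth.Agent.EtStalk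
open Groth.Agent.EtAcyc24 (bijective_comp_iso)

/-- Sheaves supported in a locally closed subscheme of dimension at most `n` of a proper scheme. -/
theorem subsingleton_H_supp_immersion (hBC : ProperBC.{u}) {k : Type u} [Field k] [IsAlgClosed k] {P : Scheme.{u}}
    (a : P ⟶ Spec (CommRingCat.of k)) [IsProper a] {W : Scheme.{u}} (k' : W ⟶ P) [IsImmersion k'] (n : ℕ) (hU : ∀ w : W, VarDim.sdim a (k' w) ≤ n)
    (G : EtCoh.Ab P) (hG : EtCoh.IsTorsion G)
    (hzero : ∀ (Ω : Type u) [Field Ω] [IsSepClosed Ω] (ξ : Spec (CommRingCat.of Ω) ⟶ P),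
      ξ (default : Spec (CommRingCat.of Ω)) ∉ Set.range k' → IsZero ((EtCoh.stalk ξ).obj G))
    {q : ℕ} (hq : 2 * n < q) : Subsingleton (EtCoh.H P G q) := by
  haveI : IsLocallyNoetherian P := LocallyOfFiniteType.isLocallyNoetherian a
  haveI : CompactSpace P := QuasiCompact.compactSpace_of_compactSpace a
  haveI : IsNoetherian P := ⟨⟩
  obtain ⟨Z, i, hi, hri⟩ : ∃ (Z : Scheme.{u}) (i : Z ⟶ P) (_ : IsClosedImmersion i),
      Set.range i.base = closure (Set.range k') :=
    ⟨_, _, inferInstance, (Scheme.IdealSheafData.range_subschemeι _).trans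
      (Scheme.IdealSheafData.coe_support_vanishingIdeal (Z := ⟨closure (Set.range k'), isClosed_closure⟩))⟩
  haveI : TopologicalSpace.NoetherianSpace W := k'.isEmbedding.isInducing.noetherianSpace
  have hgen : (genericPoints (W : Type u)).Finite :=
    genericPoints.finite TopologicalSpace.NoetherianSpace.finite_irreducibleComponents
  have hcl : closure (Set.range k') ⊆ ⋃ g ∈ genericPoints (W : Type u), closure {k' g} := by
    refine closure_minimal ?_ (hgen.isClosed_biUnion fun g _ => isClosed_closure)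
    rintro _ ⟨v, rfl⟩
    let η := genericPoints.ofComponent (⟨irreducibleComponent v,
      irreducibleComponent_mem_irreducibleComponents _⟩ : irreducibleComponents (W : Type u))
    have hs : η.1 ⤳ v := (genericPoints.isGenericPoint_ofComponent _).specializes mem_irreducibleComponent
    exact Set.mem_biUnion η.2 ((hs.map k'.continuous).mem_closure)
  have hZd : ∀ z : Z, VarDim.sdim (i ≫ a) z < n + 1 := fun z => by
    obtain ⟨g, -, hg⟩ := Set.mem_iUnion₂.1 (hcl (hri.subset ⟨z, rfl⟩))
    have hg2 := hU g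
    have hs : k' g ⤳ i z := specializes_iff_mem_closure.2 hg
    rw [VarDim.sdim_comp_of_surjective]
    rcases eq_or_ne (k' g) (i z) with he | hne
    · rw [← he]
      exact Nat.lt_succ_of_le hg2
    · exact lt_of_lt_of_le (VarDim.sdim_lt_of_specializes a hs hne) (Nat.le_succ_of_le hg2)
  haveI := preservesFiniteLimits_pull i
  haveI : Subsingleton (EtCoh.H Z ((EtCoh.pull i).obj G) q) :=
    subsingleton_H_proper hBC (n + 1) (i ≫ a) hZd _ (FieldBr3.isTorsion_pull' i hG) q (by omega)
  haveI : Subsingleton (EtCoh.H P ((EtCoh.pull i ⋙ EtCoh.push i).obj G) q) :=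
    (bijective_HofPush i q _ fun m hm => FieldH25.isZero_Rpush_integral i _ m hm).1.subsingleton
  haveI : IsIso ((EtCoh.pullPushAdj i).unit.app G) := isIso_unit_integral i G fun x hx => by
    obtain ⟨Ω, _, _, ξ, hξ, hne⟩ := hx
    refine hri.symm.subset (subset_closure ?_)
    have : ξ (default : Spec (CommRingCat.of Ω)) = x := hξ.subset ⟨_, rfl⟩
    rw [← this]
    exact Classical.not_not.1 fun h => hne (hzero Ω ξ h)
  exact (bijective_comp_iso (asIso ((EtCoh.pullPushAdj i).unit.app G)) q).1.subsingleton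

/-- Proper supports of a sheaf supported on a closed subscheme vanish above twice its fibre dimension. -/
theorem isZero_Rpush_extZero_push (hBC : ProperBC.{u}) {Z X P S : Scheme.{u}} (i : Z ⟶ X) [IsClosedImmersion i]
    (j : X ⟶ P) [IsOpenImmersion j] [EtShriek.JCont j] (p : P ⟶ S) [IsProper p] (d : ℕ)
    (hdim : ∀ s : S, topologicalKrullDim ((i ≫ j ≫ p).fiber s) ≤ d)
    (H : EtCoh.Ab Z) (hH : EtCoh.IsTorsion ((EtCoh.push i).obj H)) (q : ℕ) (hq : 2 * d < q) :
    IsZero ((EtCoh.Rpush p q).obj ((EtShriek.extZero j).obj ((EtCoh.push i).obj H))) := by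
  let F := (EtCoh.push i).obj H
  have hT : EtCoh.IsTorsion ((EtShriek.extZero j).obj F) := isZero_Rpush_extZero.isTorsion_extZero j hH
  refine isZero_Rpush_of_fibres hBC p _ hT q fun Ω _ _ ξ => ?_
  let t := pullback.snd p ξ
  let σ := Spec.map (CommRingCat.ofHom (algebraMap Ω (AlgebraicClosure Ω)))
  let m := pullback.fst t σ
  let G := (EtCoh.pull (pullback.fst p ξ)).obj ((EtShriek.extZero j).obj F)
  haveI := preservesFiniteLimits_pull m
  suffices Subsingleton (EtCoh.H (pullback t σ) ((EtCoh.pull m).obj G) q) from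
    (bijective_Hpull_algClosure (IsPullback.of_hasPullback t σ) G q).1.subsingleton
  let e := m ≫ pullback.fst p ξ
  have sq : IsPullback e (pullback.snd t σ) p (σ ≫ ξ) :=
    (IsPullback.of_hasPullback t σ).paste_horiz (IsPullback.of_hasPullback p ξ)
  let k' := pullback.snd (i ≫ j) e
  have hsq2 : IsPullback (pullback.fst (i ≫ j) e) (k' ≫ pullback.snd t σ) (i ≫ j ≫ p) (σ ≫ ξ) := by
    rw [← Category.assoc]
    exact (IsPullback.of_hasPullback (i ≫ j) e).paste_vert sq
  refine subsingleton_H_supp_immersion hBC (pullback.snd t σ) k' d (fun w => ?_) _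
    (FieldBr3.isTorsion_pull' m (FieldBr3.isTorsion_pull' _ hT)) (fun K _ _ ζ hζ => ?_) hq
  · have := sdim_le_of_fibre (i ≫ j ≫ p) d hdim (σ ≫ ξ) hsq2 w
    rwa [VarDim.sdim_comp_of_surjective] at this
  · refine isZero_stalk_pull m G ζ (isZero_stalk_pull _ _ _ ?_)
    have hout : ((ζ ≫ m) ≫ pullback.fst p ξ) (default : Spec (CommRingCat.of K)) ∉ Set.range (i ≫ j) := fun h => hζ (by
      rw [Scheme.Pullback.range_snd]
      simpa [e] using h)
    by_cases h : ((ζ ≫ m) ≫ pullback.fst p ξ) (default : Spec (CommRingCat.of K)) ∈ Set.range j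
    · obtain ⟨η, hη⟩ := exists_lift_point_open j _ h
      rw [← hη] at hout ⊢
      haveI : IsIso ((EtShriek.extZeroAdj j).unit.app F) := inferInstance
      let e' : (EtCoh.pull j).obj ((EtShriek.extZero j).obj F) ≅ F :=
        ((restrPullIso j).app _).symm ≪≫ (asIso ((EtShriek.extZeroAdj j).unit.app F)).symm
      let s : (EtCoh.stalk (η ≫ j)).obj ((EtShriek.extZero j).obj F) ≅ (EtCoh.stalk η).obj F :=
        asIso (stalkPull j η _) ≪≫ (EtCoh.stalk η).mapIso e'
      refine IsZero.of_iso (stalk_push_isZero i H η fun ⟨z, hz⟩ => hout ⟨z, ?_⟩) s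
      show j (i z) = (η ≫ j) (default : Spec (CommRingCat.of K))
      rw [hz]
      rfl
    · exact stalk_extZero_isZero j F _ h

end Groth.Agent.PBC24
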