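import Groth.Agent.Lib.PBC24.Reductions
import Groth.Agent.Lib.HensProper6.Apps
import Groth.Agent.Lib.AffAnalog24.Main
import Groth.Agent.Lib.FieldH25.Transfer

/-!
# The closed subscheme of a proper henselian couple
-/

set_option autoImplicit false
set_option linter.style.haveILetI false
set_option backward.isDefEq.respectTransparency false
set_option backward.isDefEq.respectTransparency.types false

universe u

open CategoryTheory CategoryTheory.Limits AlgebraicGeometry Opposite CategoryTheory.Abelian

namespace Groth.Agent.PBC24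

/-- Pullback along an integral morphism is bijective exactly when the unit is on cohomology. -/
theorem bijective_Hpull_iff_unit {Z X : Scheme.{u}} (i : Z ⟶ X) [IsIntegralHom i]
    [PreservesFiniteLimits (EtCoh.pull i)] (F : EtCoh.Ab X) (q : ℕ) :
    Function.Bijective (EtCore.Hpull i F q) ↔
      Function.Bijective (Sheaf.H.map ((EtCoh.pullPushAdj i).unit.app F) q) := by
  have hb := FieldH25.bijective_HofPush_integral i ((EtCoh.pull i).obj F) q
  have e : ⇑(EtCore.Hpull i F q) = EtLim.HofPush i ((EtCoh.pull i).obj F) q ∘
      fun x : EtCoh.H X F q => x.comp (Ext.mk₀ ((EtCoh.pullPushAdj i).unit.app F)) (add_zero q) :=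
    funext fun x => (FieldH25.HofPush_unit i F q x).symm
  rw [e]
  exact (Function.Bijective.of_comp_iff' hb _)

/-- The closed subscheme of an affine henselian couple. -/
theorem compN_henselianPair (A : Type u) [CommRing A] (I : Ideal A) [HenselianRing A I] (n : ℕ) :
    EtAcyc.CompN (Spec.map (CommRingCat.ofHom (Ideal.Quotient.mk I))) Set.univ n := fun F hF _ => by
  haveI : IsClosedImmersion (Spec.map (CommRingCat.ofHom (Ideal.Quotient.mk I))) :=
    IsClosedImmersion.spec_of_surjective _ Ideal.Quotient.mk_surjective
  have h : ∀ q, Function.Bijective (EtCore.Hpull (Spec.map (CommRingCat.ofHom (Ideal.Quotient.mk I))) F q) := fun q =>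
    (bijective_Hpull_iff_unit _ F q).2 (AffAnalog24.bijective_of_henselian A I F (isTorsion_of_isLTorsion hF) q)
  exact ⟨fun q _ => h q, (h (n + 1)).1⟩

/-- Cohomology of a proper henselian couple (S17967). -/
theorem bijective_unit_proper_couple (hBC : ProperBC.{u}) {A : Type u} [CommRing A] [IsNoetherianRing A] (I : Ideal A)
    {X : Scheme.{u}} (f : X ⟶ Spec (CommRingCat.of A)) [IsProper f]
    (hX : ∀ (Y : Scheme.{u}) (g : Y ⟶ X), IsFinite g →
      ∀ V : Set ↥(pullback g (pullback.fst f (Spec.map (CommRingCat.ofHom (Ideal.Quotient.mk I))))), IsClopen V →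
        ∃! U : Set ↥Y, IsClopen U ∧ (pullback.fst g (pullback.fst f (Spec.map (CommRingCat.ofHom (Ideal.Quotient.mk I))))).base ⁻¹' U = V)
    (F : EtCoh.Ab X) (hF : EtCoh.IsTorsion F) (q : ℕ) :
    Function.Bijective
      (Sheaf.H.map ((EtCoh.pullPushAdj (pullback.fst f (Spec.map (CommRingCat.ofHom (Ideal.Quotient.mk I))))).unit.app F) q) := by
  obtain ⟨A', _, I', _, _, f', _, t, hsq⟩ := HensProper6.exists_proper_over_henselian I f hX
  haveI : CompactSpace X := QuasiCompact.compactSpace_of_compactSpace f
  haveI : QuasiSeparatedSpace X := quasiSeparatedSpace_of_quasiSeparated f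
  haveI : IsClosedImmersion (Spec.map (CommRingCat.ofHom (Ideal.Quotient.mk I))) :=
    IsClosedImmersion.spec_of_surjective _ Ideal.Quotient.mk_surjective
  let i := pullback.fst f (Spec.map (CommRingCat.ofHom (Ideal.Quotient.mk I)))
  haveI : IsClosedImmersion i := MorphismProperty.pullback_fst _ _ inferInstance
  exact (bijective_Hpull_iff_unit i F q).1
    (bijective_Hpull_of_hasBC (hBC f' inferInstance) hsq (compN_henselianPair A' I') hF q)

end Groth.Agent.PBC24
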