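import Groth.Prelude.Def_EtAcyc
import Groth.Agent.Lib.EtStalk.FiniteBC

/-!
# Predicates for proper base change

`ClCompN f` : for `f : X ⟶ Spec A`, `A` local, pullback to the closed fibre is bijective on the cohomology of
every torsion sheaf in every degree.  `PBCProp f` : this holds for all base changes of `f` to spectra of strictly
henselian local rings.
-/

set_option autoImplicit false
universe u

open CategoryTheory CategoryTheory.Limits AlgebraicGeometry Opposite IsLocalRing

namespace Groth.Agent.PBC24

/-- The inclusion of the closed fibre. -/
noncomputable abbrev closedIncl {A : Type u} [CommRing A] [IsLocalRing A] {X : Scheme.{u}}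
    (f : X ⟶ Spec (CommRingCat.of A)) :
    pullback f (Spec.map (CommRingCat.ofHom (residue A))) ⟶ X :=
  pullback.fst f (Spec.map (CommRingCat.ofHom (residue A)))

/-- Cohomology of torsion sheaves is that of the closed fibre. -/
def ClCompN {A : Type u} [CommRing A] [IsLocalRing A] {X : Scheme.{u}} (f : X ⟶ Spec (CommRingCat.of A)) : Prop :=
  ∀ (L : Set ℕ) (n : ℕ), EtAcyc.CompN (closedIncl f) L n

/-- The comparison with the closed fibre over every strictly henselian base. -/
def PBCProp {X S : Scheme.{u}} (f : X ⟶ S) : Prop :=
  ∀ (A : Type u) [CommRing A] [HenselianLocalRing A] [IsSepClosed (ResidueField A)]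
    (σ : Spec (CommRingCat.of A) ⟶ S), ClCompN (pullback.snd f σ)

end Groth.Agent.PBC24
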