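import Groth.Agent.Lib.FieldBr3.CurveTor
import Groth.Agent.Lib.EtStalk.OpenImm
import Groth.Agent.Lib.EtStalk.JCont

/-!
# Extension by zero of torsion sheaves
-/

set_option autoImplicit false
set_option linter.style.haveILetI false
set_option backward.isDefEq.respectTransparency.types false
universe u

open CategoryTheory CategoryTheory.Limits AlgebraicGeometry
open Groth.Agent.EtStalk Groth.Agent.FieldBr3

namespace Groth.Agent.PBC24

/-- Extension by zero along an open immersion preserves torsion sheaves. -/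
theorem isTorsion_extZero {U X : Scheme.{u}} (j : U ⟶ X) [IsOpenImmersion j] {F : EtCoh.Ab U}
    (hF : EtCoh.IsTorsion F) : EtCoh.IsTorsion ((EtShriek.extZero j).obj F) :=
  isTorsion_of_stalk _ fun Ω _ _ ξ p => by
    by_cases h : ξ (default : Spec (CommRingCat.of Ω)) ∈ Set.range j
    · obtain ⟨ζ, rfl⟩ := exists_lift_point_open j ξ h
      haveI := isIso_extZero_unit j
      let e : F ≅ (EtCoh.pull j).obj ((EtShriek.extZero j).obj F) :=
        asIso ((EtShriek.extZeroAdj j).unit.app F) ≪≫ (restrPullIso j).app _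
      obtain ⟨q, hq⟩ := (ConcreteCategory.bijective_of_isIso
        (((EtCoh.stalk ζ).mapIso e).hom ≫ inv (stalkPull j ζ ((EtShriek.extZero j).obj F)))).2 p
      rw [← hq]
      exact AddMonoidHom.isOfFinAddOrder _ (isOfFinAddOrder_stalk F hF ζ q)
    · haveI := AddCommGrpCat.subsingleton_of_isZero (stalk_extZero_isZero j F ξ h)
      rw [Subsingleton.elim p 0]
      exact IsOfFinAddOrder.zero

/-- A sheaf killed by a positive integer is torsion. -/
theorem isTorsion_of_killedBy {X : Scheme.{u}} {F : EtCoh.Ab X} {n : ℕ} (hn : 0 < n) (h : EtCoh.KilledBy n F) :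
    EtCoh.IsTorsion F := fun U s x =>
  ⟨U, 𝟙 U, ⟨x, rfl⟩, isOfFinAddOrder_iff_nsmul_eq_zero.2 ⟨n, hn, h U _⟩⟩

end Groth.Agent.PBC24
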