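import Groth.Agent.Lib.PBC24.Proper
import Groth.Agent.Lib.PBC24.Reductions
import Groth.Agent.Lib.PBC24.BCQ

/-!
# Base change for proper morphisms from its two inputs
-/

set_option autoImplicit false
universe u

open CategoryTheory AlgebraicGeometry

namespace Groth.Agent.PBC24

/-- Base change isomorphisms for all proper morphisms. -/
theorem properBC_of (hT : BCQHyp.{u}) (hL : ProjLineHyp.{u}) : ProperBC.{u} :=
  fun X S f hf X' S' f' g g' h F hF q =>
    haveI := hf
    hT g f (pbcProp_of_isProper' hT hL f) f' g' h F hF q

/-- Base change isomorphisms for all proper morphisms from the comparison for the projective line. -/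
theorem properBC_of_projLine (hL : ProjLineHyp.{u}) : ProperBC.{u} :=
  properBC_of
    (fun {_ _ _ _} f g _ _ hg h e c _ F hF q => isIso_bcQ_of_pbcProp f g hg h e c F hF q) hL

end Groth.Agent.PBC24
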