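import Groth.Agent.Lib.EtPic3.Compare
import Groth.Agent.Lib.EtPic3.PushPoint

/-!
# Functoriality of the injective presentation of `G_m`
-/

set_option autoImplicit false
set_option linter.style.haveILetI false
set_option backward.isDefEq.respectTransparency.types false
universe u

open CategoryTheory CategoryTheory.Limits AlgebraicGeometry Opposite CategoryTheory.Abelian

noncomputable section

namespace Groth.Agent.PBC24

open Groth.Agent.EtPic3

variable {W Z : Scheme.{u}} (i : Z ⟶ W) [PreservesFiniteLimits (EtCoh.pull i)]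

instance : Injective ((EtCoh.push i).obj (seq Z).X₂) := EtStalk.injective_push i _

/-- The map of injective sheaves. -/
def gmτ₂ : (seq W).X₂ ⟶ (EtCoh.push i).obj (seq Z).X₂ :=
  @Injective.factorThru _ _ _ (EtCoh.Gm W) (seq W).X₂ (inferInstance)
    (EtLim.GmPush i ≫ (EtCoh.push i).map (seq Z).f) (seq W).f (inferInstanceAs (Mono (seq W).f))

theorem f_gmτ₂ : (seq W).f ≫ gmτ₂ i = EtLim.GmPush i ≫ (EtCoh.push i).map (seq Z).f := by
  unfold gmτ₂
  haveI : @Mono (EtCoh.Ab W) _ (EtCoh.Gm W) (seq W).X₂ (seq W).f := inferInstanceAs (Mono (seq W).f)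
  exact Injective.comp_factorThru _ _

/-- The map of quotients. -/
def gmτ₃ : (seq W).X₃ ⟶ (EtCoh.push i).obj (seq Z).X₃ :=
  cokernel.desc (Injective.ι (EtCoh.Gm W)) (gmτ₂ i ≫ (EtCoh.push i).map (seq Z).g) (by
    show (seq W).f ≫ gmτ₂ i ≫ _ = 0
    haveI : (EtCoh.push i).Additive := (EtCoh.pullPushAdj i).right_adjoint_additive
    refine (reassoc_of% f_gmτ₂ i) ((EtCoh.push i).map (seq Z).g) |>.trans ?_
    exact (congrArg (EtLim.GmPush i ≫ ·) (((EtCoh.push i).map_comp (seq Z).f (seq Z).g).symm.trans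
      ((congrArg (EtCoh.push i).map (seq Z).zero).trans ((EtCoh.push i).map_zero _ _)))).trans comp_zero)

theorem g_gmτ₃ : (seq W).g ≫ gmτ₃ i = gmτ₂ i ≫ (EtCoh.push i).map (seq Z).g :=
  cokernel.π_desc _ _ _

/-- The image of a global section of the quotient. -/
def pullQ : (seq W).X₃.obj.obj (op (EtCoh.top W)) →+ (seq Z).X₃.obj.obj (op (EtCoh.top Z)) :=
  ((seq Z).X₃.obj.map (EtCore.bcTopIso i).inv.op).hom.comp ((gmτ₃ i).hom.app (op (EtCoh.top W))).hom

/-- The adjunct of a morphism out of `ℤ`, on global sections. -/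
theorem evalOne_adjunct {G : EtCoh.Ab Z} (v : EtCoh.const W ℤ ⟶ (EtCoh.push i).obj G) :
    evalOne ((EtCore.pullConst i ℤ).inv ≫ (EtCoh.pull i).map v ≫ (EtCoh.pullPushAdj i).counit.app G) =
      G.obj.map (EtCore.bcTopIso i).inv.op (evalOne v) := by
  rw [← Category.assoc, evalOne_comp, evalOne_pullConst, app_natural]
  refine congrArg (G.obj.map (EtCore.bcTopIso i).inv.op) ?_
  exact congrArg (fun t : (EtCoh.push i).obj G ⟶ (EtCoh.push i).obj G => t.hom.app (op (EtCoh.top W)) (evalOne v))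
    ((EtCoh.pullPushAdj i).right_triangle_components G)

/-- The edge map in degree zero. -/
theorem HofPush_mk₀ (G : EtCoh.Ab Z) (v : EtCoh.const W ℤ ⟶ (EtCoh.push i).obj G) :
    EtLim.HofPush i G 0 (Ext.mk₀ v) = Ext.mk₀ ((EtCore.pullConst i ℤ).inv ≫ (EtCoh.pull i).map v ≫
      (EtCoh.pullPushAdj i).counit.app G) := by
  rw [EtStalk.HofPush_apply, Ext.mapExactFunctor_mk₀, Ext.mk₀_comp_mk₀, Ext.mk₀_comp_mk₀, Category.assoc]

set_option maxHeartbeats 1600000 in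
/-- Pullback of `H¹(G_m)` in terms of sections of the quotient. -/
theorem HGmPull_Λ (s : (seq W).X₃.obj.obj (op (EtCoh.top W))) :
    EtLim.HGmPull i 1 (Λ s) = Λ (pullQ i s) := by
  haveI : (EtCoh.push i).IsRightAdjoint := (EtCoh.pullPushAdj i).isRightAdjoint
  haveI : (EtCoh.push i).Additive := (EtCoh.pullPushAdj i).right_adjoint_additive
  haveI : PreservesLimitsOfSize.{0, 0} (EtCoh.push i) := (EtCoh.pullPushAdj i).rightAdjoint_preservesLimits
  haveI : PreservesFiniteLimits (EtCoh.push i) := PreservesLimitsOfSize.preservesFiniteLimits _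
  haveI := (seq_shortExact Z).mono_f
  let a := (EtCoh.push i).map (seq Z).f
  haveI : Mono a := inferInstanceAs (Mono ((EtCoh.push i).map (seq Z).f))
  let T := ShortComplex.mk a (cokernel.π a) (cokernel.condition _)
  have hT : T.ShortExact := { exact := ShortComplex.exact_cokernel a }
  let κ : T.X₃ ⟶ (EtCoh.push i).obj (seq Z).X₃ := cokernel.desc a ((EtCoh.push i).map (seq Z).g)
    (by rw [← Functor.map_comp, (seq Z).zero, Functor.map_zero])
  have hκ : T.g ≫ κ = (EtCoh.push i).map (seq Z).g := cokernel.π_desc _ _ _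
  let τ₃ : (seq W).X₃ ⟶ T.X₃ := cokernel.desc (Injective.ι (EtCoh.Gm W)) (gmτ₂ i ≫ T.g) (by
    show (seq W).f ≫ gmτ₂ i ≫ _ = 0
    rw [reassoc_of% f_gmτ₂ i]
    exact (congrArg (EtLim.GmPush i ≫ ·) T.zero).trans comp_zero)
  have hτ : τ₃ ≫ κ = gmτ₃ i := by
    haveI : Epi (cokernel.π (Injective.ι (EtCoh.Gm W))) := inferInstance
    refine (cancel_epi (cokernel.π (Injective.ι (EtCoh.Gm W)))).1 ?_
    refine (cokernel.π_desc_assoc (Injective.ι (EtCoh.Gm W)) (gmτ₂ i ≫ T.g) _ κ).trans ?_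
    refine ((Category.assoc _ _ _).trans (congrArg (gmτ₂ i ≫ ·) hκ)).trans ?_
    exact (g_gmτ₃ i).symm
  let φ : seq W ⟶ T :=
    { τ₁ := EtLim.GmPush i
      τ₂ := gmτ₂ i
      τ₃ := τ₃
      comm₁₂ := (f_gmτ₂ i).symm
      comm₂₃ := (cokernel.π_desc (Injective.ι (EtCoh.Gm W)) (gmτ₂ i ≫ T.g) _).symm }
  obtain ⟨w, hw, hws⟩ := evalOne_mk₀ s
  obtain ⟨w', hw', hws'⟩ := evalOne_mk₀ (pullQ i s)
  have e1 : (EtCoh.HF W 1).map (EtLim.GmPush i) (Λ s) =
      (Ext.mk₀ (w ≫ τ₃)).comp hT.extClass (zero_add 1) := by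
    show (((Sheaf.H.equiv₀ (seq W).X₃ (EtCore.topIsTerminal W)).symm s).comp
      (seq_shortExact W).extClass (zero_add 1)).comp (Ext.mk₀ (EtLim.GmPush i)) (add_zero 1) = _
    rw [hw]
    refine (Ext.comp_assoc_of_third_deg_zero _ _ _ _).trans ?_
    erw [ShortComplex.ShortExact.extClass_naturality (seq_shortExact W) hT φ]
    rw [← Ext.mk₀_comp_mk₀]
    exact (Ext.comp_assoc_of_second_deg_zero _ _ _ _).symm
  refine (congrArg (EtLim.HofPush i (EtCoh.Gm Z) 1) e1).trans ?_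
  refine (HofPush_connect i (seq_shortExact Z) T.g κ hκ (cokernel.condition _) hT (Ext.mk₀ (w ≫ τ₃))).trans ?_
  show _ = ((Sheaf.H.equiv₀ (seq Z).X₃ (EtCore.topIsTerminal Z)).symm (pullQ i s)).comp
    (seq_shortExact Z).extClass (zero_add 1)
  rw [hw']
  refine congrArg (fun z : EtCoh.H Z (seq Z).X₃ 0 => z.comp (seq_shortExact Z).extClass (zero_add 1)) ?_
  refine (congrArg (fun z => EtLim.HofPush i (seq Z).X₃ 0 z) (Ext.mk₀_comp_mk₀ (w ≫ τ₃) κ)).trans ?_
  refine (HofPush_mk₀ i (seq Z).X₃ _).trans (congrArg Ext.mk₀ (evalOne_injective ?_))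
  refine ((evalOne_adjunct i _).trans ?_).trans hws'.symm
  have hwτ : (w ≫ τ₃) ≫ κ = w ≫ gmτ₃ i := (Category.assoc _ _ _).trans (congrArg (w ≫ ·) hτ)
  refine congrArg ((seq Z).X₃.obj.map (EtCore.bcTopIso i).inv.op) ?_
  refine (congrArg evalOne hwτ).trans ((evalOne_comp _ _).trans ?_)
  exact congrArg _ hws

variable {i}

/-- Morphisms into the preimage of an open are unique. -/
theorem hom_ext_bc {O : W.Opens} {T : Z.Etale} (a b : T ⟶ (EtCoh.bc i).obj (et O)) : a = b := by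
  apply EtPic3.hom_ext
  have ha : a.left ≫ pullback.snd O.ι i = T.hom := MorphismProperty.Over.w a
  have hb : b.left ≫ pullback.snd O.ι i = T.hom := MorphismProperty.Over.w b
  refine pullback.hom_ext ((cancel_mono O.ι).1 ?_) (ha.trans hb.symm)
  calc (a.left ≫ pullback.fst O.ι i) ≫ O.ι = a.left ≫ pullback.snd O.ι i ≫ i :=
        (Category.assoc _ _ _).trans (congrArg (_ ≫ ·) pullback.condition)
    _ = b.left ≫ pullback.snd O.ι i ≫ i := by rw [← Category.assoc, ha, ← Category.assoc, hb]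
    _ = (b.left ≫ pullback.fst O.ι i) ≫ O.ι :=
        ((Category.assoc _ _ _).trans (congrArg (_ ≫ ·) pullback.condition)).symm

variable (i)

/-- The preimage of an open as an object over it. -/
def preHom (O : W.Opens) : et (i ⁻¹ᵁ O) ⟶ (EtCoh.bc i).obj (et O) :=
  MorphismProperty.Over.homMk (pullback.lift (i ∣_ O) (i ⁻¹ᵁ O).ι (morphismRestrict_ι i O))
    (pullback.lift_snd _ _ _)

/-- The image of a section of the injective sheaf over an open. -/
def pullI (O : W.Opens) : (seq W).X₂.obj.obj (op (et O)) →+ (seq Z).X₂.obj.obj (op (et (i ⁻¹ᵁ O))) :=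
  ((seq Z).X₂.obj.map (preHom i O).op).hom.comp ((gmτ₂ i).hom.app (op (et O))).hom

theorem pullI_rF {O O' : W.Opens} (h : O' ≤ O) (t : (seq W).X₂.obj.obj (op (et O))) :
    pullI i O' (rF (seq W).X₂ h t) = rF (seq Z).X₂ (i.preimage_mono h) (pullI i O t) := by
  show (seq Z).X₂.obj.map _ ((gmτ₂ i).hom.app _ ((seq W).X₂.obj.map _ t)) = _
  erw [app_natural]
  exact (map_map (seq Z).X₂ _ ((EtCoh.bc i).map (etHom h)) _).trans
    ((map_eq_map _ (hom_ext_bc _ _) _).trans (map_map (seq Z).X₂ (etHom (i.preimage_mono h)) (preHom i O) _).symm)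

theorem g_pullI (O : W.Opens) (s : (seq W).X₃.obj.obj (op (EtCoh.top W)))
    (t : (seq W).X₂.obj.obj (op (et O))) (ht : (seq W).g.hom.app _ t = rTop (seq W).X₃ O s) :
    (seq Z).g.hom.app _ (pullI i O t) = rTop (seq Z).X₃ (i ⁻¹ᵁ O) (pullQ i s) := by
  show (seq Z).g.hom.app _ ((seq Z).X₂.obj.map _ _) = _
  rw [app_natural]
  have h1 : (seq Z).g.hom.app (op ((EtCoh.bc i).obj (et O))) ((gmτ₂ i).hom.app (op (et O)) t) =
      (gmτ₃ i).hom.app (op (et O)) ((seq W).g.hom.app _ t) :=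
    congr(($((g_gmτ₃ i).symm)).hom.app (op (et O)) t)
  erw [h1]
  rw [ht]
  erw [app_natural]
  refine (map_map (seq Z).X₃ (preHom i O) ((EtCoh.bc i).map (toTop (et O))) _).trans ?_
  refine (map_eq_map _ ((EtCore.bcTopIsTerminal i).hom_ext _
    (toTop (et (i ⁻¹ᵁ O)) ≫ (EtCore.bcTopIso i).inv)) _).trans ?_
  exact (map_map (seq Z).X₃ (toTop (et (i ⁻¹ᵁ O))) (EtCore.bcTopIso i).inv _).symm

omit [PreservesFiniteLimits (EtCoh.pull i)] in
theorem appLE_appTop_restrict (O : W.Opens) :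
    O.ι.appLE O ⊤ (top_le_ι O) ≫ (i ∣_ O).appTop =
      i.app O ≫ (i ⁻¹ᵁ O).ι.appLE (i ⁻¹ᵁ O) ⊤ (top_le_ι _) := by
  have hT : (i ∣_ O).appTop = (i ∣_ O).appLE ⊤ ⊤ le_rfl := Scheme.Hom.app_eq_appLE _
  rw [hT, Scheme.Hom.app_eq_appLE, Scheme.Hom.appLE_comp_appLE, Scheme.Hom.appLE_comp_appLE]
  simp only [morphismRestrict_ι]

theorem pullI_mU (O : W.Opens) (r : Γ(W, O)ˣ) :
    pullI i O (mU r) = mU (Units.map (i.app O).hom.toMonoidHom r) := by
  show (seq Z).X₂.obj.map _ ((gmτ₂ i).hom.app _ ((seq W).f.hom.app _ (εW r))) = _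
  have h1 : (gmτ₂ i).hom.app (op (et O)) ((seq W).f.hom.app (op (et O)) (εW r)) =
      (seq Z).f.hom.app (op ((EtCoh.bc i).obj (et O))) ((EtLim.GmPush i).hom.app (op (et O)) (εW r)) :=
    congr(($(f_gmτ₂ i)).hom.app (op (et O)) (εW r))
  erw [h1, ← app_natural]
  refine congrArg ((seq Z).f.hom.app (op (et (i ⁻¹ᵁ O)))) ?_
  rw [εW, GmPush_app, εW]
  refine (map_ε (preHom i O) _).trans (congrArg (fun v => ε (et (i ⁻¹ᵁ O)) (Additive.ofMul v)) ?_)
  refine Units.ext ?_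
  show (preHom i O).left.appTop ((pullback.fst O.ι i).appTop (O.ι.appLE O ⊤ (top_le_ι O) r.1)) =
    (i ⁻¹ᵁ O).ι.appLE (i ⁻¹ᵁ O) ⊤ (top_le_ι _) (i.app O r.1)
  refine Eq.trans (b := (O.ι.appLE O ⊤ (top_le_ι O) ≫ (pullback.fst O.ι i).appTop ≫ (preHom i O).left.appTop) r.1) rfl ?_
  refine Eq.trans ?_ (rfl : (i.app O ≫ (i ⁻¹ᵁ O).ι.appLE (i ⁻¹ᵁ O) ⊤ (top_le_ι _)) r.1 = _)
  refine congrArg (fun φ : Γ(W, O) ⟶ Γ((i ⁻¹ᵁ O).toScheme, ⊤) => φ r.1) ?_
  have e : ((preHom i O).left : (i ⁻¹ᵁ O).toScheme ⟶ _) ≫ pullback.fst O.ι i = i ∣_ O := pullback.lift_fst _ _ _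
  refine (congrArg (O.ι.appLE O ⊤ (top_le_ι O) ≫ ·) ((Scheme.Hom.comp_appTop _ _).symm.trans
    (congrArg Scheme.Hom.appTop e))).trans ?_
  exact appLE_appTop_restrict i O

end Groth.Agent.PBC24
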