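import Groth.Agent.Lib.EtAcyc24.BCDescent
import Groth.Agent.Lib.EtLim24.Base
import Groth.Agent.Lib.StrictLim24.System

/-!
# Cohomology over limits of affine bases
-/

set_option autoImplicit false
set_option linter.style.haveILetI false
set_option linter.unusedSectionVars false
set_option backward.isDefEq.respectTransparency.types false

universe u

open CategoryTheory CategoryTheory.Limits AlgebraicGeometry Opposite CategoryTheory.Abelian

namespace Groth.Agent.PBC24

open Groth.Agent.EtStalk Groth.Agent.EtLim24 Groth.Agent.EtAcyc24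

/-- A morphism as a limit of affine schemes over the target. -/
structure AffSys {P Y : Scheme.{u}} (σ : P ⟶ Y) where
  ι : Type u
  [pre : Preorder ι]
  [dir : IsDirected ι (· ≤ ·)]
  [ne : Nonempty ι]
  T : ιᵒᵖ ⥤ Scheme.{u}
  isAffine : ∀ i, IsAffine (T.obj i)
  π : (Functor.const ιᵒᵖ).obj P ⟶ T
  isLimit : IsLimit (Cone.mk P π)
  b : ∀ i : ιᵒᵖ, T.obj i ⟶ Y
  hb : ∀ ⦃i j : ιᵒᵖ⦄ (f : i ⟶ j), T.map f ≫ b j = b i
  hπ : ∀ i : ιᵒᵖ, π.app i ≫ b i = σ

attribute [instance] AffSys.pre AffSys.dir AffSys.ne AffSys.isAffine

/-- A strict localisation as such a limit. -/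
noncomputable def AffSys.ofStrict {P S : Scheme.{u}} {σ : P ⟶ S} (T : StrictLim24.StrictSys σ) : AffSys σ where
  ι := T.ι
  T := T.W ⋙ Scheme.Etale.forget S ⋙ Over.forget S
  isAffine := fun i => T.isAffine i.unop
  π := T.π
  isLimit := T.isLimit
  b := fun i => (T.W.obj i).hom
  hb := fun _ _ f => MorphismProperty.Over.w (T.W.map f)
  hπ := fun i => T.hπ i.unop

section Stages

variable {X Y P : Scheme.{u}} (g : X ⟶ Y) {σ : P ⟶ Y} (S : AffSys σ)

/-- The system of base changes. -/
noncomputable abbrev fibSys : S.ιᵒᵖ ⥤ Scheme.{u} where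
  obj i := pullback g (S.b i)
  map {i j} f := pullback.lift (pullback.fst g (S.b i)) (pullback.snd g (S.b i) ≫ S.T.map f)
    (by rw [Category.assoc, S.hb f]; exact pullback.condition)
  map_id i := by
    apply pullback.hom_ext
    · simp
    · rw [pullback.lift_snd, CategoryTheory.Functor.map_id]
      simp
  map_comp f f' := by
    apply pullback.hom_ext
    · refine (pullback.lift_fst _ _ _).trans (((Category.assoc _ _ _).trans
        ((congrArg (fun q => _ ≫ q) (pullback.lift_fst _ _ _)).trans (pullback.lift_fst _ _ _))).symm)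
    · refine (pullback.lift_snd _ _ _).trans ?_
      rw [S.T.map_comp]
      exact ((Category.assoc _ _ _).trans ((congrArg (fun q => _ ≫ q) (pullback.lift_snd _ _ _)).trans
        (((Category.assoc _ _ _).symm.trans (congrArg (fun q => q ≫ S.T.map f') (pullback.lift_snd _ _ _))).trans
          (Category.assoc _ _ _)))).symm

/-- The projection from the base change to a stage. -/
noncomputable abbrev fibProj (i : S.ιᵒᵖ) : pullback g σ ⟶ pullback g (S.b i) :=
  pullback.lift (pullback.fst g σ) (pullback.snd g σ ≫ S.π.app i)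
    (by rw [Category.assoc, S.hπ i]; exact pullback.condition)

lemma fibProj_map {i j : S.ιᵒᵖ} (f : i ⟶ j) : fibProj g S i ≫ (fibSys g S).map f = fibProj g S j := by
  apply pullback.hom_ext
  · exact ((Category.assoc _ _ _).trans ((congrArg (fun q => _ ≫ q) (pullback.lift_fst _ _ _)).trans
      (pullback.lift_fst _ _ _))).trans (pullback.lift_fst _ _ _).symm
  · exact ((Category.assoc _ _ _).trans ((congrArg (fun q => _ ≫ q) (pullback.lift_snd _ _ _)).trans
      (((Category.assoc _ _ _).symm.trans (congrArg (fun q => q ≫ S.T.map f) (pullback.lift_snd _ _ _))).trans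
        ((Category.assoc _ _ _).trans (congrArg (fun q => pullback.snd g σ ≫ q) (Cone.w (Cone.mk P S.π) f)))))).trans
      (pullback.lift_snd _ _ _).symm

/-- The cone of base changes. -/
noncomputable abbrev fibCone : Cone (fibSys g S) :=
  Cone.mk (pullback g σ)
    { app := fibProj g S
      naturality := fun _ _ f => (Category.id_comp _).trans (fibProj_map g S f).symm }

/-- The base change is the limit. -/
noncomputable def isLimitFibCone : IsLimit (fibCone g S) := by
  let i₀ : S.ιᵒᵖ := op (Classical.arbitrary S.ι)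
  let sT (s : Cone (fibSys g S)) : Cone S.T := Cone.mk s.pt
    { app := fun i => s.π.app i ≫ pullback.snd g (S.b i)
      naturality := fun i j f => by
        refine (Category.id_comp _).trans ?_
        refine (congrArg (fun q => q ≫ pullback.snd g (S.b j)) (s.w f).symm).trans ?_
        exact ((Category.assoc _ _ _).trans (congrArg (fun q => s.π.app i ≫ q) (pullback.lift_snd _ _ _))).trans
          (Category.assoc _ _ _).symm }
  have hX : ∀ (s : Cone (fibSys g S)) (i : S.ιᵒᵖ),
      s.π.app i ≫ pullback.fst g (S.b i) = s.π.app i₀ ≫ pullback.fst g (S.b i₀) := by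
    intro s i
    have hw : ∀ {k l : S.ιᵒᵖ} (f : k ⟶ l),
        s.π.app k ≫ pullback.fst g (S.b k) = s.π.app l ≫ pullback.fst g (S.b l) := by
      intro k l f
      rw [← s.w f, Category.assoc]
      exact congrArg (fun q => s.π.app k ≫ q) (pullback.lift_fst _ _ _).symm
    obtain ⟨k, h₁, h₂⟩ := directed_of (α := S.ι) (· ≤ ·) i.unop i₀.unop
    exact (hw (homOfLE h₁).op).symm.trans (hw (homOfLE h₂).op)
  exact
    { lift := fun s => pullback.lift (s.π.app i₀ ≫ pullback.fst g (S.b i₀)) (S.isLimit.lift (sT s)) (by
        have h2 : S.isLimit.lift (sT s) ≫ S.π.app i₀ = s.π.app i₀ ≫ pullback.snd g (S.b i₀) :=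
          S.isLimit.fac (sT s) i₀
        have h3 : S.isLimit.lift (sT s) ≫ σ = S.isLimit.lift (sT s) ≫ (S.π.app i₀ ≫ S.b i₀) :=
          congrArg (fun q => S.isLimit.lift (sT s) ≫ q) (S.hπ i₀).symm
        refine Eq.trans ?_ h3.symm
        exact (((Category.assoc _ _ _).trans (congrArg (fun q => s.π.app i₀ ≫ q) pullback.condition)).trans
          (Category.assoc _ _ _).symm).trans ((congrArg (fun q => q ≫ S.b i₀) h2.symm).trans
            (Category.assoc _ _ _)))
      fac := fun s i => by
        apply pullback.hom_ext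
        · refine (Category.assoc _ _ _).trans ?_
          exact ((congrArg (fun q => _ ≫ q) (pullback.lift_fst _ _ _)).trans (pullback.lift_fst _ _ _)).trans
            (hX s i).symm
        · refine (Category.assoc _ _ _).trans ?_
          exact ((congrArg (fun q => _ ≫ q) (pullback.lift_snd _ _ _)).trans
            ((Category.assoc _ _ _).symm.trans (congrArg (fun q => q ≫ S.π.app i) (pullback.lift_snd _ _ _)))).trans
            (S.isLimit.fac (sT s) i)
      uniq := fun s m hm => by
        apply pullback.hom_ext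
        · rw [pullback.lift_fst, ← hm i₀, Category.assoc]
          exact congrArg (fun q => m ≫ q) (pullback.lift_fst _ _ _).symm
        · rw [pullback.lift_snd]
          refine S.isLimit.uniq (sT s) _ fun i => ?_
          show (m ≫ pullback.snd g σ) ≫ S.π.app i = s.π.app i ≫ pullback.snd g (S.b i)
          rw [← hm i, Category.assoc, Category.assoc]
          exact congrArg (fun q => m ≫ q) (pullback.lift_snd _ _ _).symm }

lemma isAffineHom_map {i j : S.ιᵒᵖ} (f : i ⟶ j) : IsAffineHom (S.T.map f) := inferInstance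

lemma isAffineHom_fibSys {i j : S.ιᵒᵖ} (f : i ⟶ j) : IsAffineHom ((fibSys g S).map f) := by
  let v := S.T.map f
  haveI : IsAffineHom v := isAffineHom_map S f
  have sq : IsPullback ((fibSys g S).map f) (pullback.snd g (S.b i)) (pullback.snd g (S.b j)) v :=
    IsPullback.of_right (by
      show IsPullback (pullback.lift (pullback.fst g (S.b i)) (pullback.snd g (S.b i) ≫ S.T.map f) _ ≫
        pullback.fst g (S.b j)) (pullback.snd g (S.b i)) g (v ≫ S.b j)
      rw [pullback.lift_fst, S.hb f]
      exact IsPullback.of_hasPullback g (S.b i)) (pullback.lift_snd _ _ _)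
      (IsPullback.of_hasPullback g (S.b j))
  exact MorphismProperty.of_isPullback sq.flip ‹IsAffineHom v›

lemma compactSpace_T (i : S.ιᵒᵖ) : CompactSpace ↥(S.T.obj i) := inferInstance

lemma compactSpace_fibSys [QuasiCompact g] (i : S.ιᵒᵖ) : CompactSpace ↥((fibSys g S).obj i) :=
  haveI hq : QuasiCompact (pullback.snd g (S.b i)) := MorphismProperty.pullback_snd _ _ ‹_›
  @QuasiCompact.compactSpace_of_compactSpace _ _ (pullback.snd g (S.b i)) hq (compactSpace_T S i)

lemma quasiSeparatedSpace_fibSys [QuasiSeparated g] (i : S.ιᵒᵖ) : QuasiSeparatedSpace ↥((fibSys g S).obj i) :=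
  haveI hq : QuasiSeparated (pullback.snd g (S.b i)) := MorphismProperty.pullback_snd _ _ ‹_›
  @quasiSeparatedSpace_of_quasiSeparated _ _ (pullback.snd g (S.b i)) inferInstance hq

end Stages

end Groth.Agent.PBC24
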