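import Groth.Agent.Lib.PBC24.Lim
import Groth.Agent.Lib.EtAcyc24.BCDescent
import Groth.Agent.Lib.EtLim24.Base
import Groth.Agent.Lib.StrictLim24.System

/-!
# Cohomology over limits of affine bases
-/

set_option autoImplicit false
set_option linter.style.haveILetI false
set_option linter.unusedSectionVars false
set_option backward.isDefEq.respectTransparency.types false

universe u

open CategoryTheory CategoryTheory.Limits AlgebraicGeometry Opposite CategoryTheory.Abelian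

namespace Groth.Agent.PBC24

open Groth.Agent.EtStalk Groth.Agent.EtLim24 Groth.Agent.EtAcyc24

section Aux

variable {ι : Type u} [Preorder ι] [IsDirected ι (· ≤ ·)] [Nonempty ι] {Xs : ιᵒᵖ ⥤ Scheme.{u}} {c : Cone Xs}
  [∀ i : ι, CompactSpace ↥(Xs.obj (op i))] [∀ i : ι, QuasiSeparatedSpace ↥(Xs.obj (op i))]

theorem stage_class_aux (hc : IsLimit c) (haff : ∀ ⦃a b : ιᵒᵖ⦄ (h : a ⟶ b), IsAffineHom (Xs.map h)) {X : Scheme.{u}}
    (b : ∀ i : ι, Xs.obj (op i) ⟶ X) (hb : ∀ ⦃i j : ι⦄ (h : i ≤ j), uM Xs h ≫ b i = b j) (b' : c.pt ⟶ X)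
    (hb' : ∀ i : ι, pr Xs c i ≫ b i = b') (G : EtCoh.Ab X) (n : ℕ)
    (η : EtCoh.H c.pt ((EtCoh.pull b').obj G) n) :
    ∃ (i : ι) (x : EtCoh.H (Xs.obj (op i)) ((EtCoh.pull (b i)).obj G) n),
      EtCore.HpullVia (pr Xs c i) (b i) b' (hb' i) G n x = η := by
  exact (limit_base b hb b' hb' G haff hc n).1 η

end Aux

section Classes

variable {X Y P : Scheme.{u}} (g : X ⟶ Y) [QuasiCompact g] [QuasiSeparated g] {σ : P ⟶ Y}

/-- A class vanishing on the limit vanishes on a stage. -/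
theorem exists_stage_Hpull_eq_zero (S : AffSys σ) (G : EtCoh.Ab X) (n : ℕ)
    (ξ : EtCoh.H X G n) (h : EtCore.Hpull (pullback.fst g σ) G n ξ = 0) :
    ∃ i : S.ιᵒᵖ, EtCore.Hpull (pullback.fst g (S.b i)) G n ξ = 0 := by
  haveI : ∀ i : S.ι, CompactSpace ↥((fibSys g S).obj (op i)) := fun i => compactSpace_fibSys g S _
  haveI : ∀ i : S.ι, QuasiSeparatedSpace ↥((fibSys g S).obj (op i)) := fun i => quasiSeparatedSpace_fibSys g S _
  let b : ∀ i : S.ι, (fibSys g S).obj (op i) ⟶ X := fun i => pullback.fst g (S.b (op i))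
  have hb : ∀ ⦃i j : S.ι⦄ (h : i ≤ j), uM (fibSys g S) h ≫ b i = b j := fun i j h => pullback.lift_fst _ _ _
  have hb' : ∀ i : S.ι, pr (fibSys g S) (fibCone g S) i ≫ b i = pullback.fst g σ := fun i => pullback.lift_fst _ _ _
  let i₀ : S.ι := Classical.arbitrary S.ι
  obtain ⟨j, hij, hj⟩ := (limit_base b hb (pullback.fst g σ) hb' G (fun _ _ f => isAffineHom_fibSys g S f)
    (isLimitFibCone g S) n).2 i₀ (EtCore.Hpull (b i₀) G n ξ) ((HpullVia_Hpull _ _ _ _ G n ξ).trans h)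
  exact ⟨op j, (HpullVia_Hpull _ _ _ (hb hij) G n ξ).symm.trans hj⟩

/-- Classes on the limit come from a stage. -/
theorem exists_stage_class (S : AffSys σ) (G : EtCoh.Ab X) (n : ℕ)
    (η : EtCoh.H (pullback g σ) ((EtCoh.pull (pullback.fst g σ)).obj G) n) :
    ∃ (i : S.ιᵒᵖ) (Q : Scheme.{u}) (q : Q ⟶ X) (t : Q ⟶ S.T.obj i) (_ : IsPullback q t g (S.b i))
      (r : pullback g σ ⟶ Q) (hr : r ≫ q = pullback.fst g σ) (_ : r ≫ t = pullback.snd g σ ≫ S.π.app i)
      (x : EtCoh.H Q ((EtCoh.pull q).obj G) n),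
      EtCore.HpullVia r q (pullback.fst g σ) hr G n x = η := by
  haveI : ∀ i : S.ι, CompactSpace ↥((fibSys g S).obj (op i)) := fun i => compactSpace_fibSys g S _
  haveI : ∀ i : S.ι, QuasiSeparatedSpace ↥((fibSys g S).obj (op i)) := fun i => quasiSeparatedSpace_fibSys g S _
  let b : ∀ i : S.ι, (fibSys g S).obj (op i) ⟶ X := fun i => pullback.fst g (S.b (op i))
  have hb : ∀ ⦃i j : S.ι⦄ (h : i ≤ j), uM (fibSys g S) h ≫ b i = b j := fun i j h => pullback.lift_fst _ _ _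
  have hb' : ∀ i : S.ι, pr (fibSys g S) (fibCone g S) i ≫ b i = pullback.fst g σ := fun i => pullback.lift_fst _ _ _
  obtain ⟨i, x, hx⟩ := stage_class_aux (isLimitFibCone g S) (fun _ _ f => isAffineHom_fibSys g S f) b hb
    (pullback.fst g σ) hb' G n η
  exact ⟨op i, (fibSys g S).obj (op i), b i, pullback.snd g (S.b (op i)), IsPullback.of_hasPullback g (S.b (op i)),
    pr (fibSys g S) (fibCone g S) i, hb' i, pullback.lift_snd _ _ _, x, hx⟩

end Classes

end Groth.Agent.PBC24
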