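import Groth.Agent.Lib.PBC24.ModSum
import Groth.Agent.Lib.ProperPush24.Main
import Groth.Agent.Lib.EtMod3.PullExact
import Groth.Agent.Lib.EtBCQ24.Chain
import Groth.Prelude.Def_SixF1

/-!
# Inverse images of sheaves of modules and base change in degree zero
-/

set_option autoImplicit false
set_option linter.style.haveILetI false
set_option linter.unusedSectionVars false
set_option backward.isDefEq.respectTransparency false
set_option backward.isDefEq.respectTransparency.types false

universe u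

open CategoryTheory CategoryTheory.Limits AlgebraicGeometry Opposite

namespace Groth.Agent.PBC24

variable (Λ : Type (u + 1)) [CommRing Λ]

instance preservesLimits_coInd : PreservesLimitsOfSize.{u, u + 1} (ModToAb24.coInd Λ) :=
  (ModToAb24.coIndAdj Λ).rightAdjoint_preservesLimits

instance preservesLimits_coInd' : PreservesLimitsOfSize.{u + 1, u + 1} (ModToAb24.coInd Λ) :=
  (ModToAb24.coIndAdj Λ).rightAdjoint_preservesLimits

/-- Coinduction of sheaves. -/
noncomputable abbrev coIndSh (Z : Scheme.{u}) : EtCoh.Ab Z ⥤ EtModW.Mod Λ Z :=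
  sheafCompose Z.smallEtaleTopology (ModToAb24.coInd Λ)

/-- Forgetting the module structure is left adjoint to coinduction. -/
noncomputable def forgetAdj (Z : Scheme.{u}) : EtModD.forgetToAb Λ Z ⊣ coIndSh Λ Z :=
  Adjunction.restrictFullyFaithful ((ModToAb24.coIndAdj Λ).whiskerRight Z.Etaleᵒᵖ)
    (fullyFaithfulSheafToPresheaf Z.smallEtaleTopology (ModuleCat.{u + 1} Λ))
    (fullyFaithfulSheafToPresheaf Z.smallEtaleTopology AddCommGrpCat.{u + 1})
    (R := coIndSh Λ Z) (Iso.refl _) (Iso.refl _)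

variable {X Y : Scheme.{u}} (f : X ⟶ Y)

/-- The unit of coinduction commutes with direct images. -/
theorem forgetAdj_unit_push (N : EtModW.Mod Λ X) :
    (EtModW.push Λ f).map ((forgetAdj Λ X).unit.app N) = (forgetAdj Λ Y).unit.app ((EtModW.push Λ f).obj N) := by
  refine Sheaf.hom_ext (NatTrans.ext (funext fun U => ?_))
  simp [forgetAdj]
  rfl

/-- The two left adjoints of coinduction of direct images. -/
noncomputable def pullForget :
    EtModD.forgetToAb Λ Y ⋙ EtCoh.pull f ≅ EtModW.pull Λ f ⋙ EtModD.forgetToAb Λ X :=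
  Adjunction.leftAdjointUniq ((forgetAdj Λ Y).comp (EtCoh.pullPushAdj f))
    (((EtSix.pullPushModAdj Λ f).comp (forgetAdj Λ X)).ofNatIsoRight
      (Iso.refl (EtCoh.push f ⋙ coIndSh Λ Y) : coIndSh Λ X ⋙ EtModW.push Λ f ≅ EtCoh.push f ⋙ coIndSh Λ Y))

/-- The comparison is compatible with the units. -/
theorem unit_pullForget (M : EtModW.Mod Λ Y) :
    (EtCoh.pullPushAdj f).unit.app ((EtModD.forgetToAb Λ Y).obj M) ≫ (EtCoh.push f).map ((pullForget Λ f).hom.app M) =
      (EtModD.forgetToAb Λ Y).map ((EtSix.pullPushModAdj Λ f).unit.app M) := by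
  apply ((forgetAdj Λ Y).homEquiv M ((EtCoh.push f).obj ((EtModD.forgetToAb Λ X).obj ((EtModW.pull Λ f).obj M)))).injective
  have h := Adjunction.unit_leftAdjointUniq_hom_app ((forgetAdj Λ Y).comp (EtCoh.pullPushAdj f))
    (((EtSix.pullPushModAdj Λ f).comp (forgetAdj Λ X)).ofNatIsoRight
      (Iso.refl (EtCoh.push f ⋙ coIndSh Λ Y) : coIndSh Λ X ⋙ EtModW.push Λ f ≅ EtCoh.push f ⋙ coIndSh Λ Y)) M
  rw [Adjunction.homEquiv_unit, Adjunction.homEquiv_unit, Functor.map_comp]
  refine Eq.trans ?_ ((forgetAdj Λ Y).unit.naturality ((EtSix.pullPushModAdj Λ f).unit.app M))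
  refine Eq.trans ?_ (congrArg ((EtSix.pullPushModAdj Λ f).unit.app M ≫ ·) (forgetAdj_unit_push Λ f _))
  refine Eq.trans ?_ (h.trans ?_)
  · rw [Adjunction.comp_unit_app, Category.assoc]
    rfl
  · simp [Adjunction.ofNatIsoRight]
    exact congrArg (_ ≫ ·) (Category.comp_id _)

variable {S X' S' : Scheme.{u}} (p : X ⟶ S) (g : S' ⟶ S) (p' : X' ⟶ S') (g' : X' ⟶ X) (w : g' ≫ p = p' ≫ g)

/-- Base change in degree zero for modules and for abelian sheaves. -/
theorem forget_baseChange0Mod (F : EtModW.Mod Λ X) :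
    (pullForget Λ g).hom.app ((EtModW.push Λ p).obj F) ≫ (EtModD.forgetToAb Λ S').map (EtSix.baseChange0Mod Λ p g p' g' w F) =
      EtCoh.baseChange0 p g p' g' w ((EtModD.forgetToAb Λ X).obj F) ≫ (EtCoh.push p').map ((pullForget Λ g').hom.app F) := by
  apply ((EtCoh.pullPushAdj g).homEquiv ((EtCoh.push p).obj ((EtModD.forgetToAb Λ X).obj F))
    ((EtCoh.push p').obj ((EtModD.forgetToAb Λ X').obj ((EtModW.pull Λ g').obj F)))).injective
  have hA : EtCoh.baseChange0 p g p' g' w ((EtModD.forgetToAb Λ X).obj F) =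
      ((EtCoh.pullPushAdj g).homEquiv _ _).symm ((EtBC.pushToPushPull p g p' g' w).app ((EtModD.forgetToAb Λ X).obj F)) := by
    simp [EtCoh.baseChange0, EtBC.pushToPushPull]
  rw [hA]
  refine ((EtCoh.pullPushAdj g).homEquiv_naturality_right _ _).trans
    (Eq.trans ?_ ((EtCoh.pullPushAdj g).homEquiv_naturality_right _ _).symm)
  erw [Equiv.apply_symm_apply, Adjunction.homEquiv_unit]
  let τ : EtCoh.push g' ⋙ EtCoh.push p ⟶ EtCoh.push p' ⋙ EtCoh.push g :=
    (EtCoh.pushComp p g').hom ≫ (EtCoh.pushCongr w).hom ≫ (EtCoh.pushComp g p').inv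
  let τM : EtModW.push Λ g' ⋙ EtModW.push Λ p ⟶ EtModW.push Λ p' ⋙ EtModW.push Λ g :=
    (EtSix.pushModComp Λ p g').hom ≫ (EtSix.pushModCongr Λ w).hom ≫ (EtSix.pushModComp Λ g p').inv
  have hτ : ∀ N, (EtModD.forgetToAb Λ S).map (τM.app N) = τ.app ((EtModD.forgetToAb Λ X').obj N) := fun N => rfl
  have hM : (EtSix.pullPushModAdj Λ g).unit.app ((EtModW.push Λ p).obj F) ≫
      (EtModW.push Λ g).map (EtSix.baseChange0Mod Λ p g p' g' w F) =
      (EtModW.push Λ p).map ((EtSix.pullPushModAdj Λ g').unit.app F) ≫ τM.app ((EtModW.pull Λ g').obj F) := by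
    refine ((EtSix.pullPushModAdj Λ g).homEquiv_unit _ _ _).symm.trans ?_
    rw [EtSix.baseChange0Mod]
    refine (Equiv.apply_symm_apply _ _).trans ?_
    simp [EtSix.pushToPushPullMod, τM]
  have h1 := congrArg ((EtModD.forgetToAb Λ S).map) hM
  rw [Functor.map_comp, Functor.map_comp, hτ, ← unit_pullForget] at h1
  refine h1.trans ?_
  have h2 : (EtBC.pushToPushPull p g p' g' w).app ((EtModD.forgetToAb Λ X).obj F) =
      (EtCoh.push p).map ((EtCoh.pullPushAdj g').unit.app ((EtModD.forgetToAb Λ X).obj F)) ≫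
        τ.app ((EtCoh.pull g').obj ((EtModD.forgetToAb Λ X).obj F)) := by
    simp [EtBC.pushToPushPull, τ]
  rw [h2, Category.assoc]
  refine Eq.trans ?_ (congrArg ((EtCoh.push p).map ((EtCoh.pullPushAdj g').unit.app _) ≫ ·)
    (τ.naturality ((pullForget Λ g').hom.app F)))
  have h3 : (EtModD.forgetToAb Λ S).map ((EtModW.push Λ p).map ((EtSix.pullPushModAdj Λ g').unit.app F)) =
      (EtCoh.push p).map ((EtCoh.pullPushAdj g').unit.app ((EtModD.forgetToAb Λ X).obj F)) ≫
        (EtCoh.push p).map ((EtCoh.push g').map ((pullForget Λ g').hom.app F)) := by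
    rw [← Functor.map_comp, unit_pullForget]
    rfl
  rw [h3, Category.assoc]
  rfl

/-- Base change in degree zero for sheaves of modules along proper morphisms. -/
theorem isIso_baseChange0Mod (h : IsPullback g' p' p g) [IsProper p] (F : EtModW.Mod Λ X) :
    IsIso (EtSix.baseChange0Mod Λ p g p' g' h.w F) := by
  haveI := ProperPush24.isIso_baseChange0_proper p ((EtModD.forgetToAb Λ X).obj F) g p' g' h
  haveI : (EtModD.forgetToAb Λ S').ReflectsIsomorphisms := reflectsIsomorphisms_of_reflectsMonomorphisms_of_reflectsEpimorphisms _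
  haveI : IsIso ((pullForget Λ g).hom.app ((EtModW.push Λ p).obj F) ≫
      (EtModD.forgetToAb Λ S').map (EtSix.baseChange0Mod Λ p g p' g' h.w F)) := by
    rw [forget_baseChange0Mod]
    infer_instance
  haveI := IsIso.of_isIso_comp_left ((pullForget Λ g).hom.app ((EtModW.push Λ p).obj F))
    ((EtModD.forgetToAb Λ S').map (EtSix.baseChange0Mod Λ p g p' g' h.w F))
  exact isIso_of_reflects_iso _ (EtModD.forgetToAb Λ S')

end Groth.Agent.PBC24
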