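import Groth.Agent.Lib.PBC24.CdMain
import Groth.Agent.Lib.RpushSum24.Basic
import Groth.Agent.Lib.InjModAcyc24.Main
import Groth.Agent.Lib.ModToAb24.Main
import Groth.Agent.Lib.InjDim6.Forget
import Groth.Prelude.Def_W4c6etmotetsheavesDMod

/-!
# Direct images of sheaves of modules along proper morphisms commute with sums
-/

set_option autoImplicit false
set_option linter.style.haveILetI false
set_option linter.unusedSectionVars false
set_option backward.isDefEq.respectTransparency false
set_option backward.isDefEq.respectTransparency.types false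

universe u

open CategoryTheory CategoryTheory.Limits AlgebraicGeometry Opposite CategoryTheory.Abelian

namespace Groth.Agent.PBC24

open Groth.Agent.EtStalk
open Groth.Agent.EtAcyc24 (bijective_comp_iso)

variable {X Y : Scheme.{u}} (f : X ⟶ Y)

/-- Acyclic on every geometric fibre. -/
def FibAcyc (G : EtCoh.Ab X) : Prop :=
  ∀ (Ω : Type u) [Field Ω] [IsSepClosed Ω] (ξ : Spec (CommRingCat.of Ω) ⟶ Y) (q : ℕ), 0 < q →
    Subsingleton (EtCoh.H (pullback f ξ) ((EtCoh.pull (pullback.fst f ξ)).obj G) q)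

variable [IsProper f] (hBC : ProperBC.{u})

include hBC in
/-- Every geometric fibre has finite cohomological dimension. -/
theorem exists_cdLE_fibre (Ω : Type u) [Field Ω] [IsSepClosed Ω] (ξ : Spec (CommRingCat.of Ω) ⟶ Y) :
    ∃ N, CdLE (pullback f ξ) N := by
  let t := pullback.snd f ξ
  let σ := Spec.map (CommRingCat.ofHom (algebraMap Ω (AlgebraicClosure Ω)))
  let P := pullback t σ
  let s : P ⟶ Spec (CommRingCat.of (AlgebraicClosure Ω)) := pullback.snd t σ
  haveI : IsLocallyNoetherian P := LocallyOfFiniteType.isLocallyNoetherian s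
  haveI : CompactSpace P := QuasiCompact.compactSpace_of_compactSpace s
  haveI : IsNoetherian P := ⟨⟩
  have hfin := genericPoints.finite (TopologicalSpace.NoetherianSpace.finite_irreducibleComponents (α := P))
  obtain ⟨d, hd⟩ := (hfin.image (VarDim.sdim s)).bddAbove
  refine ⟨2 * d + 1, CdLE.of_algClosure t fun F hF q hq => subsingleton_H_proper hBC (d + 1) s (fun x => ?_) F hF q (by omega)⟩
  let η := genericPoints.ofComponent (⟨irreducibleComponent x, irreducibleComponent_mem_irreducibleComponents _⟩ :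
    irreducibleComponents (P : Type u))
  have hs : η.1 ⤳ x := (genericPoints.isGenericPoint_ofComponent _).specializes mem_irreducibleComponent
  have h1 : VarDim.sdim s η.1 ≤ d := hd ⟨η.1, η.2, rfl⟩
  rcases eq_or_ne η.1 x with he | hne
  · rw [← he]; omega
  · have := VarDim.sdim_lt_of_specializes s hs hne
    omega

include hBC in
/-- A killed acyclic sheaf is acyclic on the fibres. -/
theorem fibAcyc_of_acyc {G : EtCoh.Ab X} (hG : EtFlasque24.Acyc G) (hT : EtCoh.IsTorsion G) : FibAcyc f G := by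
  intro Ω _ _ ξ q hq
  obtain ⟨e⟩ := nonempty_stalk_Rpush hBC f ξ G hT q
  exact AddCommGrpCat.subsingleton_of_isZero
    (IsZero.of_iso (Functor.map_isZero _ (EtAcyc24.isZero_Rpush_of_acyc f hG q hq)) e.symm)

omit [IsProper f] in
theorem fibAcyc_biprod {G H : EtCoh.Ab X} (hG : FibAcyc f G) (hH : FibAcyc f H) : FibAcyc f (G ⊞ H) := by
  intro Ω _ _ ξ q hq
  let L := EtCoh.pull (pullback.fst f ξ)
  haveI : L.Additive := (EtCoh.pullPushAdj _).left_adjoint_additive
  haveI := preservesFiniteLimits_pull (pullback.fst f ξ)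
  haveI : PreservesFiniteColimits L :=
    haveI : L.IsLeftAdjoint := (EtCoh.pullPushAdj _).isLeftAdjoint
    inferInstance
  have hS := ((ShortComplex.Splitting.ofHasBinaryBiproduct G H).shortExact).map_of_exact L
  refine subsingleton_of_forall_eq 0 fun x => ?_
  obtain ⟨y, rfl⟩ := Ext.covariant_sequence_exact₂ _ hS x (@Subsingleton.elim _ (hH Ω ξ q hq) _ _)
  rw [show y = 0 from @Subsingleton.elim _ (hG Ω ξ q hq) _ _]
  simp

include hBC in
/-- An acyclic complex of killed, fibrewise acyclic sheaves has acyclic direct image. -/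
theorem acyclic_push (C : CochainComplex (EtCoh.Ab X) ℤ) (hac : C.Acyclic) {a : ℕ} (ha : 0 < a)
    (h0 : ∀ m, a • 𝟙 (C.X m) = 0) (hC : ∀ m, FibAcyc f (C.X m)) :
    (((EtCoh.push f).mapHomologicalComplex (ComplexShape.up ℤ)).obj C).Acyclic := by
  let F := EtCoh.push f
  let p : ∀ i, C.X i ⟶ kernel (C.d (i + 1) (i + 1 + 1)) := fun i => kernel.lift _ (C.d i (i + 1)) (C.d_comp_d _ _ _)
  have hp : ∀ i, Epi (p i) := fun i =>
    ((C.sc' i (i + 1) (i + 1 + 1)).exact_iff_epi_kernel_lift).1
      ((C.exactAt_iff' i (i + 1) (i + 1 + 1) (by simp) (by simp)).1 (hac (i + 1)))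
  have hw : ∀ i, kernel.ι (C.d i (i + 1)) ≫ p i = 0 := fun i => by
    rw [← cancel_mono (kernel.ι _)]; simp [p]
  have hse : ∀ i, (ShortComplex.mk _ _ (hw i)).ShortExact := fun i => by
    haveI := hp i
    refine { exact := ShortComplex.exact_of_f_is_kernel _ (KernelFork.IsLimit.ofι' _ (hw i) fun k hk =>
      ⟨kernel.lift _ k (by
        have h := congrArg (· ≫ kernel.ι (C.d (i + 1) (i + 1 + 1))) hk
        simpa [p] using h), kernel.lift_ι _ _ _⟩) }
  have hk0 : ∀ i, a • 𝟙 (kernel (C.d i (i + 1))) = 0 := fun i => by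
    rw [← cancel_mono (kernel.ι (C.d i (i + 1))), zero_comp, Preadditive.nsmul_comp, Category.id_comp]
    calc a • kernel.ι (C.d i (i + 1)) = kernel.ι (C.d i (i + 1)) ≫ (a • 𝟙 (C.X i)) := by
          rw [Preadditive.comp_nsmul, Category.comp_id]
      _ = 0 := by rw [h0, comp_zero]
  have hR : ∀ i, IsZero ((EtCoh.Rpush f 1).obj (kernel (C.d i (i + 1)))) := fun i => by
    refine isZero_Rpush_of_fibres hBC f _ (isTorsion_of_nsmul ha (hk0 i)) 1 fun Ω _ _ ξ => ?_
    obtain ⟨N, hN⟩ := exists_cdLE_fibre f hBC Ω ξ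
    let L := EtCoh.pull (pullback.fst f ξ)
    haveI : L.Additive := (EtCoh.pullPushAdj _).left_adjoint_additive
    haveI := preservesFiniteLimits_pull (pullback.fst f ξ)
    haveI : PreservesFiniteColimits L :=
      haveI : L.IsLeftAdjoint := (EtCoh.pullPushAdj _).isLeftAdjoint
      inferInstance
    have key : ∀ (d j : ℕ), 0 < j → N < j + d → ∀ i,
        Subsingleton (EtCoh.H (pullback f ξ) (L.obj (kernel (C.d i (i + 1)))) j) := by
      intro d
      induction d with
      | zero => exact fun j _ h i => hN _ (FieldBr3.isTorsion_pull' _ (isTorsion_of_nsmul ha (hk0 i))) j (by omega)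
      | succ d ih =>
        intro j hj h i
        obtain ⟨l, rfl⟩ : ∃ l, i = l + 1 := ⟨i - 1, by omega⟩
        have hS := (hse l).map_of_exact L
        refine subsingleton_of_forall_eq 0 fun x => ?_
        obtain ⟨y, rfl⟩ := Ext.covariant_sequence_exact₃ _ hS x rfl
          (@Subsingleton.elim _ (ih (j + 1) (by omega) (by omega) l) _ _)
        rw [show y = 0 from @Subsingleton.elim _ (hC l Ω ξ j hj) _ _]
        simp
    exact key N 1 one_pos (by omega) i
  have hFse : ∀ i, ((ShortComplex.mk _ _ (hw i)).map F).ShortExact := fun i =>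
    shortExact_push_of_acyclic f (hse i) (hR i)
  intro i
  obtain ⟨k, rfl⟩ : ∃ k, i = k + 1 := ⟨i - 1, by omega⟩
  rw [HomologicalComplex.exactAt_iff' _ k (k + 1) (k + 1 + 1) (by simp) (by simp),
    ShortComplex.exact_iff_exact_up_to_refinements]
  intro T x hx
  change x ≫ F.map (C.d (k + 1) (k + 1 + 1)) = 0 at hx
  obtain ⟨T₁, π₁, hπ₁, y, hy⟩ := (hFse (k + 1)).exact.exact_up_to_refinements x (by
    haveI : Mono (F.map (kernel.ι (C.d (k + 1 + 1) (k + 1 + 1 + 1)))) := (hFse (k + 1 + 1)).mono_f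
    change x ≫ F.map (p (k + 1)) = 0
    rw [← cancel_mono (F.map (kernel.ι (C.d (k + 1 + 1) (k + 1 + 1 + 1)))), zero_comp, Category.assoc, ← F.map_comp]
    simpa [p] using hx)
  haveI : Epi (F.map (p k)) := (hFse k).epi_g
  obtain ⟨T₂, π₂, hπ₂, z, hz⟩ := surjective_up_to_refinements_of_epi (F.map (p k)) y
  refine ⟨T₂, π₂ ≫ π₁, inferInstance, z, ?_⟩
  change (π₂ ≫ π₁) ≫ x = z ≫ F.map (C.d k (k + 1))
  change π₁ ≫ x = y ≫ F.map (kernel.ι (C.d (k + 1) (k + 1 + 1))) at hy
  rw [Category.assoc, hy, reassoc_of% hz, ← F.map_comp, show p k ≫ kernel.ι _ = C.d k (k + 1) from kernel.lift_ι _ _ _]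

/-- Fibrewise acyclicity passes to sums. -/
theorem fibAcyc_sigma (ι : Type (u + 1)) (J : ι → EtCoh.Ab X) (hJ : ∀ a, FibAcyc f (J a)) : FibAcyc f (∐ J) := by
  intro Ω _ _ ξ q hq
  haveI : CompactSpace ↥(pullback f ξ) := QuasiCompact.compactSpace_of_compactSpace (pullback.snd f ξ)
  haveI : QuasiSeparatedSpace ↥(pullback f ξ) := quasiSeparatedSpace_of_quasiSeparated (pullback.snd f ξ)
  haveI : IsFiltered (Finset (Discrete ι)) := inferInstance
  haveI := EtColim.preservesColimitsOfShape_HF (pullback f ξ) q (Finset (Discrete ι))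
  haveI : (EtCoh.pull (pullback.fst f ξ)).IsLeftAdjoint := (EtCoh.pullPushAdj _).isLeftAdjoint
  haveI : PreservesColimitsOfShape (Discrete ι) (EtCoh.HF (pullback f ξ) q) :=
    ⟨fun {K} =>
      haveI := AcyclicSum8.preservesColimit_discrete (EtCoh.HF (pullback f ξ) q) (K.obj ∘ Discrete.mk)
      preservesColimit_of_iso_diagram _ (Discrete.natIsoFunctor (F := K)).symm⟩
  suffices hz : IsZero ((EtCoh.pull (pullback.fst f ξ) ⋙ EtCoh.HF (pullback f ξ) q).obj (∐ J)) from
    AddCommGrpCat.subsingleton_of_isZero hz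
  rw [IsZero.iff_id_eq_zero]
  refine (isColimitOfPreserves (EtCoh.pull (pullback.fst f ξ) ⋙ EtCoh.HF (pullback f ξ) q)
    (coproductIsCoproduct J)).hom_ext fun a => IsZero.eq_of_src ?_ _ _
  rw [AddCommGrpCat.isZero_iff_subsingleton]
  exact hJ a.as Ω ξ q hq

section Mod

variable (Λ : Type (u + 1)) [CommRing Λ]

/-- Forgetting the module structure is a left adjoint. -/
instance isLeftAdjoint_forgetToAb (Z : Scheme.{u}) : (EtModD.forgetToAb Λ Z).IsLeftAdjoint := by
  haveI : PreservesLimitsOfSize.{u, u + 1} (ModToAb24.coInd Λ) :=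
    (ModToAb24.coIndAdj Λ).rightAdjoint_preservesLimits
  haveI : PreservesLimitsOfSize.{u + 1, u + 1} (ModToAb24.coInd Λ) :=
    (ModToAb24.coIndAdj Λ).rightAdjoint_preservesLimits
  exact (Adjunction.restrictFullyFaithful ((ModToAb24.coIndAdj Λ).whiskerRight Z.Etaleᵒᵖ)
    (fullyFaithfulSheafToPresheaf Z.smallEtaleTopology (ModuleCat.{u + 1} Λ))
    (fullyFaithfulSheafToPresheaf Z.smallEtaleTopology AddCommGrpCat.{u + 1})
    (R := sheafCompose Z.smallEtaleTopology (ModToAb24.coInd Λ)) (Iso.refl _) (Iso.refl _)).isLeftAdjoint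

instance faithful_forgetToAb (Z : Scheme.{u}) : (EtModD.forgetToAb Λ Z).Faithful where
  map_injective {A B g h} e := by
    refine Sheaf.hom_ext (NatTrans.ext (funext fun U => ModuleCat.hom_ext (LinearMap.ext fun x => ?_)))
    exact ConcreteCategory.congr_hom (congrArg (fun φ : (EtModD.forgetToAb Λ Z).obj A ⟶ (EtModD.forgetToAb Λ Z).obj B => φ.hom.app U) e) x

/-- Injective modules are acyclic. -/
theorem acyc_forget (J : EtModW.Mod Λ X) [Injective J] :
    EtFlasque24.Acyc ((EtModD.forgetToAb Λ X).obj J) := by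
  intro W q hq
  obtain ⟨q, rfl⟩ := Nat.exists_eq_succ_of_ne_zero hq.ne'
  haveI : Etale W.hom := W.prop
  haveI : PreservesLimitsOfSize.{u, u + 1} (ModToAb24.coInd Λ) :=
    (ModToAb24.coIndAdj Λ).rightAdjoint_preservesLimits
  haveI : PreservesLimitsOfSize.{u + 1, u + 1} (ModToAb24.coInd Λ) :=
    (ModToAb24.coIndAdj Λ).rightAdjoint_preservesLimits
  let U := EtModD.forgetToAb Λ X
  let I := Injective.under (U.obj J)
  let R : EtModW.Mod Λ X := (sheafCompose X.smallEtaleTopology (ModToAb24.coInd Λ)).obj I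
  let η : J ⟶ R := ⟨{
    app := fun V => ModToAb24.coIndUnit Λ (J.obj.obj V) ≫
      (ModToAb24.coInd Λ).map ((Injective.ι (U.obj J)).hom.app V)
    naturality := fun V V' r => ModuleCat.hom_ext (LinearMap.ext fun m => AddMonoidHom.ext fun x => by
      show (Injective.ι (U.obj J)).hom.app V' (x • (J.obj.map r).hom m) =
        I.obj.map r ((Injective.ι (U.obj J)).hom.app V (x • m))
      rw [← map_smul]
      exact NatTrans.naturality_apply (Injective.ι (U.obj J)).hom r (x • m)) }⟩
  haveI : Mono η := by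
    refine (sheafToPresheaf _ _).mono_of_mono_map ?_
    refine (NatTrans.mono_iff_mono_app _).2 fun V => (ModuleCat.mono_iff_injective _).2 fun m m' h => ?_
    have hinj := (EtStalk.mono_iff_app_injective (Injective.ι (U.obj J))).1 inferInstance V
    have h1 : (Injective.ι (U.obj J)).hom.app V ((1 : Λ) • m) =
        (Injective.ι (U.obj J)).hom.app V ((1 : Λ) • m') :=
      congrArg (fun f : Λ →+ I.obj.obj V => f 1) h
    simpa only [one_smul] using hinj h1
  let r : R ⟶ J := Injective.factorThru (𝟙 J) η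
  have hr : η ≫ r = 𝟙 J := Injective.comp_factorThru _ _
  let e : U.obj R ≅ (ModToAb24.homSh (AddCommGrpCat.of Λ)).obj I :=
    (sheafToPresheaf _ _).preimageIso (Functor.associator _ _ _ ≪≫ Functor.isoWhiskerLeft I.obj (ModToAb24.coIndForgetIso Λ))
  have h3 : (U.map η ≫ e.hom) ≫ e.inv ≫ U.map r = 𝟙 _ := by
    rw [Category.assoc, e.hom_inv_id_assoc, ← Functor.map_comp, hr, CategoryTheory.Functor.map_id]
  let L := EtCoh.pull W.hom
  let c : L.obj ((ModToAb24.homSh (AddCommGrpCat.of Λ)).obj I) ≅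
      (ModToAb24.homSh (X := W.left) (AddCommGrpCat.of Λ)).obj ((EtShriek.restrAlong W.hom).obj I) :=
    ((restrPullIso W.hom).app _).symm
  haveI := injective_restrAlong W.hom I
  have hh := ModToAb24.subsingleton_H_homSh ((EtShriek.restrAlong W.hom).obj I) q (AddCommGrpCat.of Λ)
  haveI : Subsingleton (EtCoh.H W.left (L.obj ((ModToAb24.homSh (AddCommGrpCat.of Λ)).obj I)) (q + 1)) :=
    @Function.Injective.subsingleton _ _ _ (bijective_comp_iso c (q + 1)).1 hh
  refine subsingleton_of_forall_eq 0 fun z => ?_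
  have h2 : z.comp (Ext.mk₀ (L.map (U.map η ≫ e.hom))) (add_zero _) = 0 :=
    Subsingleton.elim (α := EtCoh.H W.left (L.obj ((ModToAb24.homSh (AddCommGrpCat.of Λ)).obj I)) (q + 1)) _ _
  have := congrArg (fun w => Ext.comp w (Ext.mk₀ (L.map (e.inv ≫ U.map r))) (add_zero _)) h2
  simp only [Ext.comp_assoc_of_second_deg_zero, Ext.mk₀_comp_mk₀, ← Functor.map_comp, h3,
    Ext.zero_comp] at this
  erw [CategoryTheory.Functor.map_id] at this
  exact (Ext.comp_mk₀_id z).symm.trans this

variable {Λ}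

theorem nsmul_forget {a : ℕ} (hΛ : (a : Λ) = 0) (M : EtModW.Mod Λ X) : a • 𝟙 ((EtModD.forgetToAb Λ X).obj M) = 0 := by
  refine EtBCQ24.nsmul_id_of_killedBy fun U s => ?_
  exact (Nat.cast_smul_eq_nsmul Λ a (show M.obj.obj (op U) from s)).symm.trans (by rw [hΛ, zero_smul])

/-- Direct images preserve quasi-isomorphisms between complexes of modules with fibrewise acyclic terms. -/
theorem quasiIso_pushMod (hBC : ProperBC.{u}) {a : ℕ} (ha : 0 < a) (hΛ : (a : Λ) = 0)
    {K L : CochainComplex (EtModW.Mod Λ X) ℤ} (g : K ⟶ L) [QuasiIso g]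
    (hK : ∀ m, FibAcyc f ((EtModD.forgetToAb Λ X).obj (K.X m)))
    (hL : ∀ m, FibAcyc f ((EtModD.forgetToAb Λ X).obj (L.X m))) :
    QuasiIso (((EtModW.push Λ f).mapHomologicalComplex (ComplexShape.up ℤ)).map g) := by
  let U := EtModD.forgetToAb Λ X
  let V := EtModD.forgetToAb Λ Y
  have hM := (RFPlus.quasiIso_iff_acyclic_cone g).1 inferInstance
  rw [RFPlus.quasiIso_iff_acyclic_cone]
  intro i
  refine HomologicalComplex.ExactAt.of_iso ?_ (CochainComplex.mappingCone.mapHomologicalComplexIso g (EtModW.push Λ f))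
  have hC := acyclic_push f hBC ((U.mapHomologicalComplex (ComplexShape.up ℤ)).obj (CochainComplex.mappingCone g))
    (fun j => ((hM j).map U)) ha (fun m => nsmul_forget hΛ _) fun m => ?_
  · exact (ShortComplex.exact_map_iff_of_faithful _ V).1 (hC i)
  · intro Ω _ _ ξ q hq
    haveI := preservesBinaryBiproducts_of_preservesBiproducts U
    let e : U.obj ((CochainComplex.mappingCone g).X m) ≅ U.obj (K.X (m + 1)) ⊞ U.obj (L.X m) :=
      U.mapIso (HomologicalComplex.homotopyCofiber.XIsoBiprod g m (m + 1) rfl) ≪≫ U.mapBiprod _ _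
    haveI := fibAcyc_biprod f (hK (m + 1)) (hL m) Ω ξ q hq
    exact (bijective_comp_iso ((EtCoh.pull (pullback.fst f ξ)).mapIso e) q).1.subsingleton

theorem preservesCoproducts_pushMod (ι : Type (u + 1)) :
    PreservesColimitsOfShape (Discrete ι) (EtModW.push Λ f) := by
  haveI := RpushSum24.preservesCoproducts_push f ι
  haveI : (EtModD.forgetToAb Λ Y).ReflectsIsomorphisms := reflectsIsomorphisms_of_reflectsMonomorphisms_of_reflectsEpimorphisms _
  haveI : PreservesColimitsOfShape (Discrete ι) (EtModW.push Λ f ⋙ EtModD.forgetToAb Λ Y) :=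
    inferInstanceAs (PreservesColimitsOfShape (Discrete ι) (EtModD.forgetToAb Λ X ⋙ EtCoh.push f))
  haveI : ReflectsColimitsOfShape (Discrete ι) (EtModD.forgetToAb Λ Y) :=
    reflectsColimitsOfShape_of_reflectsIsomorphisms
  exact preservesColimitsOfShape_of_reflects_of_preserves (EtModW.push Λ f) (EtModD.forgetToAb Λ Y)

attribute [local instance] HasDerivedCategory.standard

/-- The derived direct image of modules killed by a positive integer commutes with sums. -/
theorem preservesCoproducts_RpushMod (hBC : ProperBC.{u}) {a : ℕ} (ha : 0 < a) (hΛ : (a : Λ) = 0)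
    [EtBC.HasRpushMod Λ f] (ι : Type (u + 1)) :
    PreservesColimitsOfShape (Discrete ι) (EtBC.RpushModD Λ f) := by
  haveI := preservesCoproducts_pushMod f (Λ := Λ) ι
  let F := EtModW.push Λ f
  let RF := EtBC.RpushModD Λ f
  let α := (EtBC.pushModKh Λ f).totalRightDerivedUnit DerivedCategory.Qh
    (HomotopyCategory.quasiIso (EtModW.Mod Λ X) (ComplexShape.up ℤ))
  suffices h : ∀ K : ι → EtModD.D Λ X, PreservesColimit (Discrete.functor K) RF from
    ⟨fun {K} => haveI := h fun b => K.obj ⟨b⟩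
      preservesColimit_of_iso_diagram _ (Discrete.natIsoFunctor (F := K)).symm⟩
  intro K
  have hres : ∀ b, ∃ (I : CochainComplex (EtModW.Mod Λ X) ℤ), I.IsKInjective ∧ (∀ n, Injective (I.X n)) ∧
      Nonempty (K b ≅ DerivedCategory.Q.obj I) := fun b => by
    obtain ⟨I, g, hI, hg, -, hinj⟩ := KInjLib.exists_resolution (DerivedCategory.Q.objPreimage (K b))
    haveI := hg
    haveI : IsIso (DerivedCategory.Q.map g) := by
      rw [DerivedCategory.isIso_Q_map_iff_quasiIso]; infer_instance
    exact ⟨I, hI, hinj, ⟨(DerivedCategory.Q.objObjPreimageIso (K b)).symm ≪≫ asIso (DerivedCategory.Q.map g)⟩⟩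
  choose I hI hinj he using hres
  obtain ⟨J, g, hJ, hg, -, hJinj⟩ := KInjLib.exists_resolution (∐ I)
  haveI := hJ; haveI := hg
  have hacyc : ∀ (M : EtModW.Mod Λ X) [Injective M], FibAcyc f ((EtModD.forgetToAb Λ X).obj M) := fun M _ =>
    fibAcyc_of_acyc f hBC (acyc_forget Λ M) (isTorsion_of_nsmul ha (nsmul_forget hΛ M))
  haveI hP : IsIso ((AcyclicSum8.β F RF α).app (∐ I)) := by
    rw [AcyclicSum8.isIso_β_iff F RF α g]
    refine quasiIso_pushMod f hBC ha hΛ g (fun m Ω _ _ ξ q hq => ?_) fun m => ?_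
    · let U := EtModD.forgetToAb Λ X
      let e : U.obj ((∐ I).X m) ≅ ∐ fun b => U.obj ((I b).X m) :=
        U.mapIso (PreservesCoproduct.iso (HomologicalComplex.eval (EtModW.Mod Λ X) (ComplexShape.up ℤ) m) I) ≪≫
          PreservesCoproduct.iso U _
      haveI := fibAcyc_sigma f ι _ (fun b => haveI := hinj b m; hacyc ((I b).X m)) Ω ξ q hq
      exact (bijective_comp_iso ((EtCoh.pull (pullback.fst f ξ)).mapIso e) q).1.subsingleton
    · haveI := hJinj m
      exact hacyc _
  let c := Cofan.mk ((F.mapHomologicalComplex (ComplexShape.up ℤ)).obj (∐ I))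
    fun b => (F.mapHomologicalComplex (ComplexShape.up ℤ)).map (Sigma.ι I b)
  have hc : IsColimit c := HomologicalComplex.isColimitOfEval _ _ fun m =>
    (isColimitMapCoconeCofanMkEquiv (HomologicalComplex.eval (EtModW.Mod Λ Y) (ComplexShape.up ℤ) m) _ _).symm
      (isColimitCofanMkObjOfIsColimit F _ _
        (isColimitCofanMkObjOfIsColimit (HomologicalComplex.eval (EtModW.Mod Λ X) (ComplexShape.up ℤ) m) _ _
          (coproductIsCoproduct I)))
  obtain ⟨h1⟩ := AcyclicSum8.isColimit_Q c hc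
  obtain ⟨h2⟩ := AcyclicSum8.isColimit_Q (Cofan.mk (∐ I) (Sigma.ι I)) (coproductIsCoproduct I)
  let e : ∀ b, DerivedCategory.Q.obj ((F.mapHomologicalComplex (ComplexShape.up ℤ)).obj (I b)) ≅
      RF.obj (DerivedCategory.Q.obj (I b)) := fun b =>
    haveI := hI b
    @asIso _ _ _ _ ((AcyclicSum8.β F RF α).app (I b)) (AcyclicSum8.isIso_β_kinj F RF α (I b))
  haveI : PreservesColimit (Discrete.functor fun b => DerivedCategory.Q.obj (I b)) RF :=
    preservesColimit_of_preserves_colimit_cocone h2 ((isColimitMapCoconeCofanMkEquiv RF _ _).symm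
      (((IsColimit.precomposeHomEquiv (Discrete.natIso fun b => e b.as).symm _).symm h1).ofIsoColimit
        (Cocone.ext (@asIso _ _ _ _ ((AcyclicSum8.β F RF α).app (∐ I)) hP) fun ⟨b⟩ => by
          change ((e b).inv ≫ _) ≫ _ = _
          rw [Category.assoc, Iso.inv_comp_eq]
          exact (AcyclicSum8.β F RF α).naturality (Sigma.ι I b))))
  exact preservesColimit_of_iso_diagram RF (Discrete.natIso fun b => (he b.as).some.symm :
    (Discrete.functor fun b => DerivedCategory.Q.obj (I b)) ≅ Discrete.functor K)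

end Mod

end Groth.Agent.PBC24
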