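import Groth.Agent.Lib.PBC24.ModSum
import Groth.Agent.Lib.FormalModH7.DerAdj
import Groth.Agent.Lib.SiteRlim16.RF
import Groth.Agent.Lib.RHom.Small

/-!
# The derived direct image of modules along a proper morphism is a left adjoint
-/

set_option autoImplicit false
set_option linter.style.haveILetI false
set_option backward.isDefEq.respectTransparency false
set_option backward.isDefEq.respectTransparency.types false

universe u

open CategoryTheory CategoryTheory.Limits AlgebraicGeometry

attribute [local instance] HasDerivedCategory.standard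

namespace Groth.Agent.PBC24

theorem isLeftAdjoint_RpushMod (hBC : ProperBC.{u}) {X Y : Scheme.{u}} (f : X ⟶ Y) [IsProper f]
    {Λ : Type (u + 1)} [CommRing Λ] {a : ℕ} (ha : 0 < a) (hΛ : (a : Λ) = 0) [EtBC.HasRpushMod Λ f] :
    (EtBC.RpushModD Λ f).IsLeftAdjoint := by
  let α := (EtBC.pushModKh Λ f).totalRightDerivedUnit DerivedCategory.Qh
    (HomotopyCategory.quasiIso (EtModW.Mod Λ X) (ComplexShape.up ℤ))
  obtain ⟨_, _⟩ := SiteRlim.exists_commShift_isTriangulated_map (G := EtModW.push Λ f) α
    KInjLib.enoughKInj_of_grothendieck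
  haveI : ∀ ι : Type (u + 1), PreservesColimitsOfShape (Discrete ι) (EtBC.RpushModD Λ f) :=
    fun ι => preservesCoproducts_RpushMod f hBC ha hΛ ι
  haveI : (EtBC.RpushModD Λ f).Additive := inferInstance
  exact RHom.isLeftAdjoint_of_homExact _ (DerAdj.homExact_of_isTriangulated _)

end Groth.Agent.PBC24
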