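import Groth.Agent.Lib.PBC24.Props
import Groth.Agent.Lib.HensPoint24.Main
import Groth.Agent.Lib.EtAcyc24.CompDescent
import Groth.Agent.Lib.EtAcyc24.BCTransfer
import Groth.Agent.Lib.EtAcyc24.QuasiFiniteBase
import Groth.Agent.Lib.EtStalk.Push
import Groth.Agent.Lib.P1Pow11.Base
import Groth.Agent.Lib.Chow13.General

/-!
# The comparison with the closed fibre: from the projective line to all proper morphisms

The comparison is proved for integral morphisms, it is stable under composition and it descends along surjective
morphisms which have it, as soon as base change maps are isomorphisms for morphisms which have it.  By the finite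
surjections `ℙ¹ ×_S ℙᵐ → ℙᵐ⁺¹` and Chow's lemma it holds for every proper morphism once it holds for the
projective line over strictly henselian rings.
-/

set_option autoImplicit false
set_option linter.style.haveILetI false
set_option linter.unusedSectionVars false
universe u

open CategoryTheory CategoryTheory.Limits AlgebraicGeometry Opposite IsLocalRing

namespace Groth.Agent.PBC24

/-- Base change maps are isomorphisms for morphisms with the comparison property. -/
def BCQHyp : Prop :=
  ∀ {X S Y T : Scheme.{u}} (f : X ⟶ S) (g : T ⟶ S) [QuasiCompact g] [QuasiSeparated g], PBCProp g →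
    ∀ (h : Y ⟶ X) (e : Y ⟶ T) (c : IsPullback e h g f) [PreservesFiniteLimits (EtCoh.pull e)] (F : EtCoh.Ab T),
      EtCoh.IsTorsion F → ∀ q : ℕ, IsIso (EtBC.bcQ g f h e c.w q F)

/-- The comparison for the projective line over strictly henselian rings. -/
def ProjLineHyp : Prop :=
  ∀ (A : Type u) [CommRing A] [HenselianLocalRing A] [IsSepClosed (ResidueField A)],
    ClCompN (CohB1.ProjSpaceOver.toBase 1 (Spec (CommRingCat.of A)))

/-- Integral morphisms have the comparison property. -/
theorem pbcProp_of_isIntegralHom {X S : Scheme.{u}} (f : X ⟶ S) [IsIntegralHom f] : PBCProp f := by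
  intro A _ _ _ σ L n
  haveI : IsIntegralHom (pullback.snd f σ) :=
    MorphismProperty.pullback_snd f σ ‹_›
  refine EtAcyc24.compN_of_integral (π := pullback.snd f σ) (π' := pullback.snd (pullback.snd f σ) _)
    (IsPullback.of_hasPullback (pullback.snd f σ) (Spec.map (CommRingCat.ofHom (residue A)))) L n ?_
  intro F _ _
  exact ⟨fun q _ => HensPoint24.bijective_Hpull F q, (HensPoint24.bijective_Hpull F (n + 1)).1⟩

section Local

variable {A : Type u} [CommRing A] [HenselianLocalRing A] {X Y : Scheme.{u}} (p : X ⟶ Y)
  (b : Y ⟶ Spec (CommRingCat.of A))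

/-- The map of closed fibres of a morphism over a local base. -/
noncomputable def clMap : pullback (p ≫ b) (Spec.map (CommRingCat.ofHom (residue A))) ⟶
    pullback b (Spec.map (CommRingCat.ofHom (residue A))) :=
  pullback.lift (closedIncl (p ≫ b) ≫ p) (pullback.snd _ _) (by rw [Category.assoc]; exact pullback.condition)

theorem isPullback_clMap : IsPullback (closedIncl (p ≫ b)) (clMap p b) p (closedIncl b) := by
  have e2 : clMap p b ≫ pullback.snd _ _ = pullback.snd _ _ := pullback.lift_snd _ _ _
  refine IsPullback.of_bot ?_ (pullback.lift_fst _ _ _).symm (IsPullback.of_hasPullback b _)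
  rw [e2]
  exact IsPullback.of_hasPullback (p ≫ b) _

variable [IsProper p] [IsProper b]

theorem spaces :
    CompactSpace Y ∧ QuasiSeparatedSpace Y ∧ CompactSpace X ∧ QuasiSeparatedSpace X ∧
      CompactSpace ↥(pullback b (Spec.map (CommRingCat.ofHom (residue A)))) ∧
      QuasiSeparatedSpace ↥(pullback b (Spec.map (CommRingCat.ofHom (residue A)))) ∧
      CompactSpace ↥(pullback (p ≫ b) (Spec.map (CommRingCat.ofHom (residue A)))) ∧
      QuasiSeparatedSpace ↥(pullback (p ≫ b) (Spec.map (CommRingCat.ofHom (residue A)))) :=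
  ⟨QuasiCompact.compactSpace_of_compactSpace b, quasiSeparatedSpace_of_quasiSeparated b,
    QuasiCompact.compactSpace_of_compactSpace (p ≫ b), quasiSeparatedSpace_of_quasiSeparated (p ≫ b),
    QuasiCompact.compactSpace_of_compactSpace (pullback.snd b _),
    quasiSeparatedSpace_of_quasiSeparated (pullback.snd b _),
    QuasiCompact.compactSpace_of_compactSpace (pullback.snd (p ≫ b) _),
    quasiSeparatedSpace_of_quasiSeparated (pullback.snd (p ≫ b) _)⟩

/-- The comparison is transferred along a morphism with the comparison property. -/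
theorem clCompN_comp (hT : BCQHyp.{u}) (hp : PBCProp p) (hb : ClCompN b) : ClCompN (p ≫ b) := by
  intro L n
  obtain ⟨_, _, _, _, _, _, _, _⟩ := spaces p b
  have sq := isPullback_clMap p b
  exact EtAcyc24.compN_of_bcQ (closedIncl b) p (closedIncl (p ≫ b)) (clMap p b) sq.w L n (hb L n)
    (fun F hF i _ => hT (closedIncl b) p hp (clMap p b) (closedIncl (p ≫ b)) sq F (isTorsion_of_isLTorsion hF) i)
    (fun F hF => EtAcyc24.isLTorsion_push p L hF)

/-- The comparison descends along a surjective morphism with the comparison property. -/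
theorem clCompN_of_surjective (hT : BCQHyp.{u}) (hs : Surjective p) (hp : PBCProp p)
    (h : ClCompN (p ≫ b)) : ClCompN b := by
  obtain ⟨_, _, _, _, _, _, _, _⟩ := spaces p b
  have sq := isPullback_clMap p b
  have key : ∀ (L : Set ℕ) (m : ℕ), EtAcyc.CompN (closedIncl b) L (m + 1) := by
    intro L m
    refine EtAcyc24.compN_of_descent (closedIncl b) p (closedIncl (p ≫ b)) (clMap p b) sq.w
      hs.surj L (m + 1) m.succ_pos (h L (m + 1)) (fun J hJ => ?_) (fun J hJ hA i hi _ => ?_)
    · haveI := hT (closedIncl b) p hp (clMap p b) (closedIncl (p ≫ b)) sq J (isTorsion_of_isLTorsion hJ) 0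
      exact EtAcyc24.isIso_baseChange0_of_bcQ (closedIncl b) p (closedIncl (p ≫ b)) (clMap p b) sq.w J
    · haveI := hT (closedIncl b) p hp (clMap p b) (closedIncl (p ≫ b)) sq J (isTorsion_of_isLTorsion hJ) i
      haveI : (EtCoh.pull (closedIncl b)).Additive := (EtCoh.pullPushAdj (closedIncl b)).left_adjoint_additive
      exact IsZero.of_iso (Functor.map_isZero _ (EtAcyc24.isZero_Rpush_of_acyc p hA i hi))
        (asIso (EtBC.bcQ p (closedIncl b) (clMap p b) (closedIncl (p ≫ b)) sq.w i J)).symm
  intro L n F hF _
  have hk := key L n F hF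
  exact ⟨fun q hq => hk.1 q (hq.trans (Nat.le_succ n)), (hk.1 (n + 1) le_rfl).1⟩

end Local

section Global

variable {X Y S : Scheme.{u}} (p : X ⟶ Y) (b : Y ⟶ S)

/-- The base change of a morphism over `S`. -/
noncomputable def bcHom {T : Scheme.{u}} (σ : T ⟶ S) : pullback (p ≫ b) σ ⟶ pullback b σ :=
  pullback.lift (pullback.fst _ _ ≫ p) (pullback.snd _ _) (by rw [Category.assoc]; exact pullback.condition)

theorem bcHom_snd {T : Scheme.{u}} (σ : T ⟶ S) : bcHom p b σ ≫ pullback.snd b σ = pullback.snd (p ≫ b) σ :=
  pullback.lift_snd _ _ _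

theorem isPullback_bcHom {T : Scheme.{u}} (σ : T ⟶ S) :
    IsPullback (pullback.fst (p ≫ b) σ) (bcHom p b σ) p (pullback.fst b σ) := by
  refine IsPullback.of_bot ?_ (pullback.lift_fst _ _ _).symm (IsPullback.of_hasPullback b σ)
  rw [bcHom_snd]
  exact IsPullback.of_hasPullback (p ≫ b) σ

variable [IsProper p] [IsProper b]

/-- The comparison property is stable under composition. -/
theorem PBCProp.comp (hT : BCQHyp.{u}) (hp : PBCProp p) (hb : PBCProp b) : PBCProp (p ≫ b) := by
  intro A _ _ _ σ
  haveI : IsProper (bcHom p b σ) := MorphismProperty.of_isPullback (isPullback_bcHom p b σ) ‹IsProper p›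
  haveI : IsProper (pullback.snd b σ) := MorphismProperty.pullback_snd b σ ‹IsProper b›
  rw [← bcHom_snd]
  exact clCompN_comp _ _ hT (hp.baseChange (isPullback_bcHom p b σ)) (hb A σ)

/-- The comparison property descends along surjective morphisms which have it. -/
theorem PBCProp.of_surjective (hT : BCQHyp.{u}) (hs : Surjective p) (hp : PBCProp p) (h : PBCProp (p ≫ b)) :
    PBCProp b := by
  intro A _ _ _ σ
  haveI : IsProper (bcHom p b σ) := MorphismProperty.of_isPullback (isPullback_bcHom p b σ) ‹IsProper p›
  haveI : IsProper (pullback.snd b σ) := MorphismProperty.pullback_snd b σ ‹IsProper b›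
  haveI : Surjective (bcHom p b σ) := MorphismProperty.of_isPullback (isPullback_bcHom p b σ) hs
  refine clCompN_of_surjective (bcHom p b σ) (pullback.snd b σ) hT inferInstance (hp.baseChange (isPullback_bcHom p b σ)) ?_
  rw [bcHom_snd]
  exact h A σ

end Global

/-- The structure morphism of projective space is proper. -/
theorem isProper_toBase (n : ℕ) (S : Scheme.{u}) : IsProper (CohB1.ProjSpaceOver.toBase n S) := by
  haveI : IsProper (CohB1.ProjSpace.toSpec n (ULift.{u} ℤ)) := inferInstance
  exact MorphismProperty.pullback_snd _ _ this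

/-- The projective line has the comparison property. -/
theorem pbcProp_projLine (hL : ProjLineHyp.{u}) (S : Scheme.{u}) :
    PBCProp (CohB1.ProjSpaceOver.toBase 1 S) := by
  intro A _ _ _ σ
  let R := ULift.{u} ℤ
  have h1 : IsPullback (pullback.fst _ _ : CohB1.ProjSpaceOver 1 S ⟶ _) (CohB1.ProjSpaceOver.toBase 1 S)
      (CohB1.ProjSpace.toSpec 1 R) (specULiftZIsTerminal.from S) := IsPullback.of_hasPullback _ _
  have hA : IsPullback (pullback.fst _ _ : CohB1.ProjSpaceOver 1 (Spec (CommRingCat.of A)) ⟶ _)
      (CohB1.ProjSpaceOver.toBase 1 (Spec (CommRingCat.of A)))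
      (CohB1.ProjSpace.toSpec 1 R) (specULiftZIsTerminal.from _) := IsPullback.of_hasPullback _ _
  have hσ := (IsPullback.of_hasPullback (CohB1.ProjSpaceOver.toBase 1 S) σ).paste_horiz h1
  rw [specULiftZIsTerminal.hom_ext (σ ≫ specULiftZIsTerminal.from S) (specULiftZIsTerminal.from _)] at hσ
  exact (hL A).of_iso (hσ.isoIsPullback _ _ hA) (hσ.isoIsPullback_hom_snd _ _ hA)

/-- Projective spaces have the comparison property. -/
theorem pbcProp_projSpace (hT : BCQHyp.{u}) (hL : ProjLineHyp.{u}) (n : ℕ) (S : Scheme.{u}) :
    PBCProp (CohB1.ProjSpaceOver.toBase n S) := by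
  induction n with
  | zero =>
    haveI : IsIso (CohB1.ProjSpaceOver.toBase 0 S) :=
      MorphismProperty.of_isPullback (P := MorphismProperty.isomorphisms Scheme.{u})
        (IsPullback.of_hasPullback (CohB1.ProjSpace.toSpec 0 (ULift.{u} ℤ)) (specULiftZIsTerminal.from S))
        (P1Pow11.isIso_toSpec_zero.{u})
    exact pbcProp_of_isIntegralHom _
  | succ m ih =>
    obtain ⟨Ψ, hfin, hsurj, hΨ⟩ := P1Pow11.exists_finite_surjective_prod_succ S m
    let a := CohB1.ProjSpaceOver.toBase 1 S
    let c := CohB1.ProjSpaceOver.toBase m S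
    haveI : IsProper a := isProper_toBase 1 S
    haveI : IsProper c := isProper_toBase m S
    haveI : IsProper (CohB1.ProjSpaceOver.toBase (m + 1) S) := isProper_toBase (m + 1) S
    haveI : IsProper (pullback.fst a c) := MorphismProperty.pullback_fst a c ‹IsProper c›
    haveI := hfin
    refine PBCProp.of_surjective Ψ _ hT hsurj (pbcProp_of_isIntegralHom Ψ) ?_
    rw [hΨ]
    exact PBCProp.comp _ _ hT (ih.baseChange (IsPullback.of_hasPullback a c).flip) (pbcProp_projLine hL S)

/-- Every proper morphism has the comparison property, granting it for the projective line and the base change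
isomorphisms. -/
theorem pbcProp_of_isProper' (hT : BCQHyp.{u}) (hL : ProjLineHyp.{u}) {X S : Scheme.{u}} (f : X ⟶ S)
    [IsProper f] : PBCProp f := by
  intro A _ _ _ σ
  let g := pullback.snd f σ
  haveI : IsProper g := MorphismProperty.pullback_snd f σ ‹IsProper f›
  obtain ⟨n, X', π, j, hj, hjπ, hπ, hπs⟩ := Chow13.chow g
  haveI := hj
  haveI := hπ
  let b := CohB1.ProjSpaceOver.toBase n (Spec (CommRingCat.of A))
  haveI : IsProper b := isProper_toBase n _
  haveI : IsProper (j ≫ b) := by rw [hjπ]; infer_instance
  haveI : IsProper j := IsProper.of_comp j b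
  haveI : IsClosedImmersion j := IsClosedImmersion.of_isPreimmersion j j.isClosedMap.isClosed_range
  let l : X' ⟶ pullback g b := pullback.lift π j hjπ.symm
  haveI : IsClosedImmersion (l ≫ pullback.snd g b) := by rw [pullback.lift_snd]; infer_instance
  haveI : IsClosedImmersion l := IsClosedImmersion.of_comp l (pullback.snd g b)
  haveI : IsProper (pullback.fst g b) := MorphismProperty.pullback_fst g b ‹IsProper b›
  have hb : PBCProp b := pbcProp_projSpace hT hL n _
  have hπp : PBCProp π := by
    have := PBCProp.comp l (pullback.fst g b) hT (pbcProp_of_isIntegralHom l)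
      (hb.baseChange (IsPullback.of_hasPullback g b).flip)
    rwa [pullback.lift_fst] at this
  refine clCompN_of_surjective π g hT hπs hπp ?_
  rw [← hjπ]
  exact clCompN_comp j b hT (pbcProp_of_isIntegralHom j) (hb.clCompN (IsPullback.of_id_fst (f := b)))

end Groth.Agent.PBC24
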