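import Groth.Agent.Lib.PBC24.AmpAux
import Groth.Agent.Lib.PBC24.ModBC0
import Groth.Agent.Lib.PBC24.ModSumAdj
import Groth.Agent.Lib.PBC24.CdSupp
import Groth.Agent.Lib.BcMapQ6.AdjEt
import Groth.Agent.S0403
import Groth.Prelude.Def_EtDl

/-!
# The direct image with proper support of modules on bounded below objects
-/

set_option autoImplicit false
set_option linter.style.haveILetI false
set_option linter.unusedSectionVars false
set_option backward.isDefEq.respectTransparency false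
set_option backward.isDefEq.respectTransparency.types false

universe u

open CategoryTheory CategoryTheory.Limits AlgebraicGeometry Opposite HomologicalComplex

namespace Groth.Agent.PBC24

attribute [local instance] HasDerivedCategory.standard

variable (Λ : Type (u + 1)) [CommRing Λ]

local notation "cx" F => Functor.mapHomologicalComplex F (ComplexShape.up ℤ)

section ExtZero

variable {U X : Scheme.{u}} (j : U ⟶ X) [Etale j] [EtShriek.JCont j]

/-- Extension by zero commutes with taking underlying abelian sheaves. -/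
noncomputable def extZeroForget :
    EtModD.forgetToAb Λ U ⋙ EtShriek.extZero j ≅ EtDl.extZeroMod Λ j ⋙ EtModD.forgetToAb Λ X :=
  Adjunction.leftAdjointUniq ((forgetAdj Λ U).comp (EtShriek.extZeroAdj j))
    (((EtDl.extZeroModAdj Λ j).comp (forgetAdj Λ X)).ofNatIsoRight
      (Iso.refl (EtShriek.restrAlong j ⋙ coIndSh Λ U) :
        coIndSh Λ X ⋙ EtDl.restrMod Λ j ≅ EtShriek.restrAlong j ⋙ coIndSh Λ U))

theorem preservesFiniteLimits_extZeroMod [IsOpenImmersion j] : PreservesFiniteLimits (EtDl.extZeroMod Λ j) := by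
  haveI := EtStalk.preservesFiniteLimits_extZero j
  haveI : (EtModD.forgetToAb Λ X).ReflectsIsomorphisms :=
    reflectsIsomorphisms_of_reflectsMonomorphisms_of_reflectsEpimorphisms _
  refine ⟨fun K _ _ => ?_⟩
  haveI : PreservesLimitsOfShape K (EtDl.extZeroMod Λ j ⋙ EtModD.forgetToAb Λ X) :=
    preservesLimitsOfShape_of_natIso (extZeroForget Λ j)
  haveI : ReflectsLimitsOfShape K (EtModD.forgetToAb Λ X) := reflectsLimitsOfShape_of_reflectsIsomorphisms
  exact preservesLimitsOfShape_of_reflects_of_preserves (EtDl.extZeroMod Λ j) (EtModD.forgetToAb Λ X)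

theorem isLeftAdjoint_extZeroD [PreservesFiniteLimits (EtDl.extZeroMod Λ j)] :
    (EtDl.extZeroMod Λ j).mapDerivedCategory.IsLeftAdjoint := by
  haveI : PreservesFiniteColimits (EtDl.extZeroMod Λ j) := inferInstance
  have hk : KInjLib.EnoughKInj (EtModW.Mod Λ X) := KInjLib.enoughKInj_of_grothendieck
  let G := (EtDl.restrMod Λ j).mapHomotopyCategory (ComplexShape.up ℤ) ⋙ DerivedCategory.Qh
  haveI : G.HasRightDerivedFunctor (HomotopyCategory.quasiIso (EtModW.Mod Λ X) (ComplexShape.up ℤ)) :=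
    KInjLib.hasRightDerivedFunctor hk _
  let η := G.totalRightDerivedUnit DerivedCategory.Qh (HomotopyCategory.quasiIso (EtModW.Mod Λ X) (ComplexShape.up ℤ))
  exact (KInjLib.derivedAdj (W := HomotopyCategory.quasiIso (EtModW.Mod Λ X) (ComplexShape.up ℤ))
    (HomotopyCategory.quasiIso (EtModW.Mod Λ U) (ComplexShape.up ℤ))
    (KInjLib.adjHomotopy (EtDl.extZeroModAdj Λ j) (ComplexShape.up ℤ)) ((EtDl.extZeroMod Λ j).mapDerivedCategory)
    (EtDl.extZeroMod Λ j).mapDerivedCategoryFactorsh η (KInjLib.derivingClass_Qh hk)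
    (fun I hI => KInjLib.isIso_unit_of_kInjObj hk η I hI)).isLeftAdjoint

end ExtZero

/-- The fibres of a proper morphism to a quasi-compact scheme have bounded dimension. -/
theorem exists_fibre_dim_bound {P S : Scheme.{u}} (p : P ⟶ S) [IsProper p] [CompactSpace S] :
    ∃ D : ℕ, ∀ s : S, topologicalKrullDim ↥(p.fiber s) ≤ D := by
  have hfin : ∀ s : S, ∃ d : ℕ, topologicalKrullDim ↥(p.fiber s) ≤ d := fun s => by
    let t := p.fiberToSpecResidueField s
    haveI : IsProper t := inferInstanceAs (IsProper (pullback.snd p (S.fromSpecResidueField s)))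
    haveI : IsLocallyNoetherian (p.fiber s) := LocallyOfFiniteType.isLocallyNoetherian t
    haveI : CompactSpace (p.fiber s) := QuasiCompact.compactSpace_of_compactSpace t
    haveI : IsNoetherian (p.fiber s) := ⟨⟩
    have hg := genericPoints.finite (TopologicalSpace.NoetherianSpace.finite_irreducibleComponents (α := p.fiber s))
    obtain ⟨d, hd⟩ := (hg.image (VarDim.sdim t)).bddAbove
    refine ⟨d, ?_⟩
    rw [VarDim.dim_eq_iSup_sdim t]
    refine iSup_le fun x => ?_
    let η := genericPoints.ofComponent (⟨irreducibleComponent x, irreducibleComponent_mem_irreducibleComponents _⟩ :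
      irreducibleComponents ((p.fiber s : Scheme.{u}) : Type u))
    have hs : η.1 ⤳ x := (genericPoints.isGenericPoint_ofComponent _).specializes mem_irreducibleComponent
    have h1 : VarDim.sdim t η.1 ≤ d := hd ⟨η.1, η.2, rfl⟩
    rcases eq_or_ne η.1 x with he | hne
    · exact_mod_cast he ▸ h1
    · exact_mod_cast (VarDim.sdim_lt_of_specializes t hs hne).le.trans h1
  obtain ⟨D, hD⟩ := (isCompact_univ (X := S)).elim_directed_cover
    (fun d : ℕ => {s : S | topologicalKrullDim ↥(p.fiber s) ≤ d}) (fun d => Groth.Agent.S0403.result p d)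
    (fun s _ => Set.mem_iUnion.2 (hfin s))
    (Monotone.directed_le fun a b hab s (hs : topologicalKrullDim ↥(p.fiber s) ≤ (a : WithBot ℕ∞)) =>
      le_trans hs (by exact_mod_cast hab))
  exact ⟨D, fun s => hD (Set.mem_univ s)⟩

variable {Λ} {a : ℕ} (ha : 0 < a) (hΛ : (a : Λ) = 0) (hBC : ProperBC.{u})

include ha hΛ hBC in
/-- The direct image of a complex of injective modules which is exact above `b`. -/
theorem exactAt_pushMod {P S : Scheme.{u}} (p : P ⟶ S) [IsProper p] (N : ℕ) (J : CochainComplex (EtModW.Mod Λ P) ℤ)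
    (hinj : ∀ m, Injective (J.X m)) (b : ℤ) (hex : ∀ m, b < m → J.ExactAt m)
    (hb : ∀ q, N < q → IsZero ((EtCoh.Rpush p q).obj (((cx (EtModD.forgetToAb Λ P)).obj J).cycles b)))
    (i : ℤ) (hi : b + N < i) : ((cx (EtModW.push Λ p)).obj J).ExactAt i := by
  haveI : PreservesLimitsOfSize.{0, 0} (EtCoh.push p) := (EtCoh.pullPushAdj p).rightAdjoint_preservesLimits
  let J' := (cx (EtModD.forgetToAb Λ P)).obj J
  have h := exactAt_map (EtCoh.push p) J' (fun m q hq => by
      haveI := hinj m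
      exact EtAcyc24.isZero_Rpush_of_acyc p (acyc_forget Λ (J.X m)) q hq)
    N b (fun m hm => (hex m hm).map (EtModD.forgetToAb Λ P)) hb i hi
  exact (ShortComplex.exact_map_iff_of_faithful _ (EtModD.forgetToAb Λ S)).1 h

include ha hΛ hBC in
/-- The derived direct image along a proper morphism has bounded amplitude. -/
theorem isLE_RpushModD {P S : Scheme.{u}} (p : P ⟶ S) [IsProper p] [EtBC.HasRpushMod Λ p] (D : ℕ)
    (hdim : ∀ s : S, topologicalKrullDim ↥(p.fiber s) ≤ D) (M : EtModD.D Λ P) (b : ℤ) [M.IsLE b] :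
    ((EtBC.RpushModD Λ p).obj M).IsLE (b + 2 * (D : ℤ)) := by
  obtain ⟨J, φ, hJ, hφ, -, hinj⟩ := KInjLib.exists_resolution (DerivedCategory.Q.objPreimage M)
  haveI := hJ; haveI := hφ
  haveI : IsIso (DerivedCategory.Q.map φ) := (DerivedCategory.isIso_Q_map_iff_quasiIso _ φ).2 inferInstance
  let e : DerivedCategory.Q.obj J ≅ M :=
    (asIso (DerivedCategory.Q.map φ)).symm ≪≫ DerivedCategory.Q.objObjPreimageIso M
  let α := (EtBC.pushModKh Λ p).totalRightDerivedUnit DerivedCategory.Qh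
    (HomotopyCategory.quasiIso (EtModW.Mod Λ P) (ComplexShape.up ℤ))
  haveI : IsIso ((SitePAdj.αQ α).app J) := SitePAdj.isIso_αQ α KInjLib.enoughKInj_of_grothendieck J
  let e' : DerivedCategory.Q.obj ((cx (EtModW.push Λ p)).obj J) ≅ (EtBC.RpushModD Λ p).obj M :=
    asIso ((SitePAdj.αQ α).app J) ≪≫ (EtBC.RpushModD Λ p).mapIso e
  haveI : (DerivedCategory.Q.obj J).IsLE b := DerivedCategory.TStructure.t.isLE_of_iso e.symm b
  haveI hJb : J.IsLE b := (DerivedCategory.isLE_Q_obj_iff J b).1 inferInstance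
  suffices CochainComplex.IsLE ((cx (EtModW.push Λ p)).obj J) (b + 2 * (D : ℤ)) from
    DerivedCategory.TStructure.t.isLE_of_iso e' _
  rw [CochainComplex.isLE_iff]
  intro i hi
  let J' := (cx (EtModD.forgetToAb Λ P)).obj J
  have h0 : a • 𝟙 (J'.cycles b) = 0 := by
    rw [← cancel_mono (J'.iCycles b), zero_comp, Preadditive.nsmul_comp, Category.id_comp]
    calc a • J'.iCycles b = J'.iCycles b ≫ (a • 𝟙 (J'.X b)) := by
          rw [Preadditive.comp_nsmul, Category.comp_id]
      _ = 0 := by rw [show a • 𝟙 (J'.X b) = 0 from nsmul_forget hΛ (J.X b), comp_zero]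
  exact exactAt_pushMod ha hΛ hBC p (2 * D) J hinj b (fun m hm => J.exactAt_of_isLE b m hm)
    (fun q hq => isZero_Rpush_of_dim hBC p D hdim _ (isTorsion_of_nsmul ha h0) q hq) i (by push_cast; omega)

theorem isLE_mapDerived {A B : Type*} [Category A] [Abelian A] [HasDerivedCategory A] [Category B] [Abelian B]
    [HasDerivedCategory B] (F : A ⥤ B) [F.Additive] [PreservesFiniteLimits F] [PreservesFiniteColimits F]
    (M : DerivedCategory A) (b : ℤ) [M.IsLE b] : (F.mapDerivedCategory.obj M).IsLE b := by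
  obtain ⟨C, hC, ⟨e⟩⟩ := DerivedCategory.exists_iso_Q_obj_of_isLE M b
  haveI : CochainComplex.IsStrictlyLE ((F.mapHomologicalComplex (ComplexShape.up ℤ)).obj C) b :=
    (CochainComplex.isStrictlyLE_iff _ _).2 fun i hi => F.map_isZero (C.isZero_of_isStrictlyLE b i hi)
  haveI : DerivedCategory.IsLE ((F.mapHomologicalComplex (ComplexShape.up ℤ) ⋙ DerivedCategory.Q).obj C) b :=
    inferInstanceAs ((DerivedCategory.Q.obj ((F.mapHomologicalComplex (ComplexShape.up ℤ)).obj C)).IsLE b)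
  exact DerivedCategory.TStructure.t.isLE_of_iso
    ((F.mapDerivedCategoryFactors.app C).symm ≪≫ F.mapDerivedCategory.mapIso e.symm) b

section Shriek

variable {X S : Scheme.{u}} {f : X ⟶ S} (c : DEt.Compactification f) [EtBC.HasRpushMod Λ c.fbar]
  [PreservesFiniteLimits (EtDl.extZeroMod Λ c.j)]

/-- The direct image with proper support on all objects. -/
noncomputable abbrev shriekD : EtModD.D Λ X ⥤ EtModD.D Λ S :=
  (EtDl.extZeroMod Λ c.j).mapDerivedCategory ⋙ EtBC.RpushModD Λ c.fbar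

theorem nonempty_shriekPlusIso :
    Nonempty (EtDl.RshriekPlus Λ c ⋙ DerivedCategory.Plus.ι ≅ DerivedCategory.Plus.ι ⋙ shriekD (Λ := Λ) c) := by
  obtain ⟨e1⟩ := nonempty_plus_rightDerived (EtDl.extZeroMod Λ c.j)
    (RF := (EtDl.extZeroMod Λ c.j).mapDerivedCategory) (EtDl.extZeroMod Λ c.j).mapDerivedCategoryFactorsh.inv
    (fun _ _ => inferInstance)
  let α := (EtBC.pushModKh Λ c.fbar).totalRightDerivedUnit DerivedCategory.Qh
    (HomotopyCategory.quasiIso (EtModW.Mod Λ c.Xbar) (ComplexShape.up ℤ))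
  obtain ⟨e2⟩ := nonempty_plus_rightDerived (EtModW.push Λ c.fbar) α fun I hI => by
    haveI := hI
    exact KInjLib.isIso_app_of_isKInjective KInjLib.enoughKInj_of_grothendieck α I
  exact ⟨Functor.associator _ _ _ ≪≫ Functor.isoWhiskerLeft (EtDl.extZeroPlus Λ c.j) e2 ≪≫
    (Functor.associator _ _ _).symm ≪≫ Functor.isoWhiskerRight e1 (EtBC.RpushModD Λ c.fbar) ≪≫
    Functor.associator _ _ _⟩

include ha hΛ hBC in
theorem isLeftAdjoint_shriekPlus [CompactSpace S] : (EtDl.RshriekPlus Λ c).IsLeftAdjoint := by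
  obtain ⟨D, hD⟩ := exists_fibre_dim_bound c.fbar
  haveI := isLeftAdjoint_extZeroD Λ c.j
  haveI := isLeftAdjoint_RpushMod hBC c.fbar ha hΛ
  let L := shriekD (Λ := Λ) c
  haveI : L.IsLeftAdjoint := inferInstance
  let adj := Adjunction.ofIsLeftAdjoint L
  obtain ⟨θ⟩ := nonempty_shriekPlusIso (Λ := Λ) c
  have hp : ∀ M : DerivedCategory.Plus (EtModW.Mod Λ S),
      DerivedCategory.TStructure.t.plus (L.rightAdjoint.obj M.obj) := fun M => by
    obtain ⟨k, hk⟩ := M.property
    refine ⟨k - 2 * (D : ℤ), ?_⟩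
    let t := DerivedCategory.TStructure.t (C := EtModW.Mod Λ X)
    let R := L.rightAdjoint.obj M.obj
    show t.IsGE R (k - 2 * (D : ℤ))
    rw [t.isGE_iff_isZero_truncLE_obj (k - 2 * (D : ℤ) - 1) _ (by omega)]
    rw [IsZero.iff_id_eq_zero]
    refine t.to_truncLE_obj_ext (Subsingleton.elim (h := ?_) _ _)
    haveI : ((t.truncLE (k - 2 * (D : ℤ) - 1)).obj R).IsLE (k - 2 * (D : ℤ) - 1) := t.isLE_truncLE_obj R _ _
    haveI : ((EtDl.extZeroMod Λ c.j).mapDerivedCategory.obj ((t.truncLE (k - 2 * (D : ℤ) - 1)).obj R)).IsLE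
        (k - 2 * (D : ℤ) - 1) := isLE_mapDerived _ _ _
    haveI hle := isLE_RpushModD ha hΛ hBC c.fbar D hD
      ((EtDl.extZeroMod Λ c.j).mapDerivedCategory.obj ((t.truncLE (k - 2 * (D : ℤ) - 1)).obj R))
      (k - 2 * (D : ℤ) - 1)
    refine ⟨fun u v => (adj.homEquiv _ _).symm.injective ?_⟩
    exact (DerivedCategory.TStructure.t.zero_of_isLE_of_isGE _ _ k (by omega) hle hk).trans
      (DerivedCategory.TStructure.t.zero_of_isLE_of_isGE _ _ k (by omega) hle hk).symm
  let G : DerivedCategory.Plus (EtModW.Mod Λ S) ⥤ DerivedCategory.Plus (EtModW.Mod Λ X) :=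
    ObjectProperty.lift _ (DerivedCategory.Plus.ι ⋙ L.rightAdjoint) hp
  exact (adj.restrictFullyFaithful (L := EtDl.RshriekPlus Λ c) (R := G)
    (DerivedCategory.TStructure.t (C := EtModW.Mod Λ X)).plus.fullyFaithfulι
    (DerivedCategory.TStructure.t (C := EtModW.Mod Λ S)).plus.fullyFaithfulι θ.symm
    (ObjectProperty.liftCompιIso _ _ _).symm).isLeftAdjoint

include ha hΛ hBC in
theorem isLE_shriekPlus (d : ℕ) (hdim : ∀ s : S, topologicalKrullDim ↥(f.fiber s) ≤ d)
    (K : DerivedCategory.Plus (EtModW.Mod Λ X)) (b : ℤ) [K.IsLE b] :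
    ((EtDl.RshriekPlus Λ c).obj K).IsLE (b + 2 * (d : ℤ)) := by
  obtain ⟨θ⟩ := nonempty_shriekPlusIso (Λ := Λ) c
  rw [← DerivedCategory.Plus.isLE_ι_obj_iff]
  suffices hs : ((shriekD (Λ := Λ) c).obj K.obj).IsLE (b + 2 * (d : ℤ)) by
    haveI : DerivedCategory.IsLE ((DerivedCategory.Plus.ι ⋙ shriekD (Λ := Λ) c).obj K) (b + 2 * (d : ℤ)) := hs
    exact DerivedCategory.TStructure.t.isLE_of_iso (θ.app K).symm _
  obtain ⟨a₀, ha₀⟩ := K.property
  haveI := ha₀
  haveI : K.obj.IsLE b := (DerivedCategory.Plus.isLE_ι_obj_iff K b).2 inferInstance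
  obtain ⟨C, hge, hle, ⟨eC⟩⟩ := DerivedCategory.exists_iso_Q_obj_of_isGE_of_isLE K.obj a₀ b
  haveI := hge; haveI := hle
  let E := EtDl.extZeroMod Λ c.j
  let C' : CochainComplex (EtModW.Mod Λ c.Xbar) ℤ := (cx E).obj C
  haveI hge' : C'.IsStrictlyGE a₀ := (CochainComplex.isStrictlyGE_iff _ _).2 fun i hi =>
    E.map_isZero (C.isZero_of_isStrictlyGE a₀ i hi)
  obtain ⟨J, φ, hφ, hinj, hJge⟩ := CochainComplex.Plus.modelCategoryQuillen.exists_quasiIso_injective C' a₀
  haveI := hφ; haveI := hinj; haveI := hJge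
  haveI : J.IsKInjective := CochainComplex.isKInjective_of_injective _ a₀
  haveI : IsIso (DerivedCategory.Q.map φ) := (DerivedCategory.isIso_Q_map_iff_quasiIso _ φ).2 inferInstance
  let α := (EtBC.pushModKh Λ c.fbar).totalRightDerivedUnit DerivedCategory.Qh
    (HomotopyCategory.quasiIso (EtModW.Mod Λ c.Xbar) (ComplexShape.up ℤ))
  haveI : IsIso ((SitePAdj.αQ α).app J) := SitePAdj.isIso_αQ α KInjLib.enoughKInj_of_grothendieck J
  let e' : DerivedCategory.Q.obj ((cx (EtModW.push Λ c.fbar)).obj J) ≅ (shriekD (Λ := Λ) c).obj K.obj :=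
    asIso ((SitePAdj.αQ α).app J) ≪≫ (EtBC.RpushModD Λ c.fbar).mapIso
      ((asIso (DerivedCategory.Q.map φ)).symm ≪≫ (E.mapDerivedCategoryFactors.app C).symm ≪≫
        E.mapDerivedCategory.mapIso eC.symm)
  suffices CochainComplex.IsLE ((cx (EtModW.push Λ c.fbar)).obj J) (b + 2 * (d : ℤ)) from
    DerivedCategory.TStructure.t.isLE_of_iso e' _
  rw [CochainComplex.isLE_iff]
  intro i hi
  let U := EtModD.forgetToAb Λ c.Xbar
  let J' : CochainComplex (EtCoh.Ab c.Xbar) ℤ := (cx U).obj J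
  haveI : J'.IsStrictlyGE a₀ := (CochainComplex.isStrictlyGE_iff _ _).2 fun i hi =>
    U.map_isZero (J.isZero_of_isStrictlyGE a₀ i hi)
  haveI : PreservesLimitsOfSize.{0, 0} (EtCoh.push c.fbar) := (EtCoh.pullPushAdj c.fbar).rightAdjoint_preservesLimits
  haveI hφm : ∀ m, IsIso (HomologicalComplex.homologyMap φ m) := fun m =>
    (quasiIsoAt_iff_isIso_homologyMap φ m).1 (hφ.quasiIsoAt m)
  have hH : ∀ m q, 2 * d < q → IsZero ((EtCoh.Rpush c.fbar q).obj (J'.homology m)) := fun m q hq => by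
    let H := (EtModD.forgetToAb Λ X).obj (C.homology m)
    let e : J'.homology m ≅ (EtShriek.extZero c.j).obj H :=
      (J.sc m).mapHomologyIso U ≪≫ U.mapIso ((asIso (HomologicalComplex.homologyMap φ m)).symm ≪≫
        (C.sc m).mapHomologyIso E) ≪≫ ((extZeroForget Λ c.j).app (C.homology m)).symm
    refine IsZero.of_iso ?_ ((EtCoh.Rpush c.fbar q).mapIso e)
    exact isZero_Rpush_extZero hBC c.j c.fbar d (by rw [c.fac]; exact hdim) H
      (isTorsion_of_nsmul ha (nsmul_forget hΛ (C.homology m))) q hq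
  have hexJ : ∀ m, b < m → J.ExactAt m := fun m hm => by
    rw [HomologicalComplex.exactAt_iff_isZero_homology]
    refine IsZero.of_iso ?_ ((asIso (HomologicalComplex.homologyMap φ m)).symm ≪≫ (C.sc m).mapHomologyIso E)
    exact E.map_isZero (C.exactAt_of_isLE b m hm).isZero_homology
  rcases le_or_gt (a₀ - 1) b with hab | hab
  · refine exactAt_pushMod ha hΛ hBC c.fbar (2 * d) J hinj b hexJ (fun q hq => ?_) i (by push_cast; omega)
    obtain ⟨k, hk⟩ : ∃ k : ℕ, b = a₀ - 1 + k := ⟨(b - (a₀ - 1)).toNat, by omega⟩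
    rw [hk]
    exact isZero_cycles_of_homology (EtCoh.push c.fbar) J' (fun m q hq => by
        haveI := hinj m
        exact EtAcyc24.isZero_Rpush_of_acyc c.fbar (acyc_forget Λ (J.X m)) q hq) (2 * d) a₀ hH k q hq
  · refine exactAt_pushMod ha hΛ hBC c.fbar (2 * d) J hinj b hexJ (fun q hq => ?_) i (by push_cast; omega)
    have hadd : ((EtCoh.push c.fbar).rightDerived q).Additive := RFPlus.rightDerived_additive _ q
    exact Functor.map_isZero _ ((J'.isZero_of_isStrictlyGE a₀ b (by omega)).of_mono (J'.iCycles b))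

include ha hΛ hBC in
theorem isGE_of_adj (d : ℕ) (hdim : ∀ s : S, topologicalKrullDim ↥(f.fiber s) ≤ d)
    (G : DerivedCategory.Plus (EtModW.Mod Λ S) ⥤ DerivedCategory.Plus (EtModW.Mod Λ X))
    (adj : EtDl.RshriekPlus Λ c ⊣ G) (L : DerivedCategory.Plus (EtModW.Mod Λ S)) (k : ℤ) [L.IsGE k] :
    (G.obj L).IsGE (k - 2 * (d : ℤ)) := by
  let t := DerivedCategory.Plus.TStructure.t (C := EtModW.Mod Λ X)
  show t.IsGE (G.obj L) (k - 2 * (d : ℤ))
  rw [t.isGE_iff_isZero_truncLE_obj (k - 2 * (d : ℤ) - 1) _ (by omega)]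
  rw [IsZero.iff_id_eq_zero]
  refine t.to_truncLE_obj_ext (Subsingleton.elim (h := ?_) _ _)
  haveI : ((t.truncLE (k - 2 * (d : ℤ) - 1)).obj (G.obj L)).IsLE (k - 2 * (d : ℤ) - 1) := t.isLE_truncLE_obj _ _ _
  haveI hle := isLE_shriekPlus ha hΛ hBC c d hdim ((t.truncLE (k - 2 * (d : ℤ) - 1)).obj (G.obj L)) (k - 2 * (d : ℤ) - 1)
  refine ⟨fun u v => (adj.homEquiv _ _).symm.injective ?_⟩
  exact (DerivedCategory.Plus.TStructure.t.zero_of_isLE_of_isGE _ _ k (by omega) hle inferInstance).trans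
    (DerivedCategory.Plus.TStructure.t.zero_of_isLE_of_isGE _ _ k (by omega) hle inferInstance).symm

end Shriek

end Groth.Agent.PBC24
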