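import Groth.Agent.Lib.PBC24.Reductions
import Groth.Agent.Lib.ExtShriek24.Iso
import Groth.Agent.Lib.ExtShriek24.ToPush
import Groth.Agent.Lib.EtBCQ24.EtaleBC
import Groth.Agent.Lib.BCInj6.Compose
import Groth.Agent.Lib.FieldH25.Transfer

/-!
# Extension by zero commutes with higher direct images along proper morphisms
-/

set_option autoImplicit false
set_option linter.style.haveILetI false
set_option linter.unusedSectionVars false
set_option backward.isDefEq.respectTransparency false

universe u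

open CategoryTheory CategoryTheory.Limits AlgebraicGeometry Opposite
open Groth.Agent.EtStalk

namespace Groth.Agent.PBC24

variable {U V X Y : Scheme.{u}} (j₁ : U ⟶ X) [IsOpenImmersion j₁] (j₂ : V ⟶ Y) [IsOpenImmersion j₂]
  (g : U ⟶ V) [IsProper g] (f : X ⟶ Y) [IsProper f]

include j₂ g in
/-- Higher direct images of an extension by zero vanish at the points outside. -/
theorem isZero_stalk_Rpush_extZero (hf : HasBC f) (w : j₁ ≫ f = g ≫ j₂) (F : EtCoh.Ab U)
    (hF : EtCoh.IsTorsion ((EtShriek.extZero j₁).obj F)) (q : ℕ) {Ω : Type u} [Field Ω] [IsSepClosed Ω]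
    (ξ : Spec (CommRingCat.of Ω) ⟶ Y) (hξ : ξ (default : Spec (CommRingCat.of Ω)) ∉ Set.range j₂) :
    IsZero ((EtCoh.stalk ξ).obj ((EtCoh.Rpush f q).obj ((EtShriek.extZero j₁).obj F))) := by
  let p := pullback.fst f ξ
  let G := (EtShriek.extZero j₁).obj F
  have hz : IsZero ((EtCoh.pull p).obj G) := by
    rw [IsZero.iff_id_eq_zero]
    haveI : IsIso (0 : (EtCoh.pull p).obj G ⟶ (EtCoh.pull p).obj G) := by
      rw [isIso_iff_stalk]
      intro L _ _ ζ
      haveI : IsIso (stalkPull p ζ G) := inferInstance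
      have hout : (ζ ≫ p) (default : Spec (CommRingCat.of L)) ∉ Set.range j₁ := by
        rintro ⟨x, hx⟩
        refine hξ ⟨g x, ?_⟩
        have e : (j₁ ≫ f) x = ξ (default : Spec (CommRingCat.of Ω)) := by
          rw [Scheme.Hom.comp_apply, hx, ← Scheme.Hom.comp_apply, Category.assoc, pullback.condition,
            Scheme.Hom.comp_apply, Scheme.Hom.comp_apply]
          exact congrArg ξ (Subsingleton.elim (α := PrimeSpectrum Ω) _ _)
        rwa [w, Scheme.Hom.comp_apply] at e
      have h1 : IsZero ((EtCoh.stalk ζ).obj ((EtCoh.pull p).obj G)) :=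
        (stalk_extZero_isZero j₁ F (ζ ≫ p) hout).of_iso (asIso (stalkPull p ζ G)).symm
      have h2 := AddCommGrpCat.subsingleton_of_isZero h1
      exact ⟨fun a b _ => @Subsingleton.elim _ h2 a b, fun b => ⟨0, @Subsingleton.elim _ h2 _ _⟩⟩
    exact (cancel_mono (0 : (EtCoh.pull p).obj G ⟶ (EtCoh.pull p).obj G)).1 (by rw [comp_zero, comp_zero])
  haveI := hf (pullback.snd f ξ) ξ p (IsPullback.of_hasPullback f ξ) G hF q
  have hz2 : IsZero ((EtCoh.pull ξ).obj ((EtCoh.Rpush f q).obj G)) :=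
    IsZero.of_iso (Functor.map_isZero (EtCoh.Rpush (pullback.snd f ξ) q) hz)
      (asIso (EtBC.bcQ f ξ (pullback.snd f ξ) p (IsPullback.of_hasPullback f ξ).w q G))
  rw [← Category.id_comp ξ]
  exact (Functor.map_isZero (EtCoh.stalk (𝟙 (Spec (CommRingCat.of Ω)))) hz2).of_iso
    (asIso (stalkPull ξ (𝟙 _) ((EtCoh.Rpush f q).obj G)))

/-- Extension by zero commutes with higher direct images along proper morphisms. -/
theorem nonempty_extZero_Rpush_iso (hf : HasBC f) (w : j₁ ≫ f = g ≫ j₂) (F : EtCoh.Ab U)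
    (hF : EtCoh.IsTorsion ((EtShriek.extZero j₁).obj F)) (q : ℕ) :
    Nonempty ((EtShriek.extZero j₂).obj ((EtCoh.Rpush g q).obj F) ≅
      (EtCoh.Rpush f q).obj ((EtShriek.extZero j₁).obj F)) := by
  let G := (EtShriek.extZero j₁).obj F
  let pX := pullback.fst f j₂
  let pV := pullback.snd f j₂
  let a : U ⟶ pullback f j₂ := pullback.lift j₁ g w
  have ha : a ≫ pX = j₁ := pullback.lift_fst _ _ _
  have ha' : a ≫ pV = g := pullback.lift_snd _ _ _
  haveI : IsOpenImmersion pX := inferInstanceAs (IsOpenImmersion (pullback.fst f j₂))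
  haveI : IsOpenImmersion (a ≫ pX) := by rw [ha]; infer_instance
  haveI : IsOpenImmersion a := IsOpenImmersion.of_comp a pX
  haveI : IsProper pV := MorphismProperty.pullback_snd f j₂ ‹IsProper f›
  haveI : IsProper (a ≫ pV) := by rw [ha']; infer_instance
  haveI : IsProper a := IsProper.of_comp a pV
  haveI : IsClosedImmersion a := IsClosedImmersion.of_isPreimmersion a a.isClosedMap.isClosed_range
  -- restriction of `j₁_! F` to the inverse image of `V`
  haveI : IsIso ((EtShriek.extZeroAdj pX).unit.app ((EtShriek.extZero a).obj F)) := inferInstance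
  haveI := ExtShriek24.isIso_toPush a F
  let e₁ : (EtCoh.pull pX).obj G ≅ (EtCoh.push a).obj F :=
    (EtCoh.pull pX).mapIso ((ExtShriek24.extZeroComp a pX j₁ ha).app F).symm ≪≫
      ((restrPullIso pX).app _).symm ≪≫
      (asIso ((EtShriek.extZeroAdj pX).unit.app ((EtShriek.extZero a).obj F))).symm ≪≫
      asIso ((ExtShriek24.toPush a).app F)
  obtain ⟨e₂⟩ := BCInj6.nonempty_Rpush_comp a pV F (fun i hi => FieldH25.isZero_Rpush_integral a F i hi) q
  haveI := EtBCQ24.isIso_bcQ_etale f j₂ pV pX (IsPullback.of_hasPullback f j₂) G q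
  let R := (EtCoh.Rpush f q).obj G
  let e : (EtShriek.restrAlong j₂).obj R ≅ (EtCoh.Rpush g q).obj F :=
    (restrPullIso j₂).app R ≪≫ asIso (EtBC.bcQ f j₂ pV pX (IsPullback.of_hasPullback f j₂).w q G) ≪≫
      (EtCoh.Rpush pV q).mapIso e₁ ≪≫ e₂ ≪≫
      eqToIso (congrArg (fun t => (EtCoh.Rpush t q).obj F) ha')
  haveI := EtStalk.isIso_extZero_counit j₂ R fun Ω _ _ ξ hξ =>
    isZero_stalk_Rpush_extZero j₁ j₂ g f hf w F hF q ξ hξ
  exact ⟨(EtShriek.extZero j₂).mapIso e.symm ≪≫ asIso ((EtShriek.extZeroAdj j₂).counit.app R)⟩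

end Groth.Agent.PBC24
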