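import Groth.Agent.Lib.PBC24.Reductions
import Groth.Agent.Lib.PBC24.Main
import Groth.Agent.Lib.BcMapQ6.GenericMain
import Groth.Agent.Lib.BcMapQ6.AlgPoint
import Groth.Agent.Lib.LocAcycBC6.LocBC
import Groth.Agent.Lib.LocAcycBC6.Test
import Groth.Agent.Lib.HensH7.Integral
import Groth.Agent.S6642

/-!
# Specialisation for proper locally acyclic morphisms
-/

set_option autoImplicit false
set_option linter.style.haveILetI false
set_option linter.unusedSectionVars false
set_option backward.isDefEq.respectTransparency false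
set_option backward.isDefEq.respectTransparency.types false

universe u

open CategoryTheory CategoryTheory.Limits AlgebraicGeometry Opposite IsLocalRing

namespace Groth.Agent.PBC24

open Groth.Agent.EtStalk

theorem residue_field_algebraic {A A' : Type u} [CommRing A] [CommRing A'] (φ : A →+* A') (hφ : φ.IsIntegral)
    (t' : Spec (CommRingCat.of A')) (Ω : Type u) [Field Ω] [Algebra ((Spec (CommRingCat.of A')).residueField t') Ω]
    [Algebra.IsAlgebraic ((Spec (CommRingCat.of A')).residueField t') Ω] :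
    letI := ((Spec.map (CommRingCat.ofHom φ)).residueFieldMap t' ≫
      CommRingCat.ofHom (algebraMap ((Spec (CommRingCat.of A')).residueField t') Ω)).hom.toAlgebra
    Algebra.IsAlgebraic ((Spec (CommRingCat.of A)).residueField ((Spec.map (CommRingCat.ofHom φ)).base t')) Ω := by
  let s := Spec.map (CommRingCat.ofHom φ)
  let K := (Spec (CommRingCat.of A)).residueField (s.base t')
  let K' := (Spec (CommRingCat.of A')).residueField t'
  letI : Algebra K K' := (s.residueFieldMap t').hom.toAlgebra
  letI : Algebra K Ω := ((s.residueFieldMap t') ≫ CommRingCat.ofHom (algebraMap K' Ω)).hom.toAlgebra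
  haveI : IsScalarTower K K' Ω := IsScalarTower.of_algebraMap_eq fun _ => rfl
  have key : CommRingCat.ofHom φ ≫ (StructureSheaf.toStalk A' t' ≫ (Spec (CommRingCat.of A')).residue t') =
      (StructureSheaf.toStalk A (s.base t') ≫ (Spec (CommRingCat.of A)).residue (s.base t')) ≫ s.residueFieldMap t' := by
    refine Spec.map_injective ?_
    have h := Scheme.Hom.SpecMap_residueFieldMap_fromSpecResidueField s t'
    rw [Scheme.fromSpecResidueField, Scheme.fromSpecResidueField, Spec.fromSpecStalk_eq', Spec.fromSpecStalk_eq'] at h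
    simp only [Spec.map_comp, Category.assoc]
    exact Eq.trans (Category.assoc _ _ _).symm h.symm
  have hint : ∀ a : A', IsIntegral K ((StructureSheaf.toStalk A' t' ≫ (Spec (CommRingCat.of A')).residue t') a) := by
    intro a
    letI : Algebra A A' := φ.toAlgebra
    have ha : IsIntegral A a := hφ a
    exact ha.map_of_comp_eq (StructureSheaf.toStalk A (s.base t') ≫ (Spec (CommRingCat.of A)).residue (s.base t')).hom
      (StructureSheaf.toStalk A' t' ≫ (Spec (CommRingCat.of A')).residue t').hom
      (congrArg CommRingCat.Hom.hom key).symm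
  haveI : Algebra.IsAlgebraic K K' := ⟨fun z => by
    obtain ⟨a, b, hb, hab⟩ := BcMapQ6.exists_frac A' t' z
    rw [eq_div_iff hb |>.2 hab, div_eq_mul_inv]
    exact (hint a).isAlgebraic.mul (hint b).isAlgebraic.inv⟩
  exact Algebra.IsAlgebraic.trans K K' Ω

/-- Local acyclicity is stable under integral base change. -/
theorem isLocAcyclicN_snd_of_isIntegral {X Y Y' : Scheme.{u}} {f : X ⟶ Y} (i : Y' ⟶ Y) [IsIntegralHom i]
    {L : Set ℕ} {n : ℕ} (hf : EtAcyc.IsLocAcyclicN f L n) :
    EtAcyc.IsLocAcyclicN (pullback.snd f i) L n := by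
  by_cases hL : ∃ ℓ ∈ L, ℓ.Prime
  swap
  · push Not at hL
    intro x RY RX _ _ _ _ _ _ _ _ _ _ _ _ _ V
    exact BcMapQ6.compN_of_no_prime _ hL n
  refine LocAcycBC6.isLocAcyclicN_of_geomFibres n _ ?_
  intro x' RY' RX' _ _ _ _ _ _ _ _ _ _ _ _ hc t' Ω _ _ _ _
  let x := (pullback.fst f i).base x'
  let RX := Hens.Hsh (X.presheaf.stalk x)
  let RY := Hens.Hsh (Y.presheaf.stalk (f.base x))
  obtain ⟨γ, φ, β, hγ, hφi, hγc, -, sqS⟩ := LocAcycBC6.exists_strictLocalization_isPullback f i
    (LocAcyc24.isIntegral_specOf_isIntegralHom i) x' RY' RX' RY RX hc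
  letI := γ.toAlgebra
  haveI : IsLocalHom (algebraMap RY RX) := hγ
  let sφ := Spec.map (CommRingCat.ofHom φ)
  let t := sφ.base t'
  letI : Algebra ((Spec (CommRingCat.of RY)).residueField t) Ω :=
    (sφ.residueFieldMap t' ≫ CommRingCat.ofHom (algebraMap ((Spec (CommRingCat.of RY')).residueField t') Ω)).hom.toAlgebra
  haveI : Algebra.IsAlgebraic ((Spec (CommRingCat.of RY)).residueField t) Ω := residue_field_algebraic φ hφi t' Ω
  have hacyc := LocAcycBC6.geomFibres_of_locAcyclic hL hf x RY RX hγc t Ω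
  have hgeo : EtAcyc.geomPt (Spec (CommRingCat.of RY')) t' Ω ≫ sφ = EtAcyc.geomPt (Spec (CommRingCat.of RY)) t Ω := by
    change (Spec.map (CommRingCat.ofHom (algebraMap _ Ω)) ≫ _) ≫ sφ =
      Spec.map (CommRingCat.ofHom (sφ.residueFieldMap t' ≫
        CommRingCat.ofHom (algebraMap ((Spec (CommRingCat.of RY')).residueField t') Ω)).hom) ≫ _
    rw [Category.assoc, ← Scheme.Hom.SpecMap_residueFieldMap_fromSpecResidueField, CommRingCat.ofHom_hom,
      Spec.map_comp, Category.assoc]
  let sψ' := Spec.map (CommRingCat.ofHom (algebraMap RY' RX'))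
  let g' := EtAcyc.geomPt (Spec (CommRingCat.of RY')) t' Ω
  have sqT : IsPullback (pullback.fst sψ' g' ≫ Spec.map (CommRingCat.ofHom β)) (pullback.snd sψ' g')
      (Spec.map (CommRingCat.ofHom γ)) (g' ≫ sφ) := (IsPullback.of_hasPullback sψ' g').paste_horiz sqS
  rw [hgeo] at sqT
  let j := sqT.isoPullback
  obtain ⟨hne, hconn, hvan⟩ := hacyc
  haveI := hconn
  refine ⟨hne.map j.inv.base,
    Function.Surjective.connectedSpace (Scheme.homeoOfIso j.symm).surjective (Scheme.homeoOfIso j.symm).continuous,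
    fun ℓ hℓ hℓL q hq₁ hq => ?_⟩
  obtain ⟨e⟩ := LocAcyc24.nonempty_H_const_addEquiv j.hom (ZMod ℓ) q
  haveI := hvan ℓ hℓ hℓL q hq₁ hq
  exact e.symm.toEquiv.subsingleton

/-- A local integral extension of strictly henselian local rings compares cohomology. -/
theorem compN_strictExt {A B : Type u} [CommRing A] [HenselianLocalRing A] [IsSepClosed (ResidueField A)]
    [CommRing B] [HenselianLocalRing B] [IsSepClosed (ResidueField B)] (φ : A →+* B) [IsLocalHom φ] (n : ℕ) :
    EtAcyc.CompN (Spec.map (CommRingCat.ofHom φ)) Set.univ n := by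
  refine (EtAcyc24.compN_comp_iff (Spec.map (CommRingCat.ofHom (residue B))) (Spec.map (CommRingCat.ofHom φ))
    (compN_closedPoint B n)).2 ?_
  rw [← Spec.map_comp, ← CommRingCat.ofHom_comp,
    show (residue B).comp φ = (ResidueField.map φ).comp (residue A) from RingHom.ext fun _ => rfl,
    CommRingCat.ofHom_comp, Spec.map_comp]
  exact (EtAcyc24.compN_comp_iff _ _ (compN_sepClosed (ResidueField.map φ) n)).1 (compN_closedPoint A n)

/-- Specialisation for a proper locally acyclic morphism over a strictly henselian base. -/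
theorem bijective_Hpull_geomFibre (R : Type u) [CommRing R] [HenselianLocalRing R] [IsSepClosed (ResidueField R)]
    {X : Scheme.{u}} (f : X ⟶ Spec (CommRingCat.of R)) [IsProper f] (L : Set ℕ) (n : ℕ)
    (hf : EtAcyc.IsLocAcyclicN f L n) (F : EtCoh.Ab X) (hF : EtAcyc.IsLTorsion L F)
    (hlc : EtRest.IsLocallyConstant F) (y₁ : Spec (CommRingCat.of R)) (Ω : Type u) [Field Ω] [IsSepClosed Ω]
    [Algebra ((Spec (CommRingCat.of R)).residueField y₁) Ω]
    [Algebra.IsAlgebraic ((Spec (CommRingCat.of R)).residueField y₁) Ω]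
    [PreservesFiniteLimits (EtCoh.pull (pullback.fst f (EtAcyc.geomPt (Spec (CommRingCat.of R)) y₁ Ω)))] :
    (∀ q : ℕ, q ≤ n →
      Function.Bijective (EtCore.Hpull (pullback.fst f (EtAcyc.geomPt (Spec (CommRingCat.of R)) y₁ Ω)) F q)) ∧
    Function.Injective (EtCore.Hpull (pullback.fst f (EtAcyc.geomPt (Spec (CommRingCat.of R)) y₁ Ω)) F (n + 1)) := by
  let K := (Spec (CommRingCat.of R)).residueField y₁
  let ρ₀ : R →+* K := (StructureSheaf.toStalk R y₁ ≫ (Spec (CommRingCat.of R)).residue y₁).hom
  let R₁ : Subring K := ρ₀.range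
  letI : Algebra R₁ Ω := ((algebraMap K Ω).comp R₁.subtype).toAlgebra
  letI : Algebra R₁ K := R₁.subtype.toAlgebra
  haveI : IsScalarTower R₁ K Ω := IsScalarTower.of_algebraMap_eq fun _ => rfl
  have hinj : Function.Injective (algebraMap R₁ Ω) :=
    (algebraMap K Ω).injective.comp Subtype.val_injective
  haveI : FaithfulSMul R₁ Ω := (faithfulSMul_iff_algebraMap_injective R₁ Ω).2 hinj
  haveI : Algebra.IsAlgebraic R₁ K := ⟨fun z => by
    obtain ⟨a, b, hb, hab⟩ := BcMapQ6.exists_frac R y₁ z
    have hba : ρ₀ b * z - ρ₀ a = 0 := by rw [mul_comm]; exact sub_eq_zero.2 hab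
    refine ⟨Polynomial.C (⟨ρ₀ b, b, rfl⟩ : R₁) * Polynomial.X - Polynomial.C ⟨ρ₀ a, a, rfl⟩, fun h => ?_, ?_⟩
    · have h1 := congrArg (fun p => Polynomial.coeff p 1) h
      simp at h1
      exact hb (congrArg Subtype.val h1)
    · simp only [map_sub, map_mul, Polynomial.aeval_C, Polynomial.aeval_X]
      exact hba⟩
  haveI : Algebra.IsAlgebraic R₁ Ω := Algebra.IsAlgebraic.trans R₁ K Ω
  let A := integralClosure R₁ Ω
  haveI : IsFractionRing A Ω :=
    integralClosure.isFractionRing_of_algebraic fun x hx => (map_eq_zero_iff _ hinj).mp hx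
  haveI : IsIntegrallyClosed A := (isIntegrallyClosed_iff_isIntegrallyClosedIn Ω).2 inferInstance
  letI : Algebra R A := ((algebraMap R₁ A).comp ρ₀.rangeRestrict).toAlgebra
  haveI : Algebra.IsIntegral R A := ⟨by
    have h1 : (ρ₀.rangeRestrict).IsIntegral := RingHom.isIntegral_of_surjective _ ρ₀.rangeRestrict_surjective
    have h2 : (algebraMap R₁ A).IsIntegral := fun x => Algebra.IsIntegral.isIntegral x
    exact RingHom.IsIntegral.trans _ _ h1 h2⟩
  obtain ⟨hA, hloc, hsep⟩ := HensH7.henselian_of_integral_domain (A := R) (B := A)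
  haveI := hA; haveI := hloc
  haveI : IsSepClosed (ResidueField A) := (hsep inferInstance).1
  let i := Spec.map (CommRingCat.ofHom (algebraMap R A))
  haveI : IsIntegralHom i := IsIntegralHom.SpecMap_iff.2 (fun x => Algebra.IsIntegral.isIntegral x)
  let p := pullback.fst f i
  let f' := pullback.snd f i
  let S := Spec (CommRingCat.of A)
  haveI : IsIntegral S := inferInstance
  let η : S := genericPoint S
  let τA : Spec (CommRingCat.of Ω) ⟶ S := Spec.map (CommRingCat.ofHom (algebraMap A Ω))
  have hτ : τA.base (closedPoint Ω) = η := by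
    show τA.base (closedPoint Ω) = genericPoint (Spec (CommRingCat.of A))
    rw [genericPoint_eq_bot_of_affine]
    refine PrimeSpectrum.ext ?_
    show Ideal.comap (algebraMap A Ω) (maximalIdeal Ω) = (⊥ : Ideal A)
    rw [IsLocalRing.maximalIdeal_eq_bot, Ideal.comap_bot_of_injective _ (IsFractionRing.injective A Ω)]
  obtain ⟨φ, hφ⟩ : ∃ φ : S.residueField η ⟶ CommRingCat.of Ω, Spec.map φ ≫ S.fromSpecResidueField η = τA := by
    rw [← hτ]
    exact ⟨S.descResidueField (Scheme.stalkClosedPointTo τA),
      Scheme.descResidueField_stalkClosedPointTo_fromSpecResidueField Ω S τA⟩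
  have hbij : Function.Bijective φ.hom := by
    refine ⟨φ.hom.injective, fun z => ?_⟩
    obtain ⟨a, b, hb, rfl⟩ := IsFractionRing.div_surjective (A := A) (K := Ω) z
    have hk : ∀ r : A, φ.hom ((StructureSheaf.toStalk A η ≫ S.residue η) r) = algebraMap A Ω r := fun r => by
      have h : (StructureSheaf.toStalk A η ≫ S.residue η) ≫ φ = CommRingCat.ofHom (algebraMap A Ω) := by
        refine Spec.map_injective (Eq.trans ?_ hφ)
        rw [Spec.map_comp, Spec.map_comp, Scheme.fromSpecResidueField, Spec.fromSpecStalk_eq']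
      exact congrArg (fun m : CommRingCat.of A ⟶ CommRingCat.of Ω => m r) h
    exact ⟨(StructureSheaf.toStalk A η ≫ S.residue η) a / (StructureSheaf.toStalk A η ≫ S.residue η) b,
      by rw [map_div₀, hk, hk]⟩
  haveI : IsIso φ := (ConcreteCategory.isIso_iff_bijective φ).2 hbij
  haveI : IsSepClosed (S.residueField (genericPoint S)) :=
    EtPic3.isSepClosed_of_ringEquiv (RingEquiv.ofBijective φ.hom hbij).symm
  have hnorm : Pi1.IsNormalScheme S := fun s => by
    letI : Algebra A (S.presheaf.stalk s) := StructureSheaf.stalkAlgebra (R := A) (s : PrimeSpectrum A)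
    haveI : IsLocalization.AtPrime (S.presheaf.stalk s) (s : PrimeSpectrum A).asIdeal :=
      StructureSheaf.IsLocalization.to_stalk A s
    have hle : (s : PrimeSpectrum A).asIdeal.primeCompl ≤ nonZeroDivisors A :=
      (s : PrimeSpectrum A).asIdeal.primeCompl_le_nonZeroDivisors
    haveI := IsLocalization.isDomain_of_le_nonZeroDivisors (R := A) (S.presheaf.stalk s) hle
    exact ⟨inferInstance, isIntegrallyClosed_of_isLocalization
      (S.presheaf.stalk s) (s : PrimeSpectrum A).asIdeal.primeCompl hle⟩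
  have hτi : τA ≫ i = EtAcyc.geomPt (Spec (CommRingCat.of R)) y₁ Ω := by
    change Spec.map _ ≫ Spec.map _ = Spec.map _ ≫ _
    rw [Scheme.fromSpecResidueField, Spec.fromSpecStalk_eq', ← Spec.map_comp]
    erw [← Spec.map_comp, ← Spec.map_comp]
    congr 1
  let F' := (EtCoh.pull p).obj F
  let a := pullback.fst f' (S.fromSpecResidueField η)
  haveI := preservesFiniteLimits_pull p
  haveI := preservesFiniteLimits_pull a
  obtain ⟨h1, h2⟩ := BcMapQ6.bijective_Hpull_genericFibre hnorm f' L n (isLocAcyclicN_snd_of_isIntegral i hf) F'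
    (EtAcyc24.isLTorsion_pull p L hF) ((Groth.Agent.S6642.result p).1 F hlc)
  haveI : CompactSpace X := QuasiCompact.compactSpace_of_compactSpace f
  haveI : QuasiSeparatedSpace X := quasiSeparatedSpace_of_quasiSeparated f
  have hp : ∀ q, Function.Bijective (EtCore.Hpull p F q) := fun q =>
    bijective_Hpull_of_hasBC (properBC f inferInstance) (IsPullback.of_hasPullback f i)
      (compN_strictExt (algebraMap R A)) (isTorsion_of_isLTorsion hF) q
  have sq : IsPullback (a ≫ p) (pullback.snd f' (S.fromSpecResidueField η) ≫ inv (Spec.map φ)) f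
      (EtAcyc.geomPt (Spec (CommRingCat.of R)) y₁ Ω) := by
    rw [← hτi]
    refine IsPullback.paste_horiz ?_ (IsPullback.of_hasPullback f i)
    refine IsPullback.of_iso (IsPullback.of_hasPullback f' (S.fromSpecResidueField η)) (Iso.refl _) (Iso.refl _)
      (asIso (Spec.map φ)).symm (Iso.refl _) (by simp [a]) (by simp) (by simp [f']) ?_
    simp only [Iso.refl_hom, Category.comp_id, Iso.symm_hom, asIso_inv]
    rw [← hφ, IsIso.inv_hom_id_assoc]
  let j := sq.isoPullback
  have hj : j.inv ≫ a ≫ p = pullback.fst f (EtAcyc.geomPt (Spec (CommRingCat.of R)) y₁ Ω) := sq.isoPullback_inv_fst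
  haveI := preservesFiniteLimits_pull j.inv
  haveI := preservesFiniteLimits_pull (a ≫ p)
  haveI := preservesFiniteLimits_pull (j.inv ≫ a ≫ p)
  have key : ∀ q, (Function.Bijective (EtCore.Hpull a F' q) →
      Function.Bijective (EtCore.Hpull (pullback.fst f (EtAcyc.geomPt (Spec (CommRingCat.of R)) y₁ Ω)) F q)) ∧
      (Function.Injective (EtCore.Hpull a F' q) →
      Function.Injective (EtCore.Hpull (pullback.fst f (EtAcyc.geomPt (Spec (CommRingCat.of R)) y₁ Ω)) F q)) := by
    intro q
    have hi : Function.Bijective (EtCore.Hpull j.inv ((EtCoh.pull (a ≫ p)).obj F) q) :=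
      LocAcyc24.bijective_Hpull_of_isIso j.inv _ q
    have hc : ∀ (g : pullback f (EtAcyc.geomPt (Spec (CommRingCat.of R)) y₁ Ω) ⟶ X)
        [PreservesFiniteLimits (EtCoh.pull g)], g = j.inv ≫ a ≫ p →
        (Function.Bijective (EtCore.Hpull a F' q) → Function.Bijective (EtCore.Hpull g F q)) ∧
        (Function.Injective (EtCore.Hpull a F' q) → Function.Injective (EtCore.Hpull g F q)) := by
      rintro g _ rfl
      rw [EtAcyc24.Hpull_comp_eq, EtAcyc24.Hpull_comp_eq]
      exact ⟨fun h => (EtAcyc24.bijective_comp_iso _ q).comp (hi.comp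
          ((EtAcyc24.bijective_comp_iso _ q).comp (h.comp (hp q)))),
        fun h => (EtAcyc24.bijective_comp_iso _ q).1.comp (hi.1.comp
          ((EtAcyc24.bijective_comp_iso _ q).1.comp (h.comp (hp q).1)))⟩
    exact hc _ hj.symm
  exact ⟨fun q hq => (key q).1 (h1 q hq), (key (n + 1)).2 h2⟩

end Groth.Agent.PBC24
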